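import Mathlib.GroupTheory.Sylow
import Mathlib.GroupTheory.Perm.Fin
import Mathlib.GroupTheory.SpecificGroups.Alternating.Simple
import Cfsg.Agent.Small.Dihedral

/-!
# The centraliser frame of a group of Hall–Janko type

`Q` is extraspecial of order 32, `Q ⊴ C(z)` with quotient `A₅`, and `Q` contains a conjugate of
`z` other than `z`. We show that the non-central involutions of `Q` form five pairs, permuted
by `C(z)` as by `A₅`.
-/

set_option autoImplicit false
set_option linter.style.haveILetI false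

namespace CfsgLib.HallJanko

variable {G : Type*} [Group G]

/-- Equality up to multiplication by `z`. -/
def Eqz (z x y : G) : Prop := x = y ∨ x = y * z

/-- The hypotheses on the centraliser of an involution. -/
structure PreCore (z : G) (Q : Subgroup G) : Prop where
  hz : orderOf z = 2
  hQC : ∀ q ∈ Q, q * z = z * q
  hn : ∀ c : G, c * z = z * c → ∀ q ∈ Q, c * q * c⁻¹ ∈ Q
  hcard : Nat.card Q = 32
  hzQ : z ∈ Q
  hcenter : ∀ q ∈ Q, (∀ p ∈ Q, q * p = p * q) → q = 1 ∨ q = z
  hcomm : ∀ a ∈ Q, ∀ b ∈ Q, a * b = b * a ∨ a * b = b * a * z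
  hsq : ∀ q ∈ Q, q * q = 1 ∨ q * q = z
  hCQ : ∀ c : G, c * z = z * c → (∀ q ∈ Q, c * q = q * c) → c ∈ Q
  hquot : ∃ f : Subgroup.centralizer ({z} : Set G) →* alternatingGroup (Fin 5),
    Function.Surjective f ∧ ∀ c, f c = 1 ↔ (c : G) ∈ Q

/-- The hypotheses on the centraliser together with those on the fusion. -/
structure Core (z : G) (Q : Subgroup G) : Prop extends PreCore z Q where
  hnwc : ∃ u ∈ Q, u ≠ z ∧ IsConj z u
  hcl : ∃ x y : G, orderOf x = 2 ∧ orderOf y = 2 ∧ ¬ IsConj x y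

instance {z : G} {Q : Subgroup G} : Coe (Core z Q) (PreCore z Q) := ⟨Core.toPreCore⟩

/-- The five pairs of involutions of `Q` and the action of `C(z)` on them. -/
structure Frame (z : G) (Q : Subgroup G) where
  a : Fin 5 → G
  π : Subgroup.centralizer ({z} : Set G) →* alternatingGroup (Fin 5)
  mem : ∀ i, a i ∈ Q
  sq : ∀ i, a i * a i = 1
  ne_one : ∀ i, a i ≠ 1
  ne_z : ∀ i, a i ≠ z
  dist : ∀ i j, Eqz z (a i) (a j) → i = j
  nc : ∀ i j, i ≠ j → a i * a j = a j * a i * z
  cover : ∀ q ∈ Q, Eqz z q 1 ∨ (∃ i, Eqz z q (a i)) ∨ ∃ i j, i ≠ j ∧ Eqz z q (a i * a j)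
  pair : ∀ i j k l, i ≠ j → k ≠ l → Eqz z (a i * a j) (a k * a l) →
    (i = k ∧ j = l) ∨ (i = l ∧ j = k)
  surj : Function.Surjective π
  ker : ∀ c, π c = 1 ↔ (c : G) ∈ Q
  act : ∀ (c : Subgroup.centralizer ({z} : Set G)) i,
    Eqz z ((c : G) * a i * (c : G)⁻¹) (a ((π c : Equiv.Perm (Fin 5)) i))

namespace PreCore

variable {z : G} {Q : Subgroup G} (h : PreCore z Q)
include h

theorem zz : z * z = 1 := CfsgLib.Small.mul_self_of_orderOf_two h.hz

theorem z_ne_one : z ≠ 1 := CfsgLib.Small.ne_one_of_orderOf_two h.hz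

theorem eqz_symm {x y : G} (hxy : Eqz z x y) : Eqz z y x := by
  rcases hxy with e | e
  · exact Or.inl e.symm
  · exact Or.inr (by rw [e, mul_assoc, h.zz, mul_one])

theorem eqz_trans {x y w : G} (hxy : Eqz z x y) (hyw : Eqz z y w) : Eqz z x w := by
  rcases hxy with rfl | rfl
  · exact hyw
  · rcases hyw with rfl | rfl
    · exact Or.inr rfl
    · exact Or.inl (by rw [mul_assoc, h.zz, mul_one])

theorem eqz_mul {x y x' y' : G} (hy : y' * z = z * y') (h1 : Eqz z x x') (h2 : Eqz z y y') :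
    Eqz z (x * y) (x' * y') := by
  rcases h1 with rfl | rfl <;> rcases h2 with rfl | rfl
  · exact Or.inl rfl
  · exact Or.inr (by rw [mul_assoc])
  · exact Or.inr (by rw [mul_assoc, ← hy, ← mul_assoc])
  · exact Or.inl (by
      rw [mul_assoc x' z, ← mul_assoc z y', ← hy, mul_assoc y' z, h.zz, mul_one])

theorem eqz_conj {g x y : G} (hg : g * z = z * g) (hxy : Eqz z x y) :
    Eqz z (g * x * g⁻¹) (g * y * g⁻¹) := by
  rcases hxy with rfl | rfl
  · exact Or.inl rfl
  · refine Or.inr ?_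
    have hg' : z * g⁻¹ = g⁻¹ * z := (Commute.inv_left (show Commute g z from hg)).eq.symm
    rw [← mul_assoc g y z, mul_assoc (g * y) z, hg', ← mul_assoc]

theorem eqz_mem {x y : G} (hy : y ∈ Q) (hxy : Eqz z x y) : x ∈ Q := by
  rcases hxy with rfl | rfl
  · exact hy
  · exact Q.mul_mem hy h.hzQ

theorem eqz_sq {x y : G} (hy : y ∈ Q) (hxy : Eqz z x y) : x * x = y * y := by
  rcases hxy with rfl | rfl
  · rfl
  · rw [mul_assoc y z, ← mul_assoc z y, ← h.hQC y hy, mul_assoc y z z, h.zz, mul_one]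

theorem eqz_comm {b x y : G} (hb : b ∈ Q) (hxy : Eqz z x y) :
    (b * x = x * b ↔ b * y = y * b) := by
  rcases hxy with rfl | rfl
  · rfl
  · rw [mul_assoc y z, ← h.hQC b hb, ← mul_assoc, ← mul_assoc]
    exact ⟨mul_right_cancel, fun e => by rw [e]⟩

theorem nc_mul {b c d : G} (hd : d ∈ Q) (h1 : b * c = c * b * z) (h2 : b * d = d * b * z) :
    b * (c * d) = c * d * b := by
  calc b * (c * d) = c * b * z * d := by rw [← mul_assoc, h1]
    _ = c * (b * d) * z := by rw [mul_assoc (c * b) z d, ← h.hQC d hd]; group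
    _ = c * d * b := by
      rw [h2, show c * (d * b * z) * z = c * d * b * (z * z) by group, h.zz, mul_one]

theorem mul_sq {c d : G} (hd : d ∈ Q) (hc2 : c * c = 1) (hd2 : d * d = 1)
    (h1 : c * d = d * c * z) : c * d * (c * d) = z := by
  have e1 : d * c = c * d * z := by
    rw [h1, mul_assoc, h.zz, mul_one]
  calc c * d * (c * d) = c * (d * c) * d := by group
    _ = c * c * (d * z) * d := by rw [e1]; group
    _ = z := by rw [hc2, one_mul, h.hQC d hd, mul_assoc, hd2, mul_one]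

theorem nc_symm {c d : G} (h1 : c * d = d * c * z) : d * c = c * d * z := by
  rw [h1, mul_assoc, h.zz, mul_one]

variable [Finite G]

theorem card_centralizer : Nat.card (Subgroup.centralizer ({z} : Set G)) = 1920 := by
  obtain ⟨f, hf, hk⟩ := h.hquot
  rw [← Subgroup.card_mul_index f.ker, Subgroup.index_ker, MonoidHom.range_eq_top.2 hf,
    Subgroup.card_top, nat_card_alternatingGroup, Nat.card_fin]
  have : Nat.card f.ker = 32 := by
    rw [← h.hcard]
    exact Nat.card_congr
      ⟨fun c => ⟨((c : Subgroup.centralizer ({z} : Set G)) : G), (hk _).1 c.2⟩,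
        fun q => ⟨⟨q, Subgroup.mem_centralizer_singleton_iff.2 (h.hQC q q.2)⟩, (hk _).2 q.2⟩,
        fun c => rfl, fun q => rfl⟩
  rw [this]
  rfl

theorem exists_five : ∃ g : G, g * z = z * g ∧ orderOf g = 5 := by
  have := Fact.mk (show Nat.Prime 5 by norm_num)
  obtain ⟨g, hg⟩ := exists_prime_orderOf_dvd_card' (G := Subgroup.centralizer ({z} : Set G)) 5
    (by rw [h.card_centralizer]; norm_num)
  exact ⟨g, Subgroup.mem_centralizer_singleton_iff.1 g.2, by rw [Subgroup.orderOf_coe, hg]⟩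

omit h [Finite G] in
theorem conj_iterate {g x : G} {f : G → G} (hf : ∀ y, f y = g * y * g⁻¹) (n : ℕ) :
    f^[n] x = g ^ n * x * (g ^ n)⁻¹ := by
  induction n with
  | zero => simp
  | succ n ih => rw [Function.iterate_succ_apply', hf, ih, pow_succ' g n]; group

/-- A subgroup of `Q` invariant under an element of order 5 of `C(z)`. -/
theorem invariant_card {g : G} (hg : g * z = z * g) (h5 : orderOf g = 5) (M : Subgroup G)
    (hMQ : M ≤ Q) (hMg : ∀ m ∈ M, g * m * g⁻¹ ∈ M) :
    Nat.card M % 5 = Nat.card (M ⊓ Subgroup.centralizer ({g} : Set G) : Subgroup G) % 5 := by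
  classical
  haveI := Fintype.ofFinite G
  have := Fact.mk (show Nat.Prime 5 by norm_num)
  let f : M → M := fun m => ⟨g * m * g⁻¹, hMg m m.2⟩
  have hf : ∀ (n : ℕ) (p : M), ((f^[n] p : M) : G) = g ^ n * p * (g ^ n)⁻¹ := by
    intro n
    induction n with
    | zero => simp
    | succ n ih =>
      intro p
      rw [Function.iterate_succ_apply', pow_succ' g n]
      show g * ((f^[n] p : M) : G) * g⁻¹ = _
      rw [ih]; group
  have hmod := Equiv.Perm.card_fixedPoints_modEq (p := 5) (n := 1) (f := f) (by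
    funext p
    have h' := hf 5 p
    conv_rhs at h' => rw [← h5, pow_orderOf_eq_one, one_mul, inv_one, mul_one]
    apply Subtype.ext
    rw [pow_one]
    exact h')
  rw [← Nat.card_eq_fintype_card] at hmod
  refine hmod.trans (congrArg (· % 5) ?_)
  rw [← Nat.card_eq_fintype_card]
  refine Nat.card_congr
    ⟨fun p => ⟨p.1, p.1.2, Subgroup.mem_centralizer_singleton_iff.2
        (mul_inv_eq_iff_eq_mul.1 (congrArg Subtype.val p.2)).symm⟩,
      fun p => ⟨⟨p, p.2.1⟩, Subtype.ext (mul_inv_eq_iff_eq_mul.2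
        (Subgroup.mem_centralizer_singleton_iff.1 p.2.2).symm)⟩,
      fun p => rfl, fun p => rfl⟩

/-- An element of order 5 of `C(z)` fixes only `1` and `z` in `Q`. -/
theorem fixed_five {g : G} (hg : g * z = z * g) (h5 : orderOf g = 5) {q : G} (hq : q ∈ Q)
    (hfix : g * q * g⁻¹ = q) : q = 1 ∨ q = z := by
  set F : Subgroup G := Q ⊓ Subgroup.centralizer ({g} : Set G) with hF
  have hmod := h.invariant_card hg h5 Q le_rfl (fun m hm => h.hn g hg m hm)
  rw [h.hcard, ← hF] at hmod
  have hd : Nat.card F ∣ 32 := h.hcard ▸ Subgroup.card_dvd_of_le inf_le_left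
  have hzF : z ∈ F := ⟨h.hzQ, Subgroup.mem_centralizer_singleton_iff.2 hg.symm⟩
  have hqF : q ∈ F :=
    ⟨hq, Subgroup.mem_centralizer_singleton_iff.2 (mul_inv_eq_iff_eq_mul.1 hfix).symm⟩
  have hcases : Nat.card F = 2 ∨ Nat.card F = 32 := by
    obtain ⟨j, hj, hFj⟩ := (Nat.dvd_prime_pow Nat.prime_two).1 (show Nat.card F ∣ 2 ^ 5 from hd)
    rw [hFj] at hmod ⊢
    interval_cases j <;> simp_all
  rcases hcases with h2 | h32
  · obtain ⟨w, -, huniq⟩ := (Nat.card_eq_two_iff' (1 : F)).1 h2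
    by_cases h1 : q = 1
    · exact Or.inl h1
    · exact Or.inr (congrArg Subtype.val
        ((huniq ⟨q, hqF⟩ fun e => h1 (congrArg Subtype.val e)).trans
          (huniq ⟨z, hzF⟩ fun e => h.z_ne_one (congrArg Subtype.val e)).symm))
  · exfalso
    have hFQ : F = Q := Subgroup.eq_of_le_of_card_ge inf_le_left (by rw [h32, h.hcard])
    have hgQ : g ∈ Q := h.hCQ g hg fun p hp =>
      (Subgroup.mem_centralizer_singleton_iff.1 (show p ∈ F by rw [hFQ]; exact hp).2).symm
    have := h.hcard ▸ Subgroup.orderOf_dvd_natCard Q hgQ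
    rw [h5] at this
    norm_num at this

theorem fixed_five_eqz {g : G} (hg : g * z = z * g) (h5 : orderOf g = 5) {q : G} (hq : q ∈ Q)
    (hfix : Eqz z (g * q * g⁻¹) q) : q = 1 ∨ q = z := by
  rcases hfix with e | e
  · exact h.fixed_five hg h5 hq e
  · exfalso
    have hit : ∀ n : ℕ, g ^ n * q * (g ^ n)⁻¹ = q * z ^ n := by
      intro n
      induction n with
      | zero => simp
      | succ n ih =>
        have hc : Commute g⁻¹ (z ^ n) := ((show Commute g z from hg).inv_left).pow_right n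
        calc g ^ (n + 1) * q * (g ^ (n + 1))⁻¹ = g * (g ^ n * q * (g ^ n)⁻¹) * g⁻¹ := by
              rw [pow_succ' g n]; group
          _ = g * q * g⁻¹ * z ^ n := by rw [ih, mul_assoc, mul_assoc q, ← hc.eq]; group
          _ = q * z ^ (n + 1) := by rw [e, mul_assoc q z, ← pow_succ' z n]
    have h' := hit 5
    rw [← h5, pow_orderOf_eq_one, h5, show z ^ 5 = z by
      rw [pow_succ, show (4 : ℕ) = 2 * 2 from rfl, pow_mul, pow_two z, h.zz, one_pow, one_mul]]
      at h'
    simp only [one_mul, inv_one, mul_one] at h'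
    exact h.z_ne_one (mul_eq_left.1 h'.symm)

/-- A non-central involution of `Q` commutes with none of its conjugates under an element of
order 5 that is next to it. -/
theorem nc_next {g : G} (hg : g * z = z * g) (h5 : orderOf g = 5) {u : G} (hu : u ∈ Q)
    (hu2 : u * u = 1) (hu1 : u ≠ 1) (huz : u ≠ z) :
    u * (g * u * g⁻¹) = g * u * g⁻¹ * u * z := by
  have hw : ∀ n : ℕ, g ^ n * u * (g ^ n)⁻¹ ∈ Q := fun n =>
    h.hn _ ((show Commute g z from hg).pow_left n).eq u hu
  refine (h.hcomm u hu _ (h.hn g hg u hu)).resolve_left fun hc => ?_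
  obtain ⟨b, hbdef⟩ : ∃ b : ℕ → G, ∀ n, b n = g ^ n * u * (g ^ n)⁻¹ := ⟨_, fun n => rfl⟩
  have hmem : ∀ n, b n ∈ Q := fun n => by rw [hbdef]; exact hw n
  have hb0 : b 0 = u := by simp [hbdef]
  have hb5 : b 5 = u := by rw [hbdef, ← h5, pow_orderOf_eq_one]; simp
  have hs : ∀ n, g * b n * g⁻¹ = b (n + 1) := fun n => by
    rw [hbdef, hbdef, pow_succ' g n]; group
  have hsq : ∀ n, b n * b n = 1 := fun n => by
    rw [hbdef]
    calc g ^ n * u * (g ^ n)⁻¹ * (g ^ n * u * (g ^ n)⁻¹) = g ^ n * (u * u) * (g ^ n)⁻¹ := by group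
      _ = 1 := by rw [hu2]; group
  have hshift : ∀ m n, b m * b n = b n * b m → b (m + 1) * b (n + 1) = b (n + 1) * b (m + 1) := by
    intro m n e
    rw [← hs, ← hs, show g * b m * g⁻¹ * (g * b n * g⁻¹) = g * (b m * b n) * g⁻¹ by group, e]
    group
  have hadj : ∀ n, b n * b (n + 1) = b (n + 1) * b n := by
    intro n
    induction n with
    | zero => rw [← hs 0, hb0]; exact hc
    | succ n ih => exact hshift _ _ ih
  by_cases h02 : b 0 * b 2 = b 2 * b 0
  · -- the conjugates all commute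
    have hd2 : ∀ n, b n * b (n + 2) = b (n + 2) * b n := by
      intro n
      induction n with
      | zero => exact h02
      | succ n ih => exact hshift _ _ ih
    have hb6 : b 6 = b 1 := by rw [← hs 5, hb5, ← hb0, hs 0]
    let M : Subgroup G :=
      { carrier := {q | q ∈ Q ∧ ∀ k, k < 5 → q * b k = b k * q}
        one_mem' := ⟨Q.one_mem, fun k _ => by simp⟩
        mul_mem' := fun {p q} hp hq => ⟨Q.mul_mem hp.1 hq.1, fun k hk =>
          ((show Commute p (b k) from hp.2 k hk).mul_left (hq.2 k hk)).eq⟩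
        inv_mem' := fun {p} hp => ⟨Q.inv_mem hp.1, fun k hk =>
          ((show Commute p (b k) from hp.2 k hk).inv_left).eq⟩ }
    have huM : u ∈ M := by
      refine ⟨hu, fun k hk => ?_⟩
      rw [← hb0]
      interval_cases k
      · rfl
      · exact hadj 0
      · exact h02
      · have := hd2 3
        rw [hb5, ← hb0] at this
        exact this.symm
      · have := hadj 4
        rw [hb5, ← hb0] at this
        exact this.symm
    have hMg : ∀ m ∈ M, g * m * g⁻¹ ∈ M := by
      rintro m ⟨hm, hmk⟩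
      refine ⟨h.hn g hg m hm, fun k hk => ?_⟩
      obtain ⟨j, hj, hjk⟩ : ∃ j, j < 5 ∧ b (j + 1) = b k := by
        rcases k with _ | k
        · exact ⟨4, by norm_num, by rw [hb5, hb0]⟩
        · exact ⟨k, by omega, rfl⟩
      rw [← hjk, ← hs]
      calc g * m * g⁻¹ * (g * b j * g⁻¹) = g * (m * b j) * g⁻¹ := by group
        _ = g * b j * g⁻¹ * (g * m * g⁻¹) := by rw [hmk j hj]; group
    have hMQ : M ≤ Q := fun m hm => hm.1
    have hzM : z ∈ M := ⟨h.hzQ, fun k _ => (h.hQC _ (hmem k)).symm⟩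
    have hmod := h.invariant_card hg h5 M hMQ hMg
    have hfix : M ⊓ Subgroup.centralizer ({g} : Set G) = Subgroup.zpowers z := by
      refine le_antisymm (fun q hq => ?_) ?_
      · rcases h.fixed_five hg h5 (hMQ hq.1) (mul_inv_eq_iff_eq_mul.2
          (Subgroup.mem_centralizer_singleton_iff.1 hq.2).symm) with rfl | rfl
        · exact Subgroup.one_mem _
        · exact Subgroup.mem_zpowers _
      · rw [Subgroup.zpowers_le]
        exact ⟨hzM, Subgroup.mem_centralizer_singleton_iff.2 hg.symm⟩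
    rw [hfix, Nat.card_zpowers, h.hz] at hmod
    have h3 : 2 < Nat.card M := by
      have hsub : ({1, z, u} : Set G) ⊆ (M : Set G) := by
        rintro x (rfl | rfl | rfl)
        exacts [M.one_mem, hzM, huM]
      have h' := Set.ncard_le_ncard hsub (Set.toFinite _)
      rw [Set.ncard_eq_three.2 ⟨1, z, u, h.z_ne_one.symm, hu1.symm, huz.symm, rfl⟩,
        ← Nat.card_coe_set_eq] at h'
      exact h'
    have hd : Nat.card M ∣ 32 := h.hcard ▸ Subgroup.card_dvd_of_le hMQ
    obtain ⟨j, hj, hMj⟩ := (Nat.dvd_prime_pow Nat.prime_two).1 (show Nat.card M ∣ 2 ^ 5 from hd)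
    have h32 : Nat.card M = 32 := by
      rw [hMj] at hmod h3 ⊢
      interval_cases j <;> simp_all
    have hMQ' : M = Q := Subgroup.eq_of_le_of_card_ge hMQ (by rw [h32, h.hcard])
    rcases h.hcenter u hu fun p hp => (by
      have := ((show p ∈ M by rw [hMQ']; exact hp).2 0 (by norm_num)).symm
      rwa [hb0] at this) with e | e
    exacts [hu1 e, huz e]
  · -- `b 2 * b 3 * b 4` squares to `z` but agrees with `b 0 * b 1` up to `z`
    have hnc2 : ∀ n, b n * b (n + 2) = b (n + 2) * b n * z := by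
      intro n
      induction n with
      | zero => exact (h.hcomm _ (hmem 0) _ (hmem 2)).resolve_left h02
      | succ n ih =>
        rw [← hs, ← hs,
          show g * b n * g⁻¹ * (g * b (n + 2) * g⁻¹) = g * (b n * b (n + 2)) * g⁻¹ by group, ih,
          show g * (b (n + 2) * b n * z) * g⁻¹ = g * (b (n + 2) * b n) * (z * g⁻¹) by group,
          ← ((show Commute g z from hg).inv_left).eq]
        group
    obtain ⟨y, hy⟩ : ∃ y, y = b 2 * b 3 * b 4 := ⟨_, rfl⟩
    have hyQ : y ∈ Q := hy ▸ Q.mul_mem (Q.mul_mem (hmem 2) (hmem 3)) (hmem 4)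
    have hy2 : y * y = z := by
      have e34 := hadj 3
      have e23 := hadj 2
      have e24 : b 4 * b 2 = b 2 * b 4 * z := h.nc_symm (hnc2 2)
      calc y * y = b 2 * b 3 * (b 4 * b 2) * b 3 * b 4 := by rw [hy]; group
        _ = b 2 * (b 3 * b 2) * b 4 * z * b 3 * b 4 := by rw [e24]; group
        _ = b 2 * b 2 * (b 3 * b 4) * (z * b 3) * b 4 := by rw [← e23]; group
        _ = b 4 * b 3 * b 3 * (z * b 4) := by
            rw [hsq, one_mul, e34, ← h.hQC _ (hmem 3), ← mul_assoc]; group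
        _ = z := by
            rw [mul_assoc (b 4) (b 3) (b 3), hsq, mul_one, ← h.hQC _ (hmem 4), ← mul_assoc, hsq,
              one_mul]
    obtain ⟨P, hP⟩ : ∃ P, P = b 0 * b 1 * y := ⟨_, rfl⟩
    have hPQ : P ∈ Q := hP ▸ Q.mul_mem (Q.mul_mem (hmem 0) (hmem 1)) hyQ
    have hPfix : Eqz z (g * P * g⁻¹) P := by
      have e : g * P * g⁻¹ = b 0 * P * b 0 := by
        rw [hP, hy]
        calc g * (b 0 * b 1 * (b 2 * b 3 * b 4)) * g⁻¹ = g * b 0 * g⁻¹ * (g * b 1 * g⁻¹) *
              (g * b 2 * g⁻¹ * (g * b 3 * g⁻¹) * (g * b 4 * g⁻¹)) := by group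
          _ = b 1 * b 2 * b 3 * b 4 * b 5 := by rw [hs, hs, hs, hs, hs]; group
          _ = b 0 * b 0 * b 1 * (b 2 * b 3 * b 4) * b 0 := by
              rw [hsq 0, one_mul, hb5, ← hb0]; group
          _ = _ := by group
      rcases h.hcomm _ (hmem 0) P hPQ with e' | e'
      · left; rw [e, e', mul_assoc, hsq, mul_one]
      · right; rw [e, e', mul_assoc (P * b 0) z, ← h.hQC _ (hmem 0), ← mul_assoc, mul_assoc P,
          hsq, mul_one]
    have h01 : b 0 * b 1 * (b 0 * b 1) = 1 := by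
      rw [show b 0 * b 1 * (b 0 * b 1) = b 0 * (b 1 * b 0) * b 1 by group, ← hadj 0,
        show b 0 * (b 0 * b 1) * b 1 = b 0 * b 0 * (b 1 * b 1) by group, hsq, hsq, one_mul]
    have hyi : Eqz z y (b 0 * b 1) := by
      have e0 : y = (b 0 * b 1) * P := by rw [hP, ← mul_assoc, h01, one_mul]
      rcases h.fixed_five_eqz hg h5 hPQ hPfix with e1 | e1
      · exact Or.inl (by rw [e0, e1, mul_one])
      · exact Or.inr (by rw [e0, e1])
    have := h.eqz_sq (Q.mul_mem (hmem 0) (hmem 1)) hyi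
    rw [hy2, h01] at this
    exact h.z_ne_one this

/-- `Q` has an involution different from `z`. -/
theorem exists_invol : ∃ u ∈ Q, u ≠ 1 ∧ u ≠ z ∧ u * u = 1 := by
  classical
  obtain ⟨a, haQ, ha⟩ : ∃ a ∈ Q, a ∉ ({1, z} : Set G) := by
    refine Set.exists_mem_notMem_of_ncard_lt_ncard ?_ (Set.toFinite _)
    calc ({1, z} : Set G).ncard ≤ 2 := by
          rw [Set.ncard_pair h.z_ne_one.symm]
      _ < (Q : Set G).ncard := by
          rw [← Nat.card_coe_set_eq]
          show 2 < Nat.card Q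
          rw [h.hcard]; norm_num
  simp only [Set.mem_insert_iff, Set.mem_singleton_iff, not_or] at ha
  by_cases ha2 : a * a = 1
  · exact ⟨a, haQ, ha.1, ha.2, ha2⟩
  have haz : a * a = z := (h.hsq a haQ).resolve_left ha2
  obtain ⟨b, ⟨hbQ, hab⟩, hb⟩ :
      ∃ b, (b ∈ Q ∧ a * b = b * a) ∧ b ∉ ({1, z, a, a * z} : Set G) := by
    let φ : Q → Bool := fun q => decide (a * (q : G) = (q : G) * a)
    refine Set.exists_mem_notMem_of_ncard_lt_ncard ?_ (Set.toFinite _)
    refine lt_of_le_of_lt (b := 4) ?_ ?_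
    · refine (Set.ncard_insert_le _ _).trans (Nat.add_le_add_right ?_ 1)
      refine (Set.ncard_insert_le _ _).trans (Nat.add_le_add_right ?_ 1)
      exact (Set.ncard_insert_le _ _).trans (by simp)
    · -- two elements not commuting with `a` differ by one commuting with it
      by_contra! hle
      change {q : G | q ∈ Q ∧ a * q = q * a}.ncard ≤ 4 at hle
      obtain ⟨c, hcQ, hc⟩ : ∃ c ∈ Q, a * c ≠ c * a := by
        by_contra! hall
        rcases h.hcenter a haQ hall with e | e
        exacts [ha.1 e, ha.2 e]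
      have hsub : (Q : Set G) ⊆ {q : G | q ∈ Q ∧ a * q = q * a} ∪
          (fun q => c * q) '' {q : G | q ∈ Q ∧ a * q = q * a} := by
        intro q hq
        by_cases hqa : a * q = q * a
        · exact Or.inl ⟨hq, hqa⟩
        refine Or.inr ⟨c⁻¹ * q, ⟨Q.mul_mem (Q.inv_mem hcQ) hq, ?_⟩, mul_inv_cancel_left c q⟩
        have e1 := (h.hcomm a haQ c hcQ).resolve_left hc
        have e2 := (h.hcomm a haQ q hq).resolve_left hqa
        have e3 : a * c⁻¹ = c⁻¹ * a * z := by
          calc a * c⁻¹ = c⁻¹ * (c * a) * c⁻¹ := by group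
            _ = c⁻¹ * (a * c * z) * c⁻¹ := by rw [h.nc_symm e1]
            _ = c⁻¹ * a * (c * z) * c⁻¹ := by group
            _ = _ := by rw [h.hQC c hcQ]; group
        calc a * (c⁻¹ * q) = c⁻¹ * a * (z * q) := by rw [← mul_assoc, e3]; group
          _ = c⁻¹ * a * q * z := by rw [← h.hQC q hq]; group
          _ = c⁻¹ * q * a := by
            rw [mul_assoc c⁻¹ a q, e2]
            calc c⁻¹ * (q * a * z) * z = c⁻¹ * q * a * (z * z) := by group
              _ = _ := by rw [h.zz, mul_one]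
      have h1 := (Set.ncard_le_ncard hsub (Set.toFinite _)).trans (Set.ncard_union_le _ _)
      rw [Set.ncard_image_of_injective _ (mul_right_injective c), ← Nat.card_coe_set_eq] at h1
      change Nat.card Q ≤ _ at h1
      rw [h.hcard] at h1
      omega
  simp only [Set.mem_insert_iff, Set.mem_singleton_iff, not_or] at hb
  rcases h.hsq b hbQ with hb2 | hb2
  · exact ⟨b, hbQ, hb.1, hb.2.1, hb2⟩
  refine ⟨a * b, Q.mul_mem haQ hbQ, fun e => hb.2.2.2 ?_, fun e => hb.2.2.1 ?_, ?_⟩
  · calc b = a⁻¹ * (a * b) := by group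
      _ = a⁻¹ * (a * a * z) := by rw [e, haz, h.zz]
      _ = a * z := by group
  · calc b = a⁻¹ * (a * b) := by group
      _ = a⁻¹ * (a * a) := by rw [e, haz]
      _ = a := by group
  · rw [(show Commute b a from hab.symm).mul_mul_mul_comm, haz, hb2, h.zz]

/-- The frame exists. -/
theorem exists_frame : Nonempty (Frame z Q) := by
  classical
  obtain ⟨g, hg, h5⟩ := h.exists_five
  obtain ⟨u, hu, hu1, huz, hu2⟩ := h.exists_invol
  have hgn : ∀ n : ℕ, g ^ n * z = z * g ^ n := fun n => ((show Commute g z from hg).pow_left n).eq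
  obtain ⟨a, hadef⟩ : ∃ a : Fin 5 → G, ∀ i, a i = g ^ (i : ℕ) * u * (g ^ (i : ℕ))⁻¹ :=
    ⟨_, fun i => rfl⟩
  have hmem : ∀ i, a i ∈ Q := fun i => hadef i ▸ h.hn _ (hgn _) u hu
  have hsq : ∀ i, a i * a i = 1 := fun i => by
    rw [hadef]
    calc g ^ (i : ℕ) * u * (g ^ (i : ℕ))⁻¹ * (g ^ (i : ℕ) * u * (g ^ (i : ℕ))⁻¹)
        = g ^ (i : ℕ) * (u * u) * (g ^ (i : ℕ))⁻¹ := by group
      _ = 1 := by rw [hu2]; group
  have hne1 : ∀ i, a i ≠ 1 := fun i e => hu1 (conj_eq_one_iff.1 ((hadef i).symm.trans e))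
  have hnez : ∀ i, a i ≠ z := fun i e => huz (by
    rw [hadef] at e
    calc u = (g ^ (i : ℕ))⁻¹ * (g ^ (i : ℕ) * u * (g ^ (i : ℕ))⁻¹) * g ^ (i : ℕ) := by group
      _ = (g ^ (i : ℕ))⁻¹ * (g ^ (i : ℕ) * z) := by rw [e, mul_assoc, ← hgn]
      _ = z := by group)
  have hdiff : ∀ i j : Fin 5, i < j → ∃ γ : G, γ * z = z * γ ∧ orderOf γ = 5 ∧
      a j = γ * a i * γ⁻¹ := by
    intro i j hij
    refine ⟨g ^ ((j : ℕ) - i), hgn _, ?_, ?_⟩
    · rw [Nat.Coprime.orderOf_pow, h5]
      rw [h5]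
      have h1 : 0 < (j : ℕ) - i := by have := Fin.lt_def.1 hij; omega
      exact (Nat.Prime.coprime_iff_not_dvd (by norm_num)).2 fun hd => by
        have := Nat.le_of_dvd h1 hd
        omega
    · rw [hadef, hadef, show (j : ℕ) = ((j : ℕ) - i) + i by have := Fin.lt_def.1 hij; omega,
        pow_add]
      rw [show ((j : ℕ) - i + i - i) = (j : ℕ) - i by omega]
      group
  have hdist : ∀ i j, Eqz z (a i) (a j) → i = j := by
    intro i j e
    by_contra hne
    wlog hij : i < j generalizing i j with H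
    · exact H j i (h.eqz_symm e) (Ne.symm hne) (lt_of_le_of_ne (not_lt.1 hij) (Ne.symm hne))
    obtain ⟨γ, hγ, hγ5, hj⟩ := hdiff i j hij
    rcases h.fixed_five_eqz hγ hγ5 (hmem i) (hj ▸ h.eqz_symm e) with e' | e'
    exacts [hne1 i e', hnez i e']
  have hnc : ∀ i j, i ≠ j → a i * a j = a j * a i * z := by
    intro i j hne
    wlog hij : i < j generalizing i j with H
    · exact h.nc_symm (H j i hne.symm (lt_of_le_of_ne (not_lt.1 hij) hne.symm))
    obtain ⟨γ, hγ, hγ5, hj⟩ := hdiff i j hij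
    rw [hj]
    exact h.nc_next hγ hγ5 (hmem i) (hsq i) (hne1 i) (hnez i)
  have hp4 : ∀ i j, i ≠ j → a i * a j * (a i * a j) = z := fun i j hne =>
    h.mul_sq (hmem j) (hsq i) (hsq j) (hnc i j hne)
  have hcmm : ∀ i j k, i ≠ j → i ≠ k → a i * (a j * a k) = a j * a k * a i := fun i j k h1 h2 =>
    h.nc_mul (hmem k) (hnc i j h1) (hnc i k h2)
  have hncm : ∀ i j, i ≠ j → a i * (a i * a j) ≠ a i * a j * a i := by
    intro i j hne e
    rw [← mul_assoc, hsq, one_mul] at e
    have e2 : a i * a j = a j * a i := by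
      calc a i * a j = a i * (a i * a j * a i) := by rw [← e]
        _ = a j * a i := by rw [← mul_assoc, ← mul_assoc, hsq, one_mul]
    rw [hnc i j hne] at e2
    exact h.z_ne_one (mul_eq_left.1 e2)
  have hpair : ∀ i j k l, i ≠ j → k ≠ l → Eqz z (a i * a j) (a k * a l) →
      (i = k ∧ j = l) ∨ (i = l ∧ j = k) := by
    intro i j k l hij hkl e
    have hik : i = k ∨ i = l := by
      by_contra! hc
      exact hncm i j hij ((h.eqz_comm (hmem i) e).2 (hcmm i k l hc.1 hc.2))
    have hjk : j = k ∨ j = l := by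
      by_contra! hc
      refine hncm j i hij.symm ?_
      have h1 := (h.eqz_comm (hmem j) e).2 (hcmm j k l hc.1 hc.2)
      rw [hnc i j hij] at h1
      exact (h.eqz_comm (hmem j) (Or.inr rfl : Eqz z (a j * a i * z) (a j * a i))).1 h1
    rcases hik with rfl | rfl <;> rcases hjk with rfl | rfl
    · exact absurd rfl hij
    · exact Or.inl ⟨rfl, rfl⟩
    · exact Or.inr ⟨rfl, rfl⟩
    · exact absurd rfl hij
  let ι := Bool × (Unit ⊕ Fin 5 ⊕ {p : Fin 5 × Fin 5 // p.1 < p.2})
  let base : Unit ⊕ Fin 5 ⊕ {p : Fin 5 × Fin 5 // p.1 < p.2} → G :=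
    Sum.elim (fun _ => 1) (Sum.elim a fun p => a p.1.1 * a p.1.2)
  have hbase : ∀ x, base x ∈ Q := by
    rintro (_ | i | p)
    exacts [Q.one_mem, hmem i, Q.mul_mem (hmem _) (hmem _)]
  let F : ι → Q := fun x => ⟨base x.2 * cond x.1 z 1, Q.mul_mem (hbase _) (by
    cases x.1
    exacts [Q.one_mem, h.hzQ])⟩
  have hFe : ∀ x, Eqz z (F x : G) (base x.2) := by
    rintro ⟨b, x⟩
    cases b
    · exact Or.inl (mul_one _)
    · exact Or.inr rfl
  have hFinj : Function.Injective F := by
    intro x y e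
    have e1 : Eqz z (base x.2) (base y.2) :=
      h.eqz_trans (h.eqz_symm (hFe x)) (congrArg Subtype.val e ▸ hFe y)
    have e2 : x.2 = y.2 := by
      obtain ⟨bx, x⟩ := x
      obtain ⟨by', y⟩ := y
      dsimp only at e1 ⊢
      have hz1 := h.z_ne_one
      have h1z : ∀ i, ¬ Eqz z (1 : G) (a i) := fun i e => by
        rcases h.eqz_symm e with e | e
        · exact hne1 i e
        · exact hnez i (e.trans (one_mul z))
      have h14 : ∀ i j, i ≠ j → ¬ Eqz z (1 : G) (a i * a j) := fun i j hne e => hz1 (by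
        have := h.eqz_sq (Q.mul_mem (hmem i) (hmem j)) e
        rw [hp4 i j hne, one_mul] at this
        exact this.symm)
      have h24 : ∀ k i j, i ≠ j → ¬ Eqz z (a k) (a i * a j) := fun k i j hne e => hz1 (by
        have := h.eqz_sq (Q.mul_mem (hmem i) (hmem j)) e
        rw [hp4 i j hne, hsq] at this
        exact this.symm)
      rcases x with _ | i | p <;> rcases y with _ | k | q <;> dsimp only [base, Sum.elim_inl,
        Sum.elim_inr] at e1
      · rfl
      · exact absurd e1 (h1z k)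
      · exact absurd e1 (h14 _ _ q.2.ne)
      · exact absurd (h.eqz_symm e1) (h1z i)
      · rw [hdist i k e1]
      · exact absurd e1 (h24 _ _ _ q.2.ne)
      · exact absurd (h.eqz_symm e1) (h14 _ _ p.2.ne)
      · exact absurd (h.eqz_symm e1) (h24 _ _ _ p.2.ne)
      · rcases hpair _ _ _ _ p.2.ne q.2.ne e1 with ⟨e3, e4⟩ | ⟨e3, e4⟩
        · rw [Subtype.ext (Prod.ext e3 e4)]
        · have h3 := p.2; have h4 := q.2
          rw [e3, e4] at h3
          exact absurd h3 (not_lt_of_gt h4)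
    obtain ⟨bx, x⟩ := x
    obtain ⟨by', y⟩ := y
    obtain rfl : x = y := e2
    have e3 := mul_left_cancel (congrArg Subtype.val e)
    cases bx <;> cases by'
    · rfl
    · exact absurd e3.symm h.z_ne_one
    · exact absurd e3 h.z_ne_one
    · rfl
  have hFsurj : Function.Surjective F := by
    refine ((Nat.bijective_iff_injective_and_card F).2 ⟨hFinj, ?_⟩).2
    rw [h.hcard, Nat.card_eq_fintype_card]
    rfl
  have hcover : ∀ q ∈ Q, Eqz z q 1 ∨ (∃ i, Eqz z q (a i)) ∨
      ∃ i j, i ≠ j ∧ Eqz z q (a i * a j) := by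
    intro q hq
    obtain ⟨⟨b, x⟩, hx⟩ := hFsurj ⟨q, hq⟩
    have e := congrArg Subtype.val hx ▸ hFe (b, x)
    rcases x with _ | i | p
    exacts [Or.inl e, Or.inr (Or.inl ⟨i, e⟩), Or.inr (Or.inr ⟨_, _, p.2.ne, e⟩)]
  have hexists : ∀ (c : Subgroup.centralizer ({z} : Set G)) i,
      ∃ j, Eqz z ((c : G) * a i * (c : G)⁻¹) (a j) := by
    intro c i
    have hc := Subgroup.mem_centralizer_singleton_iff.1 c.2
    have hx2 : (c : G) * a i * (c : G)⁻¹ * ((c : G) * a i * (c : G)⁻¹) = 1 := by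
      rw [show (c : G) * a i * (c : G)⁻¹ * ((c : G) * a i * (c : G)⁻¹) =
        (c : G) * (a i * a i) * (c : G)⁻¹ by group, hsq]
      group
    rcases hcover _ (h.hn c hc _ (hmem i)) with e | e | ⟨k, l, hkl, e⟩
    · exfalso
      rcases e with e | e
      · exact hne1 i (conj_eq_one_iff.1 e)
      · rw [one_mul] at e
        refine hnez i ?_
        calc a i = (c : G)⁻¹ * ((c : G) * a i * (c : G)⁻¹) * (c : G) := by group
          _ = (c : G)⁻¹ * ((c : G) * z) := by rw [e, mul_assoc, ← hc]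
          _ = z := by group
    · exact e
    · have := h.eqz_sq (Q.mul_mem (hmem k) (hmem l)) e
      rw [hx2, hp4 k l hkl] at this
      exact absurd this.symm h.z_ne_one
  choose act hact using hexists
  have hact_eq : ∀ (c : Subgroup.centralizer ({z} : Set G)) i j, Eqz z ((c : G) * a i * (c : G)⁻¹) (a j) → act c i = j :=
    fun c i j e => hdist _ _ (h.eqz_trans (h.eqz_symm (hact c i)) e)
  have hact1 : ∀ i, act 1 i = i := fun i => hact_eq 1 i i (Or.inl (by simp))
  have hactmul : ∀ (c d : Subgroup.centralizer ({z} : Set G)) i, act (c * d) i = act c (act d i) := fun c d i => by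
    refine hact_eq _ i _ ?_
    refine h.eqz_trans ?_ (hact c _)
    rw [Subgroup.coe_mul, show (c : G) * (d : G) * a i * ((c : G) * (d : G))⁻¹ =
      (c : G) * ((d : G) * a i * (d : G)⁻¹) * (c : G)⁻¹ by group]
    exact h.eqz_conj (Subgroup.mem_centralizer_singleton_iff.1 c.2) (hact d i)
  obtain ⟨ψ, hψ⟩ : ∃ ψ : Subgroup.centralizer ({z} : Set G) →* Equiv.Perm (Fin 5),
      ∀ c i, ψ c i = act c i :=
    ⟨MonoidHom.mk' (fun c => ⟨act c, act c⁻¹,
      fun i => by rw [← hactmul, inv_mul_cancel, hact1],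
      fun i => by rw [← hactmul, mul_inv_cancel, hact1]⟩) fun c d => Equiv.ext (hactmul c d),
      fun c i => rfl⟩
  obtain ⟨f, hf, hfk⟩ := h.hquot
  have hψQ : f.ker ≤ ψ.ker := fun c hc => by
    rw [MonoidHom.mem_ker] at hc ⊢
    refine Equiv.ext fun i => ?_
    rw [hψ]
    refine hact_eq c i i ?_
    rcases h.hcomm _ ((hfk c).1 hc) _ (hmem i) with e | e
    · exact Or.inl (by rw [e, mul_inv_cancel_right])
    · refine Or.inr ?_
      have : (c : G) * a i * z = a i * c := by rw [e, mul_assoc, h.zz, mul_one]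
      rw [e, mul_assoc (a i * c) z, ← h.hQC _ (Q.inv_mem ((hfk c).1 hc))]
      group
  let θ := MonoidHom.liftOfSurjective f hf ⟨ψ, hψQ⟩
  have hθ : ∀ c, θ (f c) = ψ c := fun c =>
    MonoidHom.liftOfRightInverse_comp_apply f _ _ ⟨ψ, hψQ⟩ c
  have hgC : g ∈ Subgroup.centralizer ({z} : Set G) :=
    Subgroup.mem_centralizer_singleton_iff.2 hg
  have hshift : ψ ⟨g, hgC⟩ 0 ≠ 0 := by
    intro e
    rw [hψ] at e
    have e2 := hact ⟨g, hgC⟩ 0
    rw [e] at e2
    rcases h.fixed_five_eqz hg h5 (hmem 0) e2 with e' | e'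
    exacts [hne1 0 e', hnez 0 e']
  haveI : IsSimpleGroup (alternatingGroup (Fin 5)) := alternatingGroup.isSimpleGroup (by simp)
  have hθinj : Function.Injective θ := by
    rw [← MonoidHom.ker_eq_bot_iff]
    refine (IsSimpleGroup.eq_bot_or_eq_top_of_normal θ.ker inferInstance).resolve_right fun e => ?_
    have h' := hθ ⟨g, hgC⟩
    rw [MonoidHom.mem_ker.1 (e ▸ Subgroup.mem_top (f ⟨g, hgC⟩))] at h'
    exact hshift (by rw [← h']; rfl)
  have hidx : θ.range.index = 2 := by
    have h' := Subgroup.card_mul_index θ.range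
    rw [← Nat.card_congr (MonoidHom.ofInjective hθinj).toEquiv, nat_card_alternatingGroup,
      Nat.card_perm, Nat.card_fin] at h'
    norm_num [Nat.factorial] at h'
    omega
  have hrange := Equiv.Perm.eq_alternatingGroup_of_index_eq_two hidx
  have hψmem : ∀ c, ψ c ∈ alternatingGroup (Fin 5) := fun c => hrange ▸ ⟨f c, hθ c⟩
  refine ⟨{
    a := a, π := ψ.codRestrict _ hψmem, mem := hmem, sq := hsq, ne_one := hne1, ne_z := hnez
    dist := hdist, nc := hnc, cover := hcover, pair := hpair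
    surj := ?_, ker := ?_, act := ?_ }⟩
  · intro p
    obtain ⟨x, hx⟩ : (p : Equiv.Perm (Fin 5)) ∈ θ.range := by rw [hrange]; exact p.2
    obtain ⟨c, rfl⟩ := hf x
    exact ⟨c, Subtype.ext ((hθ c).symm.trans hx)⟩
  · intro c
    rw [← hfk c]
    constructor
    · intro e
      apply hθinj
      rw [map_one, hθ]
      exact congrArg Subtype.val e
    · intro e
      apply Subtype.ext
      show ψ c = 1
      rw [← hθ, e, map_one]
  · intro c i
    show Eqz z _ (a (ψ c i))
    rw [hψ]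
    exact hact c i

end PreCore

end CfsgLib.HallJanko
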