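import Cfsg.Agent.HallJanko.Present
import Cfsg.Agent.J2Model.Map

/-!
# Five generators of the icosian model satisfying the local relations
-/

set_option autoImplicit false
set_option maxRecDepth 100000

noncomputable section

namespace CfsgLib.HallJanko.Model

open CfsgLib.J2Model Cfsg.Spor

/-- The lines of the reflections making up each generator. -/
def lett (x : ℕ) : List ℕ := [[1], [0], [219], [19], [12, 11, 5, 3]].getD x []

/-- The five generators. -/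
def genJ (x : ℕ) : J2 := QuotientGroup.mk' _ (elt (lett x))

theorem prod_genJ : ∀ w : List ℕ,
    (w.map genJ).prod = QuotientGroup.mk' _ (elt (w.flatMap lett))
  | [] => by simp [elt]
  | x :: w => by
    rw [List.map_cons, List.prod_cons, prod_genJ w, genJ, ← map_mul]
    simp [elt, List.map_append, List.prod_append]

/-- The relations. -/
def rels : List (List ℕ) := [
  [0, 0],
  [1, 1],
  [2, 2],
  [3, 3],
  [4, 4],
  [0, 2, 0, 2, 0, 2, 0, 2, 0, 2],
  [1, 2, 1, 2, 1, 2],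
  [0, 1, 2, 0, 1, 2, 0, 1, 2, 0, 1, 2, 0, 1, 2],
  [0, 1, 0, 1],
  [1, 3, 1, 3],
  [0, 3, 0, 3, 1],
  [2, 3, 2, 3, 2, 3],
  [0, 2, 1, 3, 2, 0, 2, 1, 3, 2, 0, 2, 1, 3, 2],
  [4, 0, 4, 0],
  [4, 1, 4, 1],
  [4, 2, 4, 2],
  [4, 3, 4, 3, 4, 3, 4, 3, 1],
  [0, 1, 2, 3, 0, 1, 2, 3, 0, 1, 2, 3, 0, 1, 2, 3, 0, 1, 2, 3, 0, 1, 2, 3, 0, 1, 2, 3, 0, 1, 2, 3, 0, 1, 2, 3, 0, 1, 2, 3, 0, 1, 2, 3, 0, 1, 2, 3],
  [0, 1, 2, 3, 0, 1, 2, 3, 0, 1, 2, 3, 0, 1, 2, 3, 4, 0, 1, 2, 3, 0, 1, 2, 3, 0, 1, 2, 3, 0, 1, 2, 3, 4, 0, 1, 2, 3, 0, 1, 2, 3, 0, 1, 2, 3, 0, 1, 2, 3, 4]]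

theorem rels_central : rels.all (fun w => centralB (w.flatMap lett)) = true := by decide +kernel

theorem rel_eq_one {w : List ℕ} (hw : w ∈ rels) : (w.map genJ).prod = 1 := by
  rw [prod_genJ]
  exact (QuotientGroup.eq_one_iff _).2
    (mem_center_of_centralB (List.all_eq_true.1 rels_central w hw))

theorem gen : Gen (genJ 0) (genJ 1) (genJ 2) (genJ 3) (genJ 4) where
    uu := by simpa [genJ, pow_succ, mul_assoc] using rel_eq_one (w := [0, 0]) (by decide)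
    zz := by simpa [genJ, pow_succ, mul_assoc] using rel_eq_one (w := [1, 1]) (by decide)
    yy := by simpa [genJ, pow_succ, mul_assoc] using rel_eq_one (w := [2, 2]) (by decide)
    aa := by simpa [genJ, pow_succ, mul_assoc] using rel_eq_one (w := [3, 3]) (by decide)
    tt := by simpa [genJ, pow_succ, mul_assoc] using rel_eq_one (w := [4, 4]) (by decide)
    uy := by simpa [genJ, pow_succ, mul_assoc] using rel_eq_one (w := [0, 2, 0, 2, 0, 2, 0, 2, 0, 2]) (by decide)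
    zy := by simpa [genJ, pow_succ, mul_assoc] using rel_eq_one (w := [1, 2, 1, 2, 1, 2]) (by decide)
    uzy := by simpa [genJ, pow_succ, mul_assoc] using rel_eq_one (w := [0, 1, 2, 0, 1, 2, 0, 1, 2, 0, 1, 2, 0, 1, 2]) (by decide)
    uz := by simpa [genJ, pow_succ, mul_assoc] using rel_eq_one (w := [0, 1, 0, 1]) (by decide)
    za := by simpa [genJ, pow_succ, mul_assoc] using rel_eq_one (w := [1, 3, 1, 3]) (by decide)
    uau := by simpa [genJ, pow_succ, mul_assoc] using rel_eq_one (w := [0, 3, 0, 3, 1]) (by decide)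
    ya := by simpa [genJ, pow_succ, mul_assoc] using rel_eq_one (w := [2, 3, 2, 3, 2, 3]) (by decide)
    uyzay := by simpa [genJ, pow_succ, mul_assoc] using rel_eq_one (w := [0, 2, 1, 3, 2, 0, 2, 1, 3, 2, 0, 2, 1, 3, 2]) (by decide)
    tu := by simpa [genJ, pow_succ, mul_assoc] using rel_eq_one (w := [4, 0, 4, 0]) (by decide)
    tz := by simpa [genJ, pow_succ, mul_assoc] using rel_eq_one (w := [4, 1, 4, 1]) (by decide)
    ty := by simpa [genJ, pow_succ, mul_assoc] using rel_eq_one (w := [4, 2, 4, 2]) (by decide)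
    ta := by simpa [genJ, pow_succ, mul_assoc] using rel_eq_one (w := [4, 3, 4, 3, 4, 3, 4, 3, 1]) (by decide)
    w3 := by simpa [genJ, pow_succ, mul_assoc] using rel_eq_one (w := [0, 1, 2, 3, 0, 1, 2, 3, 0, 1, 2, 3, 0, 1, 2, 3, 0, 1, 2, 3, 0, 1, 2, 3, 0, 1, 2, 3, 0, 1, 2, 3, 0, 1, 2, 3, 0, 1, 2, 3, 0, 1, 2, 3, 0, 1, 2, 3]) (by decide)
    wt := by simpa [genJ, pow_succ, mul_assoc] using rel_eq_one (w := [0, 1, 2, 3, 0, 1, 2, 3, 0, 1, 2, 3, 0, 1, 2, 3, 4, 0, 1, 2, 3, 0, 1, 2, 3, 0, 1, 2, 3, 0, 1, 2, 3, 4, 0, 1, 2, 3, 0, 1, 2, 3, 0, 1, 2, 3, 0, 1, 2, 3, 4]) (by decide)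

/-- Words undoing the generators of the presentation. -/
def inv5 : List (List ℕ) := [
  [1],
  [3, 2, 1, 0, 2, 1, 2, 0, 1, 2, 3],
  [2, 0, 2, 1, 0, 2, 1, 2, 0, 1, 2, 0, 2],
  [2, 0, 2, 1, 0, 2, 1, 2, 0, 1, 2, 0, 2, 2, 3, 1, 2, 1, 2, 1, 3, 2, 0, 3, 4, 2, 3, 4, 2, 3, 0, 2, 1, 2, 0, 3, 2, 4, 3, 2, 4, 3, 0, 1, 2, 3, 4, 2, 0, 3, 2, 1, 2, 3, 0, 2, 4, 3, 2, 1],
  [2, 3, 1, 2, 0, 2, 1, 2, 0, 2, 1, 3, 2, 4, 2, 0, 2, 0, 3, 2, 1, 2, 3, 0, 2, 0, 2, 4, 2, 0, 3, 2, 0, 2, 3, 4, 2, 0, 3, 2, 1, 2, 3, 0, 2, 4, 3, 2, 0, 2, 3, 0, 2, 2, 0, 3, 4, 2, 3, 4, 2, 3, 0, 2, 1, 2, 0, 3, 2, 4, 3, 2, 4, 3, 0, 2]]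

theorem inv5_central :
    ((List.range 5).all fun x => centralB (lt5 x ++ (inv5.getD x []).flatMap lett)) = true := by
  decide +kernel

theorem inv5_lt : ((List.range 5).all fun x => (inv5.getD x []).all fun i => Nat.blt i 5) = true := by
  decide +kernel

theorem closure_eq_top :
    Subgroup.closure ({genJ 0, genJ 1, genJ 2, genJ 3, genJ 4} : Set J2) = ⊤ := by
  set K := Subgroup.closure ({genJ 0, genJ 1, genJ 2, genJ 3, genJ 4} : Set J2) with hK
  have hmem : ∀ x, x < 5 → genJ x ∈ K := fun x hx => by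
    rw [hK]; refine Subgroup.subset_closure ?_
    interval_cases x <;> simp
  have hgJ : ∀ x, x < 5 → gJ x ∈ K := by
    intro x hx
    have h1 := List.all_eq_true.1 inv5_central x (List.mem_range.2 hx)
    have h2 := List.all_eq_true.1 (List.all_eq_true.1 inv5_lt x (List.mem_range.2 hx))
    have hprod : ((inv5.getD x []).map genJ).prod ∈ K := Subgroup.list_prod_mem _ fun y hy => by
      obtain ⟨i, hi, rfl⟩ := List.mem_map.1 hy
      exact hmem i (by simpa using h2 i hi)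
    have e : gJ x * ((inv5.getD x []).map genJ).prod = 1 := by
      rw [prod_genJ, gJ, ← map_mul, show elt (lt5 x) * elt ((inv5.getD x []).flatMap lett) =
        elt (lt5 x ++ (inv5.getD x []).flatMap lett) by simp [elt, List.map_append, List.prod_append]]
      exact (QuotientGroup.eq_one_iff _).2 (mem_center_of_centralB h1)
    rw [eq_inv_of_mul_eq_one_left e]
    exact K.inv_mem hprod
  rw [eq_top_iff, ← MonoidHom.range_eq_top.2 toJ2_surjective]
  rintro _ ⟨g, rfl⟩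
  have hg : g ∈ Subgroup.closure (Set.range (PresentedGroup.of : J2Model.Gen → Grp)) := by
    rw [show Subgroup.closure (Set.range (PresentedGroup.of : J2Model.Gen → Grp)) = ⊤ from
      PresentedGroup.closure_range_of _]
    exact Subgroup.mem_top g
  induction hg using Subgroup.closure_induction with
  | one => rw [map_one]; exact K.one_mem
  | mem g hg =>
    obtain ⟨s, rfl⟩ := hg
    show PresentedGroup.toGroup fJ_rels (PresentedGroup.of s) ∈ K
    rw [PresentedGroup.toGroup.of]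
    exact hgJ _ (setup.ix_lt s)
  | inv g _ ih => rw [map_inv]; exact K.inv_mem ih
  | mul g g' _ _ ih ih' => rw [map_mul]; exact K.mul_mem ih ih'

end CfsgLib.HallJanko.Model

end
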