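import Cfsg.Agent.HallJanko.Generators

/-!
# Uniqueness of the Hall–Janko group from its centraliser of an involution
-/

set_option autoImplicit false

namespace CfsgLib.HallJanko

variable {G : Type*} [Group G] [Finite G] {z : G} {Q : Subgroup G}

/-- A group with the centraliser hypothesis is isomorphic to every simple group of order `604800`
generated by five involutions satisfying the local relations. -/
theorem Core.nonempty_mulEquiv (h : Core z Q) {J : Type*} [Group J] [IsSimpleGroup J]
    {u' z' y' a' t' : J} (hJ : Nat.card J = 604800)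
    (hgen : Subgroup.closure ({u', z', y', a', t'} : Set J) = ⊤) (h' : Gen u' z' y' a' t') :
    Nonempty (G ≃* J) := by
  obtain ⟨L⟩ := h.exists_locdata
  obtain ⟨X0, c⟩ := L.exists_comp h
  obtain ⟨u, y, a, hg⟩ := L.exists_gen h c
  obtain ⟨f, -, hfz, -, -, -⟩ := Gen.exists_hom hJ hgen h' hg
  haveI : Finite J := Nat.finite_of_card_ne_zero (by omega)
  have hker : f.ker = ⊥ := (IsSimpleGroup.eq_bot_or_eq_top_of_normal f.ker inferInstance).resolve_right
    fun e => h.z_ne_one (by rw [← hfz]; exact MonoidHom.mem_ker.1 (e ▸ Subgroup.mem_top z'))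
  have hbij : Function.Bijective f :=
    (Nat.bijective_iff_injective_and_card f).2
      ⟨(MonoidHom.ker_eq_bot_iff f).1 hker, hJ.trans (L.main h c).1.symm⟩
  exact ⟨(MulEquiv.ofBijective f hbij).symm⟩

end CfsgLib.HallJanko
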