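import Mathlib.GroupTheory.SpecificGroups.Alternating
import Mathlib.GroupTheory.Perm.Fin

/-!
# Facts about the alternating groups of degree 5 and 6
-/

set_option autoImplicit false
set_option synthInstance.maxSize 2000
set_option synthInstance.maxHeartbeats 200000

namespace CfsgLib.HallJanko.Alt

local notation "A5" => alternatingGroup (Fin 5)
local notation "A6" => alternatingGroup (Fin 6)
local notation "S5" => Equiv.Perm (Fin 5)

theorem inv_fixed : ∀ t : A5, t ≠ 1 → t * t = 1 →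
    ∃ f : Fin 5, (t : S5) f = f ∧ ∀ i, (t : S5) i = i → i = f := by decide +kernel

theorem inv_centralizer : ∀ t : A5, t ≠ 1 → t * t = 1 →
    Fintype.card {g : A5 // g * t = t * g} = 4 := by decide +kernel

theorem inv_four : ∀ t : A5, t ≠ 1 → t * t = 1 → ∀ t' : A5, t' ≠ 1 → t' * t' = 1 → t' ≠ t →
    t * t' = t' * t → ∀ g : A5, g * t = t * g → g = 1 ∨ g = t ∨ g = t' ∨ g = t * t' := by
  decide +kernel

theorem inv_cover : ∀ t : A5, t ≠ 1 → t * t = 1 → ∀ f : Fin 5, (t : S5) f = f →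
    ∃ i k : Fin 5, ∀ j, j ≠ f → j = i ∨ j = (t : S5) i ∨ j = k ∨ j = (t : S5) k := by
  decide +kernel

theorem inv_count : Fintype.card {t : A5 // t ≠ 1 ∧ t * t = 1} = 15 := by decide +kernel

theorem inv_conj : ∀ a b : A5, a ≠ 1 → a * a = 1 → b ≠ 1 → b * b = 1 →
    ∃ g : A5, g * a * g⁻¹ = b := by decide +kernel

theorem three_conj : ∀ a b : A5, a ≠ 1 → a * a * a = 1 → b ≠ 1 → b * b * b = 1 →
    ∃ g : A5, g * a * g⁻¹ = b := by decide +kernel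

theorem three_centralizer : ∀ a : A5, a ≠ 1 → a * a * a = 1 →
    ∀ g : A5, g * a = a * g → g = 1 ∨ g = a ∨ g = a * a := by decide +kernel

theorem three_fixed : ∀ r : A5, r ≠ 1 → r * r * r = 1 → ∀ f : Fin 5, (r : S5) f = f →
    ∃ j, j ≠ f ∧ (r : S5) j = j ∧ ∀ i, (r : S5) i = i → i = f ∨ i = j := by decide +kernel

theorem exists_three_fix : ∀ f : Fin 5, ∃ r : A5, r ≠ 1 ∧ r * r * r = 1 ∧ (r : S5) f = f := by
  decide +kernel

theorem three_orbit : ∀ r : A5, r ≠ 1 → r * r * r = 1 → ∀ t : A5, t ≠ 1 → t * t = 1 →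
    ∀ f : Fin 5, (r : S5) f = f → (t : S5) f = f →
    t * (r * t * r⁻¹) * (r * (r * t * r⁻¹) * r⁻¹) = 1 ∧ r * t * r⁻¹ ≠ t := by decide +kernel

theorem three_pairs : ∀ r : A5, r ≠ 1 → r * r * r = 1 → ∀ t : A5, t ≠ 1 → t * t = 1 →
    ∀ f : Fin 5, (r : S5) f = f → (t : S5) f = f → ∀ i j : Fin 5, i ≠ j → i ≠ f → j ≠ f →
    ¬ (((r : S5) i = (t : S5) i ∧ (r : S5) j = (t : S5) j) ∨
      ((r : S5) i = (t : S5) j ∧ (r : S5) j = (t : S5) i)) := by decide +kernel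

theorem five_centralizer : ∀ a : A5, a ≠ 1 → a * a * a * a * a = 1 →
    ∀ g : A5, g * a = a * g → g = 1 ∨ g = a ∨ g = a * a ∨ g = a * a * a ∨ g = a * a * a * a := by
  decide +kernel

theorem five_normalizer : ∀ a : A5, a ≠ 1 → a * a * a * a * a = 1 → ∀ g : A5,
    g * a * g⁻¹ ≠ a * a ∧ g * a * g⁻¹ ≠ a * a * a := by decide +kernel

theorem five_real : ∀ a : A5, a ≠ 1 → a * a * a * a * a = 1 →
    ∃ y : A5, y ≠ 1 ∧ y * y = 1 ∧ y * a * y⁻¹ = a⁻¹ := by decide +kernel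

theorem three_real : ∀ a : A5, a ≠ 1 → a * a * a = 1 →
    ∃ y : A5, y ≠ 1 ∧ y * y = 1 ∧ y * a * y⁻¹ = a⁻¹ := by decide +kernel

theorem perm_eq_one : ∀ r : A5, r ≠ 1 → r * r * r = 1 → ∀ a : A5, a ≠ 1 → a * a = 1 →
    a * (r * a * r⁻¹) = r * a * r⁻¹ * a → ∀ p : S5, p * (a : S5) = (a : S5) * p →
    p * (r : S5) = (r : S5) * p → p = 1 := by decide +kernel

theorem transitive : ∀ i j : Fin 5, ∃ g : A5, (g : S5) i = j := by decide +kernel

theorem six_four : ∀ c : A6, c ≠ 1 → c * c * c = 1 → ∃ y : A6, y ≠ 1 ∧ y * y = 1 ∧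
    y * (c * y * c⁻¹) = c * (c * y * c⁻¹) * c⁻¹ ∧ c * y * c⁻¹ ≠ y ∧
    y * (c * y * c⁻¹) = c * y * c⁻¹ * y := by decide +kernel

theorem six_real : ∃ a y : A6, a ≠ 1 ∧ a * a * a * a * a = 1 ∧ y ≠ 1 ∧ y * y = 1 ∧
    y * a * y⁻¹ = a⁻¹ := by decide +kernel

theorem five_normalizer_card : ∀ a : A5, a ≠ 1 → a * a * a * a * a = 1 →
    Fintype.card {g : A5 // g * a = a * g ∨ g * a = a⁻¹ * g} = 10 := by decide +kernel

theorem five_pow : ∀ a g : A5, a ≠ 1 → a * a * a * a * a = 1 →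
    ∀ k : Fin 5, g * a * g⁻¹ = a ^ (k : ℕ) → k = 1 ∨ k = 4 := by decide +kernel

end CfsgLib.HallJanko.Alt
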