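import Mathlib.GroupTheory.SpecificGroups.Alternating
import Mathlib.GroupTheory.Perm.Fin

/-!
# Generators of the alternating groups of degree 5 and 6
-/

set_option autoImplicit false
set_option maxRecDepth 100000
set_option synthInstance.maxSize 10000
set_option synthInstance.maxHeartbeats 1000000

namespace CfsgLib.HallJanko.Alt

local notation "A5" => alternatingGroup (Fin 5)
local notation "A6" => alternatingGroup (Fin 6)

/-- A chosen involution of `A₆`. -/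
def six_inv : A6 :=
  ⟨Equiv.swap 0 1 * Equiv.swap 2 3, by
    rw [Equiv.Perm.mem_alternatingGroup, map_mul, Equiv.Perm.sign_swap (by decide),
      Equiv.Perm.sign_swap (by decide)]
    rfl⟩

theorem six_inv_conj : ∀ Z : A6, Z ≠ 1 → Z * Z = 1 → ∃ g : A6, g * Z * g⁻¹ = six_inv := by
  decide +kernel

theorem exists_y : ∀ Z : A5, Z ≠ 1 → Z * Z = 1 → ∀ U : A5, U ≠ 1 → U ≠ Z → U * U = 1 →
    U * Z = Z * U → ∃ Y : A5, Y ≠ 1 ∧ Y * Y = 1 ∧ (U * Y) ^ 5 = 1 ∧ (Z * Y) ^ 3 = 1 ∧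
      (U * Z * Y) ^ 5 = 1 := by
  decide +kernel

theorem six_ext : ∀ U : A6, U ≠ six_inv → U ≠ 1 → U * U = 1 → U * six_inv = six_inv * U →
    ∀ Y : A6, Y * Y = 1 → (six_inv * Y) ^ 3 = 1 → (U * Y) ^ 5 = 1 → (U * six_inv * Y) ^ 5 = 1 →
    ∀ A : A6, A * A = 1 → A * six_inv = six_inv * A → U * A * U * A = six_inv →
      ((Y * A) ^ 3 = 1 ∧ (U * Y * six_inv * A * Y) ^ 3 = 1 ∧ (U * six_inv * Y * A) ^ 4 = 1) ∨
      ((Y * (A * six_inv)) ^ 3 = 1 ∧ (U * Y * six_inv * (A * six_inv) * Y) ^ 3 = 1 ∧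
        (U * six_inv * Y * (A * six_inv)) ^ 4 = 1) := by
  decide +kernel

end CfsgLib.HallJanko.Alt
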