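import Cfsg.Agent.HallJanko.AltFacts
import Cfsg.Agent.AutAlt.Basic
import Cfsg.Agent.Perm.SLTwoFive

/-!
# An automorphism of `A₅` fixing an `A₄` pointwise is trivial
-/

set_option autoImplicit false

namespace CfsgLib.HallJanko

/-- An automorphism of a group isomorphic to `A₅` fixing an involution and an element of order 3
generating an `A₄` is trivial. -/
theorem aut_fix {K : Type*} [Group K] (e : K ≃* alternatingGroup (Fin 5)) (θ : MulAut K) {a r : K}
    (ha1 : a ≠ 1) (ha2 : a * a = 1) (hr1 : r ≠ 1) (hr3 : r * r * r = 1)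
    (hc : a * (r * a * r⁻¹) = r * a * r⁻¹ * a) (hθa : θ a = a) (hθr : θ r = r) (x : K) :
    θ x = x := by
  obtain ⟨p, hp⟩ := (CfsgLib.AutAlt.conjNormal_bijective (α := Fin 5) (by simp) (by simp)).2
    ((e.symm.trans θ).trans e)
  have happ : ∀ y : K,
      (MulAut.conjNormal p : MulAut (alternatingGroup (Fin 5))) (e y) = e (θ y) := by
    intro y
    rw [hp]
    simp
  have hfix : ∀ y : K, θ y = y →
      p * (e y : Equiv.Perm (Fin 5)) = (e y : Equiv.Perm (Fin 5)) * p := by
    intro y hy
    have h := congrArg (fun g : alternatingGroup (Fin 5) => (g : Equiv.Perm (Fin 5))) (happ y)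
    rw [hy] at h
    simp only [MulAut.conjNormal_apply] at h
    exact mul_inv_eq_iff_eq_mul.1 h
  have hp1 : p = 1 := Alt.perm_eq_one (e r) (by simpa using hr1)
    (by rw [← map_mul, ← map_mul, hr3, map_one]) (e a) (by simpa using ha1)
    (by rw [← map_mul, ha2, map_one])
    (by simp only [← map_mul, ← map_inv]; rw [hc]) p (hfix a hθa) (hfix r hθr)
  have h := happ x
  rw [hp1, map_one, MulAut.one_apply] at h
  exact (e.injective h).symm

end CfsgLib.HallJanko
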