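import Cfsg.Agent.HallJanko.Local

/-!
# The centraliser of an element of odd order of `X₀`
-/

set_option autoImplicit false
set_option linter.style.haveILetI false

namespace CfsgLib.HallJanko

variable {G : Type*} [Group G] [Finite G] {z : G} {Q : Subgroup G}

/-- The centraliser of `k` is `⟨k⟩ × A₄` or has quotient `A₅` by `⟨k⟩`; all its involutions are
conjugate in it to `t`. -/
structure CentK (t k : G) : Prop where
  invol : ∀ x : G, x * k = k * x → orderOf x = 2 → ∃ d : G, d * k = k * d ∧ d * x * d⁻¹ = t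
  cases : Nat.card (Subgroup.centralizer ({k} : Set G)) = 12 * orderOf k ∨
    (Nat.card (Subgroup.centralizer ({k} : Set G)) = 60 * orderOf k ∧
      ∃ φ : Subgroup.centralizer ({k} : Set G) →* alternatingGroup (Fin 5),
        Function.Surjective φ ∧ ∀ d, φ d = 1 ↔ (d : G) ∈ Subgroup.zpowers k)

/-- An element with trivial square in a cyclic group of odd order. -/
theorem zpow_eq_one_of_sq {k : G} (hk : Odd (orderOf k)) {x : G} (hx : x ∈ Subgroup.zpowers k)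
    (h2 : x * x = 1) : x = 1 := by
  have h1 : orderOf x ∣ 2 := orderOf_dvd_of_pow_eq_one (by rw [pow_two]; exact h2)
  rcases (Nat.dvd_prime Nat.prime_two).1 h1 with e | e
  · exact orderOf_eq_one_iff.1 e
  · exfalso
    have := orderOf_dvd_of_mem_zpowers hx
    rw [e] at this
    exact (Nat.not_even_iff_odd.2 hk) (even_iff_two_dvd.2 this)

namespace Loc

variable (h : Core z Q) (L : Loc z Q) {X0 : Subgroup G} (c : Comp h L X0)
include h c

theorem cent_v_eq {v g : G} (hv : v ∈ L.V h) (hv1 : v ≠ 1) (hg : g * v = v * g) :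
    g * L.t = L.t * g := by
  have ht2 : L.t2 = L.s * L.t * L.s⁻¹ := rfl
  -- conjugating by `s` moves the centraliser along
  have key : ∀ w, w ∈ L.V h → (∀ g, g * w = w * g → g * L.t = L.t * g) →
      ∀ g, g * (L.s * w * L.s⁻¹) = L.s * w * L.s⁻¹ * g → g * L.t = L.t * g := by
    intro w hw hall g hgw
    have h1 : L.s⁻¹ * g * L.s * w = w * (L.s⁻¹ * g * L.s) := by
      calc L.s⁻¹ * g * L.s * w = L.s⁻¹ * (g * (L.s * w * L.s⁻¹)) * L.s := by group
        _ = w * (L.s⁻¹ * g * L.s) := by rw [hgw]; group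
    have h2 : ∀ x ∈ L.V h, g * (L.s * x * L.s⁻¹) = L.s * x * L.s⁻¹ * g := by
      intro x hx
      have e := L.cent_V h c (hall _ h1) hx
      calc g * (L.s * x * L.s⁻¹) = L.s * (L.s⁻¹ * g * L.s * x) * L.s⁻¹ := by group
        _ = L.s * x * L.s⁻¹ * g := by rw [e]; group
    have e2 : g * (L.t * L.t2) = L.t * L.t2 * g := by
      have := h2 _ (L.t2_mem_V h)
      rwa [(L.t_rel h).2] at this
    have e1 : g * L.t2 = L.t2 * g := ht2 ▸ h2 _ (L.t_mem_V h)
    have e3 := ((show Commute g (L.t * L.t2) from e2).mul_right e1).eq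
    rwa [mul_assoc L.t, (L.t2_facts h).2.1, mul_one] at e3
  rcases (L.mem_V h).1 hv with rfl | rfl | rfl | rfl
  · exact absurd rfl hv1
  · exact hg
  · exact key L.t (L.t_mem_V h) (fun _ h' => h') g (ht2 ▸ hg)
  · refine key L.t2 (L.t2_mem_V h) (fun g' h' => key L.t (L.t_mem_V h) (fun _ h'' => h'') g' ?_) g ?_
    · rwa [← ht2]
    · rwa [(L.t_rel h).2]

theorem centK {k : G} (hk : k ∈ X0) (hodd : Odd (orderOf k)) (hk1 : k ≠ 1)
    (hself : ∀ y ∈ X0, y * k = k * y → y ∈ Subgroup.zpowers k) : CentK L.t k := by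
  classical
  haveI := Fintype.ofFinite G
  haveI := Fact.mk Nat.prime_two
  set D := Subgroup.centralizer ({k} : Set G) with hD
  have hDm : ∀ {g : G}, g ∈ D ↔ g * k = k * g := Subgroup.mem_centralizer_singleton_iff
  let k' : D := ⟨k, hDm.2 rfl⟩
  haveI hN : (Subgroup.zpowers k').Normal := ⟨fun a ha g => by
    obtain ⟨i, rfl⟩ := Subgroup.mem_zpowers_iff.1 ha
    have hc : Commute g k' := Subtype.ext (hDm.1 g.2)
    rw [(hc.zpow_right i).eq, mul_inv_cancel_right]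
    exact Subgroup.zpow_mem_zpowers _ _⟩
  let φ : D →* D ⧸ Subgroup.zpowers k' := QuotientGroup.mk' _
  have hφ : ∀ d : D, φ d = 1 ↔ (d : G) ∈ Subgroup.zpowers k := by
    intro d
    refine (QuotientGroup.eq_one_iff d).trans ?_
    rw [Subgroup.mem_zpowers_iff, Subgroup.mem_zpowers_iff]
    exact exists_congr fun i => ⟨fun e => by rw [← e]; simp [k'],
      fun e => Subtype.ext (by rw [← e]; simp [k'])⟩
  have hVD : ∀ v ∈ L.V h, v ∈ D := fun v hv => hDm.2 (c.vcomm v hv k hk)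
  have hsD : L.s ∈ D := hDm.2 (L.scomm h c k hk)
  -- the centraliser in the quotient of an involution of `V`
  have hcV : ∀ v (hv : v ∈ L.V h), v ≠ 1 → ∀ x, x * φ ⟨v, hVD v hv⟩ = φ ⟨v, hVD v hv⟩ * x →
      ∃ w, ∃ hw : w ∈ L.V h, φ ⟨w, hVD w hw⟩ = x := by
    intro v hv hv1 x hx
    obtain ⟨g, rfl⟩ := QuotientGroup.mk'_surjective _ x
    have e : φ (g * ⟨v, hVD v hv⟩ * g⁻¹ * (⟨v, hVD v hv⟩ : D)⁻¹) = 1 := by
      have hx' : φ g * φ ⟨v, hVD v hv⟩ = φ ⟨v, hVD v hv⟩ * φ g := hx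
      rw [map_mul, map_mul, map_mul, map_inv, map_inv, hx']
      group
    rw [hφ] at e
    simp only [Subgroup.coe_mul, Subgroup.coe_inv] at e
    obtain ⟨a, ha⟩ : ∃ a, a = (g : G) * v * (g : G)⁻¹ * v⁻¹ := ⟨_, rfl⟩
    rw [← ha] at e
    obtain ⟨i, hi⟩ := Subgroup.mem_zpowers_iff.1 e
    have hvv := (L.V_comm h hv).2.2.2.2
    have hca : Commute v a := hi ▸ (show Commute v k from c.vcomm v hv k hk).zpow_right i
    have e1 : (g : G) * v * (g : G)⁻¹ = a * v := by rw [ha]; group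
    have e2 := congrArg (fun x => x * x) e1
    rw [show (g : G) * v * (g : G)⁻¹ * ((g : G) * v * (g : G)⁻¹) = (g : G) * (v * v) * (g : G)⁻¹ by
      group, hvv, mul_one, mul_inv_cancel, hca.mul_mul_mul_comm, hvv, mul_one] at e2
    have ha1 : a = 1 := zpow_eq_one_of_sq hodd (hi ▸ Subgroup.zpow_mem_zpowers k i) e2.symm
    rw [ha1, one_mul] at e1
    have hgt := L.cent_v_eq h c hv hv1 (mul_inv_eq_iff_eq_mul.1 e1)
    obtain ⟨w, hw, hwg⟩ := c.decomp _ hgt
    refine ⟨w, hw, ?_⟩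
    have hwgk : w⁻¹ * (g : G) * k = k * (w⁻¹ * (g : G)) :=
      ((show Commute w k from c.vcomm w hw k hk).inv_left.mul_left (hDm.1 g.2)).eq
    have e3 : φ ((⟨w, hVD w hw⟩ : D)⁻¹ * g) = 1 := (hφ _).2 (hself _ hwg hwgk)
    rw [map_mul, map_inv] at e3
    exact inv_mul_eq_one.1 e3
  -- images of `V`
  have hVinj : ∀ v (hv : v ∈ L.V h), φ ⟨v, hVD v hv⟩ = 1 → v = 1 := fun v hv e =>
    zpow_eq_one_of_sq hodd ((hφ _).1 e) (L.V_comm h hv).2.2.2.2
  obtain ⟨tb, htb⟩ : ∃ tb, tb = φ ⟨L.t, hVD _ (L.t_mem_V h)⟩ := ⟨_, rfl⟩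
  have ht1 : L.t ≠ 1 := CfsgLib.Small.ne_one_of_orderOf_two (L.t_ord h)
  have htbo : orderOf tb = 2 := by
    refine CfsgLib.Small.orderOf_eq_two_iff_sq.2
      ⟨fun e => ht1 (hVinj _ (L.t_mem_V h) (htb ▸ e)), ?_⟩
    rw [htb, ← map_mul]
    exact (congrArg φ (Subtype.ext L.ht2)).trans (map_one φ)
  let toC : L.V h → Subgroup.centralizer ({tb} : Set (D ⧸ Subgroup.zpowers k')) := fun v =>
    ⟨φ ⟨v, hVD v v.2⟩, Subgroup.mem_centralizer_singleton_iff.2 (by
      rw [htb, ← map_mul, ← map_mul]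
      exact congrArg φ (Subtype.ext (L.V_comm h v.2).2.2.2.1))⟩
  have htoC : Function.Bijective toC := by
    constructor
    · intro a b e
      have e' : φ ⟨a, hVD a a.2⟩ = φ ⟨b, hVD b b.2⟩ := congrArg Subtype.val e
      have := hVinj _ ((L.V h).mul_mem ((L.V h).inv_mem b.2) a.2) (by
        rw [show (⟨(b : G)⁻¹ * a, hVD _ ((L.V h).mul_mem ((L.V h).inv_mem b.2) a.2)⟩ : D) =
          (⟨b, hVD b b.2⟩ : D)⁻¹ * ⟨a, hVD a a.2⟩ from rfl, map_mul, map_inv, e', inv_mul_cancel])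
      exact Subtype.ext (inv_mul_eq_one.1 this).symm
    · rintro ⟨x, hx⟩
      obtain ⟨w, hw, e⟩ := hcV L.t (L.t_mem_V h) ht1 x
        (htb ▸ Subgroup.mem_centralizer_singleton_iff.1 hx)
      exact ⟨⟨w, hw⟩, Subtype.ext e⟩
  have hC4 : Nat.card (Subgroup.centralizer ({tb} : Set (D ⧸ Subgroup.zpowers k'))) = 4 := by
    rw [← Nat.card_eq_of_bijective toC htoC, L.card_V h]
  have hexp : ∀ x ∈ Subgroup.centralizer ({tb} : Set (D ⧸ Subgroup.zpowers k')), x * x = 1 := by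
    intro x hx
    obtain ⟨v, hv⟩ := htoC.2 ⟨x, hx⟩
    rw [← show φ ⟨v, hVD v v.2⟩ = x from congrArg Subtype.val hv, ← map_mul]
    exact (congrArg φ (Subtype.ext (L.V_comm h v.2).2.2.2.2)).trans (map_one φ)
  -- the image of `V` is a Sylow 2-subgroup
  have hone : ∀ x : D ⧸ Subgroup.zpowers k', orderOf x = 2 → IsConj tb x := by
    intro x hx
    have hp : IsPGroup 2 (Subgroup.centralizer ({tb} : Set (D ⧸ Subgroup.zpowers k'))) :=
      IsPGroup.of_card (n := 2) hC4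
    obtain ⟨S, hS⟩ := hp.exists_le_sylow
    have hSV : ∀ w ∈ (S : Subgroup (D ⧸ Subgroup.zpowers k')),
        ∃ v, ∃ hv : v ∈ L.V h, φ ⟨v, hVD v hv⟩ = w := by
      have htS : tb ∈ (S : Subgroup (D ⧸ Subgroup.zpowers k')) :=
        hS (Subgroup.mem_centralizer_singleton_iff.2 rfl)
      haveI : Nontrivial (S : Subgroup (D ⧸ Subgroup.zpowers k')) :=
        ⟨⟨⟨tb, htS⟩, 1, fun e => CfsgLib.Small.ne_one_of_orderOf_two htbo (congrArg Subtype.val e)⟩⟩
      haveI := S.2.center_nontrivial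
      obtain ⟨⟨u, hu⟩, hu1⟩ :=
        exists_ne (1 : Subgroup.center (S : Subgroup (D ⧸ Subgroup.zpowers k')))
      obtain ⟨v, hv, hve⟩ := hcV L.t (L.t_mem_V h) ht1 u.1 (by
        rw [← htb]
        exact (congrArg Subtype.val (Subgroup.mem_center_iff.1 hu ⟨tb, htS⟩)).symm)
      have hv1 : v ≠ 1 := fun e => hu1 (Subtype.ext (Subtype.ext (by
        rw [← hve, show (⟨v, hVD v hv⟩ : D) = 1 from Subtype.ext e, map_one]; rfl)))
      intro w hw
      refine hcV v hv hv1 w ?_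
      rw [hve]
      exact congrArg Subtype.val (Subgroup.mem_center_iff.1 hu ⟨w, hw⟩)
    obtain ⟨R, hR⟩ := (IsPGroup.of_card (p := 2) (n := 1)
      (show Nat.card (Subgroup.zpowers x) = 2 ^ 1 by
        rw [Nat.card_zpowers, hx, pow_one])).exists_le_sylow
    obtain ⟨g, hg⟩ := MulAction.exists_smul_eq (D ⧸ Subgroup.zpowers k') R S
    obtain ⟨v, hv, hve⟩ := hSV (g * x * g⁻¹) (by
      rw [← hg, Sylow.coe_subgroup_smul]
      exact ⟨x, hR (Subgroup.mem_zpowers x), rfl⟩)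
    have hxv : IsConj (φ ⟨v, hVD v hv⟩) x := (isConj_iff.2 ⟨g, hve.symm⟩).symm
    refine IsConj.trans ?_ hxv
    -- `s` permutes the involutions of `V`
    have hs : ∀ w (hw : w ∈ L.V h), IsConj (φ ⟨w, hVD w hw⟩)
        (φ ⟨L.s * w * L.s⁻¹, hVD _ (L.s_V h hw)⟩) := fun w hw => isConj_iff.2 ⟨φ ⟨L.s, hsD⟩, by
      rw [← map_inv, ← map_mul, ← map_mul]; rfl⟩
    have e1 : IsConj tb (φ ⟨L.t2, hVD _ (L.t2_mem_V h)⟩) := htb ▸ hs L.t (L.t_mem_V h)
    rcases (L.mem_V h).1 hv with rfl | rfl | rfl | rfl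
    · exfalso
      have e := hve.symm
      rw [show (⟨1, hVD 1 hv⟩ : D) = 1 from rfl, map_one] at e
      exact CfsgLib.Small.ne_one_of_orderOf_two hx (conj_eq_one_iff.1 e)
    · rw [htb]
    · exact e1
    · refine e1.trans ?_
      have e2 := hs L.t2 (L.t2_mem_V h)
      have e3 : (⟨L.s * L.t2 * L.s⁻¹, hVD _ (L.s_V h (L.t2_mem_V h))⟩ : D) =
          ⟨L.t * L.t2, hVD _ hv⟩ := Subtype.ext (L.t_rel h).2
      rwa [e3] at e2
  obtain ⟨-, -, hd⟩ := CfsgLib.Inv54.DihedralEight.four tb htbo hC4 hexp hone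
  have hcard : Nat.card D = Nat.card (D ⧸ Subgroup.zpowers k') * orderOf k := by
    rw [Subgroup.card_eq_card_quotient_mul_card_subgroup (Subgroup.zpowers k'), Nat.card_zpowers,
      Subgroup.orderOf_mk]
  refine ⟨fun x hxk hx => ?_, ?_⟩
  · obtain ⟨hx1, hx2⟩ := CfsgLib.Small.orderOf_eq_two_iff_sq.1 hx
    have hxo : orderOf (φ ⟨x, hDm.2 hxk⟩) = 2 := by
      refine CfsgLib.Small.orderOf_eq_two_iff_sq.2 ⟨fun e => hx1 ?_, ?_⟩
      · exact zpow_eq_one_of_sq hodd ((hφ _).1 e) hx2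
      · rw [← map_mul]
        exact (congrArg φ (Subtype.ext hx2)).trans (map_one φ)
    obtain ⟨g, hg⟩ := isConj_iff.1 (hone _ hxo).symm
    obtain ⟨d, rfl⟩ := QuotientGroup.mk'_surjective _ g
    refine ⟨(d : G), hDm.1 d.2, ?_⟩
    have e : φ (d * ⟨x, hDm.2 hxk⟩ * d⁻¹ * (⟨L.t, hVD _ (L.t_mem_V h)⟩ : D)⁻¹) = 1 := by
      rw [map_mul, map_mul, map_mul, map_inv, map_inv, ← htb]
      exact mul_inv_eq_one.2 hg
    rw [hφ] at e
    simp only [Subgroup.coe_mul, Subgroup.coe_inv] at e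
    obtain ⟨a, ha⟩ : ∃ a, a = (d : G) * x * (d : G)⁻¹ * L.t⁻¹ := ⟨_, rfl⟩
    rw [← ha] at e
    obtain ⟨i, hi⟩ := Subgroup.mem_zpowers_iff.1 e
    have hca : Commute L.t a :=
      hi ▸ (show Commute L.t k from c.vcomm _ (L.t_mem_V h) k hk).zpow_right i
    have e1 : (d : G) * x * (d : G)⁻¹ = a * L.t := by rw [ha]; group
    have e2 := congrArg (fun x => x * x) e1
    rw [show (d : G) * x * (d : G)⁻¹ * ((d : G) * x * (d : G)⁻¹) = (d : G) * (x * x) * (d : G)⁻¹ by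
      group, hx2, mul_one, mul_inv_cancel, hca.mul_mul_mul_comm, L.ht2, mul_one] at e2
    rwa [zpow_eq_one_of_sq hodd (hi ▸ Subgroup.zpow_mem_zpowers k i) e2.symm, one_mul] at e1
  · rcases hd with ⟨-, h12⟩ | ⟨-, ⟨e⟩⟩
    · exact Or.inl (by rw [← hD, hcard, h12])
    · refine Or.inr ⟨by
        rw [← hD, hcard, Nat.card_congr e.toEquiv, nat_card_alternatingGroup, Nat.card_fin]; rfl,
        e.toMonoidHom.comp φ, e.surjective.comp (QuotientGroup.mk'_surjective _), fun d => ?_⟩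
      show e (φ d) = 1 ↔ _
      rw [e.map_eq_one_iff, hφ]

end Loc

end CfsgLib.HallJanko
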