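import Cfsg.Agent.HallJanko.Rho
import Cfsg.Agent.HallJanko.AutFix
import Cfsg.Agent.Inv54.DihedralEight
import Mathlib.GroupTheory.Transfer

/-!
# The centraliser of an involution of the second class
-/

set_option autoImplicit false
set_option linter.style.haveILetI false

namespace CfsgLib.HallJanko

variable {G : Type*} [Group G] [Finite G] {z : G} {Q : Subgroup G}

namespace Loc

variable (h : Core z Q) (L : Loc z Q)

/-- The involution of `Q`. -/
abbrev u : G := L.F.a L.f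

/-- The second involution of the four-group centralised by `r`. -/
def t2 : G := L.s * L.t * L.s⁻¹

omit [Finite G] in
theorem s_cube : L.s * L.s * L.s = 1 := by
  have := pow_orderOf_eq_one L.s
  rwa [L.hs3, pow_succ, pow_two] at this

omit [Finite G] in
theorem r_cube : L.r * L.r * L.r = 1 := by
  have := pow_orderOf_eq_one L.r
  rwa [L.hr3, pow_succ, pow_two] at this

include h

omit [Finite G] in
theorem t_ord : orderOf L.t = 2 :=
  CfsgLib.Small.orderOf_eq_two_iff_sq.2 ⟨fun e => L.htQ (by rw [e]; exact Q.one_mem), L.ht2⟩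

omit [Finite G] in
theorem r_uz : L.r * (L.u * z) * L.r⁻¹ = z := by
  rw [show L.r * (L.u * z) * L.r⁻¹ = L.r * L.u * L.r⁻¹ * (L.r * z * L.r⁻¹) by group, L.hru, L.hrz,
    h.hQC _ (L.F.mem _), mul_assoc, L.F.sq, mul_one]

omit [Finite G] in
theorem t2_facts : L.t2 * z = z * L.t2 ∧ L.t2 * L.t2 = 1 ∧ L.t2 ∉ Q ∧
    L.t2 * L.u = L.u * L.t2 ∧ L.r * L.t2 = L.t2 * L.r := by
  have hsi : Commute L.s⁻¹ z := (show Commute L.s z from L.hs).inv_left
  refine ⟨(((show Commute L.s z from L.hs).mul_left L.ht).mul_left hsi).eq, ?_, fun hm => L.htQ ?_,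
    (((show Commute L.s L.u from L.hsu).mul_left L.htu).mul_left
      (show Commute L.s L.u from L.hsu).inv_left).eq,
    (((show Commute L.r L.s from L.hrs).mul_right L.hrt).mul_right
      (show Commute L.r L.s from L.hrs).inv_right).eq⟩
  · rw [t2, show L.s * L.t * L.s⁻¹ * (L.s * L.t * L.s⁻¹) = L.s * (L.t * L.t) * L.s⁻¹ by group,
      L.ht2, mul_one, mul_inv_cancel]
  · rw [t2] at hm
    have := h.hn L.s⁻¹ hsi.eq _ hm
    rwa [show L.s⁻¹ * (L.s * L.t * L.s⁻¹) * L.s⁻¹⁻¹ = L.t by group] at this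

omit [Finite G] in
/-- `t`, `t₂` and `s t₂ s⁻¹` form a four-group with `1`. -/
theorem t_rel : L.t * L.t2 = L.t2 * L.t ∧ L.s * L.t2 * L.s⁻¹ = L.t * L.t2 := by
  obtain ⟨f', hf', hu', hc'⟩ := L.F.exists_fixed h L.ht L.ht2 L.htQ
  obtain rfl : f' = L.f := (hu' _ (L.F.fix_of_commute h L.ht L.htu)).symm
  obtain ⟨x, hx⟩ : ∃ x, x = L.t * L.t2 * (L.s * L.t2 * L.s⁻¹) := ⟨_, rfl⟩
  have hboth : L.t * L.t2 = L.t2 * L.t ∧ (Eqz z x 1 ∨ Eqz z x L.u) := by
    rcases L.F.three_orbit h L.ht L.ht2 L.htQ hf' L.htu L.hs L.hs3 L.hsu with ⟨e1, e2⟩ | ⟨e1, e2⟩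
    · exact ⟨e1, Or.inl (hx ▸ e2)⟩
    · exact ⟨e1, Or.inr (hx ▸ e2)⟩
  have hrx : L.r * x * L.r⁻¹ = x := by
    have hc : Commute L.r x := hx ▸ ((show Commute L.r L.t from L.hrt).mul_right
      (L.t2_facts h).2.2.2.2).mul_right
        (((show Commute L.r L.s from L.hrs).mul_right (L.t2_facts h).2.2.2.2).mul_right
          (show Commute L.r L.s from L.hrs).inv_right)
    rw [hc.eq, mul_inv_cancel_right]
  have hx1 : x = 1 := by
    rcases hboth.2 with (e | e) | (e | e)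
    · exact e
    · rw [one_mul] at e
      rw [e, L.hrz] at hrx
      exact absurd hrx (L.F.ne_z _)
    · rw [e, L.hru] at hrx
      exact absurd (mul_eq_left.1 hrx) h.z_ne_one
    · rw [e, L.r_uz h] at hrx
      exact absurd (mul_eq_right.1 hrx.symm) (L.F.ne_one _)
  refine ⟨hboth.1, ?_⟩
  rw [hx] at hx1
  have e := eq_inv_of_mul_eq_one_right hx1
  rw [e, mul_inv_rev, inv_eq_of_mul_eq_one_left L.ht2,
    inv_eq_of_mul_eq_one_left (L.t2_facts h).2.1, hboth.1]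

omit h [Finite G] in
/-- The four-group `{1, t, t₂, t t₂}`. -/
def vsub (hV : L.t2 * L.t2 = 1) (hc : L.t * L.t2 = L.t2 * L.t) : Subgroup G where
  carrier := {1, L.t, L.t2, L.t * L.t2}
  one_mem' := Or.inl rfl
  mul_mem' := by
    have hl : ∀ x : G, L.t2 * (L.t * x) = L.t * (L.t2 * x) := fun x => by
      rw [← mul_assoc, ← hc, mul_assoc]
    have h1 : ∀ x : G, L.t * (L.t * x) = x := fun x => by rw [← mul_assoc, L.ht2, one_mul]
    have h2 : ∀ x : G, L.t2 * (L.t2 * x) = x := fun x => by rw [← mul_assoc, hV, one_mul]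
    rintro a b (rfl | rfl | rfl | rfl) (rfl | rfl | rfl | rfl) <;>
      simp only [Set.mem_insert_iff, Set.mem_singleton_iff, mul_assoc, one_mul, mul_one, L.ht2, hV,
        hl, h1, h2, ← hc, true_or, or_true]
  inv_mem' := by
    rintro a (rfl | rfl | rfl | rfl) <;>
      simp [inv_eq_of_mul_eq_one_left L.ht2, inv_eq_of_mul_eq_one_left hV, mul_inv_rev, hc]

/-- The four-group centralised by `r`. -/
def V : Subgroup G := L.vsub (L.t2_facts h).2.1 (L.t_rel h).1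

omit [Finite G] in
theorem mem_V {v : G} : v ∈ L.V h ↔ v = 1 ∨ v = L.t ∨ v = L.t2 ∨ v = L.t * L.t2 := Iff.rfl

omit [Finite G] in
theorem t_mem_V : L.t ∈ L.V h := Or.inr (Or.inl rfl)

omit [Finite G] in
theorem t2_mem_V : L.t2 ∈ L.V h := Or.inr (Or.inr (Or.inl rfl))

omit [Finite G] in
theorem V_comm {v : G} (hv : v ∈ L.V h) :
    v * z = z * v ∧ v * L.u = L.u * v ∧ L.r * v = v * L.r ∧ v * L.t = L.t * v ∧ v * v = 1 := by
  obtain ⟨a1, a2, -, a4, a5⟩ := L.t2_facts h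
  have hc := (L.t_rel h).1
  rcases (L.mem_V h).1 hv with rfl | rfl | rfl | rfl
  · simp
  · exact ⟨L.ht, L.htu, L.hrt, rfl, L.ht2⟩
  · exact ⟨a1, a4, a5, hc.symm, a2⟩
  · exact ⟨((show Commute L.t z from L.ht).mul_left a1).eq,
      ((show Commute L.t L.u from L.htu).mul_left a4).eq,
      ((show Commute L.r L.t from L.hrt).mul_right a5).eq,
      ((Commute.refl L.t).mul_left hc.symm).eq,
      by rw [(show Commute L.t2 L.t from hc.symm).mul_mul_mul_comm, L.ht2, a2, one_mul]⟩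

omit [Finite G] in
theorem s_V {v : G} (hv : v ∈ L.V h) : L.s * v * L.s⁻¹ ∈ L.V h := by
  rcases (L.mem_V h).1 hv with rfl | rfl | rfl | rfl
  · simpa using (L.V h).one_mem
  · exact L.t2_mem_V h
  · rw [(L.t_rel h).2]
    exact Or.inr (Or.inr (Or.inr rfl))
  · rw [show L.s * (L.t * L.t2) * L.s⁻¹ = L.t2 * (L.s * L.t2 * L.s⁻¹) by rw [t2]; group]
    exact (L.V h).mul_mem (L.t2_mem_V h) (by rw [(L.t_rel h).2]; exact Or.inr (Or.inr (Or.inr rfl)))

omit [Finite G] in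
theorem t2_ne : L.t2 ≠ L.t ∧ L.t * L.t2 ∉ Q := by
  have h3 : L.t * L.t2 ∉ Q := fun hm => by
    rw [← (L.t_rel h).2] at hm
    have := h.hn L.s⁻¹ (show Commute L.s z from L.hs).inv_left.eq _ hm
    rw [show L.s⁻¹ * (L.s * L.t2 * L.s⁻¹) * L.s⁻¹⁻¹ = L.t2 by group] at this
    exact (L.t2_facts h).2.2.1 this
  exact ⟨fun e => h3 (by rw [e, L.ht2]; exact Q.one_mem), h3⟩

omit [Finite G] in
theorem V_eq_one {v : G} (hv : v ∈ L.V h) (hQ : v ∈ Q) : v = 1 := by
  rcases (L.mem_V h).1 hv with rfl | rfl | rfl | rfl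
  exacts [rfl, absurd hQ L.htQ, absurd hQ (L.t2_facts h).2.2.1, absurd hQ (L.t2_ne h).2]

theorem card_V : Nat.card (L.V h) = 4 := by
  show Nat.card ({1, L.t, L.t2, L.t * L.t2} : Set G) = 4
  have n1 : (1 : G) ≠ L.t := fun e => L.htQ (e ▸ Q.one_mem)
  have n2 : (1 : G) ≠ L.t2 := fun e => (L.t2_facts h).2.2.1 (e ▸ Q.one_mem)
  have n3 : (1 : G) ≠ L.t * L.t2 := fun e => (L.t2_ne h).2 (e ▸ Q.one_mem)
  have n4 : L.t ≠ L.t2 := (L.t2_ne h).1.symm
  have n5 : L.t ≠ L.t * L.t2 := fun e => n2 (mul_eq_left.1 e.symm).symm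
  have n6 : L.t2 ≠ L.t * L.t2 := fun e => n1 (mul_eq_right.1 e.symm).symm
  rw [Nat.card_coe_set_eq, Set.ncard_insert_of_notMem (by simp [n1, n2, n3]),
    Set.ncard_insert_of_notMem (by simp [n4, n5]), Set.ncard_pair n6]

theorem nz : ¬ IsConj z L.t := h.not_isConj_outside L.ht L.ht2 L.htQ

theorem ne_one_V {v : G} (hv : v ∈ L.V h) (hv1 : v ≠ 1) :
    orderOf v = 2 ∧ ¬ IsConj z v :=
  ⟨CfsgLib.Small.orderOf_eq_two_iff_sq.2 ⟨hv1, (L.V_comm h hv).2.2.2.2⟩,
    h.not_isConj_outside (L.V_comm h hv).1 (L.V_comm h hv).2.2.2.2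
      fun hq => hv1 (L.V_eq_one h hv hq)⟩

omit h [Finite G] in
/-- The three involutions of the four-group of `Q`. -/
def InE (e : G) : Prop := e = 1 ∨ e = z ∨ e = L.u ∨ e = L.u * z

omit [Finite G] in
theorem inE_iff {e : G} : L.InE e ↔ Eqz z e 1 ∨ Eqz z e L.u := by
  simp only [InE, Eqz, one_mul]
  tauto

omit [Finite G] in
theorem uz_props : L.u * z ∈ Q ∧ IsConj z (L.u * z) ∧ L.u * z ≠ 1 :=
  ⟨Q.mul_mem (L.F.mem _) h.hzQ, (isConj_iff.2 ⟨L.r⁻¹, by
      have := L.r_uz h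
      calc L.r⁻¹ * z * L.r⁻¹⁻¹ = L.r⁻¹ * (L.r * (L.u * z) * L.r⁻¹) * L.r := by rw [this, inv_inv]
        _ = L.u * z := by group⟩),
    fun e => L.F.ne_z L.f (by
      calc L.F.a L.f = L.u * z * z := by rw [mul_assoc, h.zz, mul_one]
        _ = z := by rw [e, one_mul])⟩

omit [Finite G] in
theorem inE_props {e : G} (he : L.InE e) :
    e ∈ Q ∧ (e ≠ 1 → IsConj z e) ∧ e * L.u = L.u * e ∧ e * L.t = L.t * e := by
  rcases he with he | he | he | he <;> rw [he]
  · simp [Q.one_mem]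
  · exact ⟨h.hzQ, fun _ => IsConj.refl z, (h.hQC _ (L.F.mem _)).symm, L.ht.symm⟩
  · exact ⟨L.F.mem _, fun _ => h.conj_a L.F _, rfl, L.htu.symm⟩
  · exact ⟨(L.uz_props h).1, fun _ => (L.uz_props h).2.1,
      ((Commute.refl L.u).mul_left (h.hQC _ (L.F.mem _)).symm).eq,
      ((show Commute L.u L.t from L.htu.symm).mul_left L.ht.symm).eq⟩

/-- The centraliser of `z` and `t`. -/
theorem mem_F {k : G} (hkz : k * z = z * k) (hkt : k * L.t = L.t * k) :
    ∃ e v : G, L.InE e ∧ v ∈ L.V h ∧ k = e * v := by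
  classical
  obtain ⟨f', hf', hu', hc'⟩ := L.F.exists_fixed h L.ht L.ht2 L.htQ
  obtain rfl : f' = L.f := (hu' _ (L.F.fix_of_commute h L.ht L.htu)).symm
  set K := Subgroup.centralizer ({z} : Set G) ⊓ Subgroup.centralizer ({L.t} : Set G)
  let S : Set G := {1, z, L.u, L.u * z}
  let mk : S × L.V h → K := fun p => ⟨(p.1 : G) * p.2, by
    refine ⟨Subgroup.mem_centralizer_singleton_iff.2 ?_,
      Subgroup.mem_centralizer_singleton_iff.2 ?_⟩
    · exact ((show Commute (p.1 : G) z from h.hQC _ (L.inE_props h p.1.2).1).mul_left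
        (L.V_comm h p.2.2).1).eq
    · exact ((show Commute (p.1 : G) L.t from (L.inE_props h p.1.2).2.2.2).mul_left
        (L.V_comm h p.2.2).2.2.2.1).eq⟩
  have hinj : Function.Injective mk := by
    rintro ⟨⟨e, he⟩, ⟨v, hv⟩⟩ ⟨⟨e', he'⟩, ⟨v', hv'⟩⟩ heq
    have e1 : e * v = e' * v' := congrArg Subtype.val heq
    have e2 : v * v' = e⁻¹ * e' := by
      calc v * v' = e⁻¹ * (e * v) * v' := by group
        _ = e⁻¹ * e' * (v' * v') := by rw [e1]; group
        _ = e⁻¹ * e' := by rw [(L.V_comm h hv').2.2.2.2, mul_one]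
    have e3 : v * v' = 1 := L.V_eq_one h ((L.V h).mul_mem hv hv')
      (e2 ▸ Q.mul_mem (Q.inv_mem (L.inE_props h he).1) (L.inE_props h he').1)
    have e4 : v = v' := by
      calc v = v * (v' * v') := by rw [(L.V_comm h hv').2.2.2.2, mul_one]
        _ = v' := by rw [← mul_assoc, e3, one_mul]
    subst e4
    exact Prod.ext (Subtype.ext (mul_right_cancel e1)) rfl
  have hS : Nat.card S = 4 := by
    have n1 : (1 : G) ≠ z := h.z_ne_one.symm
    have n2 : (1 : G) ≠ L.u := (L.F.ne_one _).symm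
    have n3 : (1 : G) ≠ L.u * z := (L.uz_props h).2.2.symm
    have n4 : z ≠ L.u := (L.F.ne_z _).symm
    have n5 : z ≠ L.u * z := fun e => n2 (mul_eq_right.1 e.symm).symm
    have n6 : L.u ≠ L.u * z := fun e => n1 (mul_eq_left.1 e.symm).symm
    show Nat.card ({1, z, L.u, L.u * z} : Set G) = 4
    rw [Nat.card_coe_set_eq, Set.ncard_insert_of_notMem (by simp [n1, n2, n3]),
      Set.ncard_insert_of_notMem (by simp [n4, n5]), Set.ncard_pair n6]
  have hbij := (Nat.bijective_iff_injective_and_card mk).2 ⟨hinj, by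
    rw [Nat.card_prod, hS, L.card_V h, (L.F.outside_main h L.ht L.ht2 L.htQ).1]⟩
  obtain ⟨p, hp⟩ := hbij.2 ⟨k, Subgroup.mem_centralizer_singleton_iff.2 hkz,
    Subgroup.mem_centralizer_singleton_iff.2 hkt⟩
  exact ⟨_, _, p.1.2, p.2.2, (congrArg Subtype.val hp).symm⟩

theorem F_props {k : G} (hkz : k * z = z * k) (hkt : k * L.t = L.t * k) :
    k * k = 1 ∧ k * L.u = L.u * k ∧ (k ∈ Q → L.InE k) := by
  obtain ⟨f', hf', hu', hc'⟩ := L.F.exists_fixed h L.ht L.ht2 L.htQ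
  obtain rfl : f' = L.f := (hu' _ (L.F.fix_of_commute h L.ht L.htu)).symm
  obtain ⟨h1, h2, h3⟩ := L.F.cent_outside h L.ht L.ht2 L.htQ hf' hu' L.htu hkz hkt
  exact ⟨h1, h2, fun hq => (L.inE_iff h).2 (h3 hq)⟩

/-- For each involution `e` of the four-group of `Q`, `C(e) ∩ C(t) = C(z) ∩ C(t)`. -/
theorem cent_inE {e : G} (he : L.InE e) (he1 : e ≠ 1) {k : G} (hke : k * e = e * k)
    (hkt : k * L.t = L.t * k) : k * z = z * k := by
  set A := Subgroup.centralizer ({z} : Set G) ⊓ Subgroup.centralizer ({L.t} : Set G) with hA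
  set B := Subgroup.centralizer ({e} : Set G) ⊓ Subgroup.centralizer ({L.t} : Set G) with hB
  have hle : A ≤ B := by
    intro x hx
    have hxz := Subgroup.mem_centralizer_singleton_iff.1 hx.1
    obtain ⟨-, hxu, -⟩ := L.F_props h hxz (Subgroup.mem_centralizer_singleton_iff.1 hx.2)
    refine ⟨Subgroup.mem_centralizer_singleton_iff.2 ?_, hx.2⟩
    rcases he with he | he | he | he <;> rw [he]
    exacts [absurd he he1, hxz, hxu, ((show Commute x L.u from hxu).mul_right hxz).eq]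
  have heq : A = B := Subgroup.eq_of_le_of_card_ge hle (by
    rw [(h.pair_cent ((L.inE_props h he).2.1 he1) (L.t_ord h) (L.nz h)
        (L.inE_props h he).2.2.2.symm).1, (L.F.outside_main h L.ht L.ht2 L.htQ).1])
  have hk : k ∈ B :=
    ⟨Subgroup.mem_centralizer_singleton_iff.2 hke, Subgroup.mem_centralizer_singleton_iff.2 hkt⟩
  rw [← heq] at hk
  exact Subgroup.mem_centralizer_singleton_iff.1 hk.1

/-- An element of `C(t)` normalising `C(z) ∩ C(t)`. -/
theorem norm_F {g : G} (hgt : g * L.t = L.t * g)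
    (hg : g * z * g⁻¹ * z = z * (g * z * g⁻¹)) :
    ∃ i : ℕ, i < 3 ∧ ∃ k : G, k * z = z * k ∧ k * L.t = L.t * k ∧ g = L.r ^ i * k := by
  have hzt : g * z * g⁻¹ * L.t = L.t * (g * z * g⁻¹) :=
    (((show Commute g L.t from hgt).mul_left L.ht.symm).mul_left
      (show Commute g L.t from hgt).inv_left).eq
  have he : L.InE (g * z * g⁻¹) :=
    (L.F_props h hg hzt).2.2 (h.mem_of_isConj hg (isConj_iff.2 ⟨g, rfl⟩))
  have key : ∀ i : ℕ, i < 3 → L.r ^ i * z * (L.r ^ i)⁻¹ = g * z * g⁻¹ →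
      ∃ i : ℕ, i < 3 ∧ ∃ k : G, k * z = z * k ∧ k * L.t = L.t * k ∧ g = L.r ^ i * k := by
    intro i hi e
    refine ⟨i, hi, (L.r ^ i)⁻¹ * g, ?_, ?_, by rw [mul_inv_cancel_left]⟩
    · calc (L.r ^ i)⁻¹ * g * z = (L.r ^ i)⁻¹ * (g * z * g⁻¹) * g := by group
        _ = z * ((L.r ^ i)⁻¹ * g) := by rw [← e]; group
    · exact (((show Commute L.r L.t from L.hrt).pow_left i).inv_left.mul_left hgt).eq
  rcases he with e | e | e | e
  · exact absurd (conj_eq_one_iff.1 e) h.z_ne_one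
  · exact key 0 (by norm_num) (by rw [e]; simp)
  · exact key 1 (by norm_num) (by rw [e, pow_one, L.hrz])
  · exact key 2 (by norm_num) (by
      rw [e, pow_two, show L.r * L.r * z * (L.r * L.r)⁻¹ = L.r * (L.r * z * L.r⁻¹) * L.r⁻¹ by group,
        L.hrz, L.hru])

end Loc

/-- The normal complement of the four-group in `C(t)`. -/
structure Comp {z : G} {Q : Subgroup G} (h : Core z Q) (L : Loc z Q) (X0 : Subgroup G) : Prop where
  le : ∀ y ∈ X0, y * L.t = L.t * y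
  nrm : ∀ g : G, g * L.t = L.t * g → ∀ y ∈ X0, g * y * g⁻¹ ∈ X0
  memz : z ∈ X0
  memu : L.F.a L.f ∈ X0
  memr : L.r ∈ X0
  inter : ∀ v ∈ L.V h, v ∈ X0 → v = 1
  decomp : ∀ g : G, g * L.t = L.t * g → ∃ v ∈ L.V h, v⁻¹ * g ∈ X0
  dich : Nat.card X0 = 12 ∨ Nonempty (X0 ≃* alternatingGroup (Fin 5))
  vcomm : ∀ v ∈ L.V h, ∀ y ∈ X0, v * y = y * v
  inv_conj : ∀ y ∈ X0, orderOf y = 2 → ∃ g ∈ X0, g * z * g⁻¹ = y
  cent_z : ∀ y ∈ X0, y * z = z * y → L.InE y
  scomm : Nonempty (X0 ≃* alternatingGroup (Fin 5)) → ∀ y ∈ X0, L.s * y = y * L.s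

end CfsgLib.HallJanko
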