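import Cfsg.Agent.HallJanko.Invol
import Mathlib.GroupTheory.Nilpotent

/-!
# The two classes of involutions
-/

set_option autoImplicit false
set_option linter.style.haveILetI false

namespace CfsgLib.HallJanko

variable {G : Type*} [Group G] [Finite G] {z : G} {Q : Subgroup G}

namespace Core

variable (h : Core z Q)
include h

omit [Finite G] in
theorem orderOf_two {x : G} (hx : IsConj z x) : orderOf x = 2 := by
  obtain ⟨c, rfl⟩ := isConj_iff.1 hx
  rw [CfsgLib.Small.orderOf_conj_eq, h.hz]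

omit [Finite G] in
/-- Every non-central involution of a frame is conjugate to `z`. -/
theorem conj_a (F : Frame z Q) (i : Fin 5) : IsConj z (F.a i) := by
  obtain ⟨u, hu, huz, hzu⟩ := h.hnwc
  obtain ⟨c₀, hc₀⟩ := isConj_iff.1 hzu
  have hu2 : u * u = 1 := by
    rw [← hc₀, show c₀ * z * c₀⁻¹ * (c₀ * z * c₀⁻¹) = c₀ * (z * z) * c₀⁻¹ by group, h.zz, mul_one,
      mul_inv_cancel]
  have hu1 : u ≠ 1 := fun e => h.z_ne_one (conj_eq_one_iff.1 (hc₀.trans e))
  have htw : ∀ j, IsConj (F.a j) (F.a j * z) := by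
    intro j
    obtain ⟨k, hk⟩ := exists_ne j
    refine isConj_iff.2 ⟨F.a k, ?_⟩
    rw [inv_eq_of_mul_eq_one_left (F.sq k), F.nc k j hk, mul_assoc (F.a j * F.a k) z,
      ← h.hQC _ (F.mem k), ← mul_assoc, mul_assoc (F.a j), F.sq k, mul_one]
  rcases F.cover u hu with (e | e) | ⟨j, e⟩ | ⟨j, l, hjl, e⟩
  · exact absurd e hu1
  · exact absurd (e.trans (one_mul z)) huz
  · have hj : IsConj z (F.a j) := by
      rcases e with e | e
      · exact e ▸ hzu
      · exact (e ▸ hzu : IsConj z (F.a j * z)).trans (htw j).symm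
    obtain ⟨g, hg⟩ := Alt.transitive j i
    obtain ⟨c, rfl⟩ := F.surj g
    have e2 := F.act c j
    rw [hg] at e2
    rcases e2 with e2 | e2
    · exact hj.trans (isConj_iff.2 ⟨c, e2⟩)
    · exact (hj.trans (isConj_iff.2 ⟨c, e2⟩)).trans (htw i).symm
  · exfalso
    have := h.eqz_sq (Q.mul_mem (F.mem j) (F.mem l)) e
    rw [hu2, F.sq4 h j l hjl] at this
    exact h.z_ne_one this.symm

/-- Every involution of `Q` is conjugate to `z`. -/
theorem isConj_of_mem {x : G} (hx : x ∈ Q) (hx2 : orderOf x = 2) : IsConj z x := by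
  obtain ⟨F⟩ := h.exists_frame
  obtain ⟨hx1, hxx⟩ := CfsgLib.Small.orderOf_eq_two_iff_sq.1 hx2
  rcases F.cover x hx with (e | e) | ⟨i, e⟩ | ⟨i, j, hij, e⟩
  · exact absurd e hx1
  · rw [e, one_mul]
  · rcases e with rfl | rfl
    · exact h.conj_a F i
    · obtain ⟨j, hj⟩ := exists_ne i
      refine (h.conj_a F i).trans (isConj_iff.2 ⟨F.a j, ?_⟩)
      rw [inv_eq_of_mul_eq_one_left (F.sq j), F.nc j i hj, mul_assoc (F.a i * F.a j) z,
        ← h.hQC _ (F.mem j), ← mul_assoc, mul_assoc (F.a i), F.sq j, mul_one]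
  · exfalso
    have := h.eqz_sq (Q.mul_mem (F.mem i) (F.mem j)) e
    rw [hxx, F.sq4 h i j hij] at this
    exact h.z_ne_one this.symm

/-- A Sylow 2-subgroup of `C(z)` is one of `G`. -/
theorem exists_conj_commute {x : G} (hx : orderOf x = 2) :
    ∃ g : G, g * x * g⁻¹ * z = z * (g * x * g⁻¹) := by
  haveI := Fact.mk Nat.prime_two
  set C := Subgroup.centralizer ({z} : Set G) with hC
  obtain ⟨T⟩ : Nonempty (Sylow 2 C) := inferInstance
  let T' : Subgroup G := (T : Subgroup C).map C.subtype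
  have hT'C : T' ≤ C := Subgroup.map_subtype_le _
  have hT'p : IsPGroup 2 T' := T.2.map _
  obtain ⟨P, hP⟩ := hT'p.exists_le_sylow
  let Qc : Subgroup C := Q.subgroupOf C
  haveI hQn : Qc.Normal := ⟨fun q hq c => Subgroup.mem_subgroupOf.2
    (h.hn c (Subgroup.mem_centralizer_singleton_iff.1 c.2) q (Subgroup.mem_subgroupOf.1 hq))⟩
  have hQp : IsPGroup 2 Qc := IsPGroup.of_card (n := 5) (by
    rw [Nat.card_congr (Subgroup.subgroupOfEquivOfLe fun q hq => h.mem_C hq).toEquiv, h.hcard]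
    rfl)
  have hQT : Q ≤ T' := fun q hq =>
    ⟨⟨q, h.mem_C hq⟩, hQp.le_sylow_of_normal T (Subgroup.mem_subgroupOf.2 hq), rfl⟩
  have hnorm : ∀ g ∈ (P : Subgroup G), (∀ y ∈ T', g * y * g⁻¹ ∈ T') → g ∈ C := by
    intro g _ hg
    have hz' : g * z * g⁻¹ ∈ T' := hg z (hQT h.hzQ)
    have hcent : ∀ y ∈ T', g * z * g⁻¹ * y = y * (g * z * g⁻¹) := by
      intro y hy
      obtain ⟨⟨w, hw⟩, hwy⟩ := Finite.surjective_of_injective
        (f := fun w : T' => (⟨g * w * g⁻¹, hg w w.2⟩ : T'))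
        (fun a b e => Subtype.ext (mul_left_cancel (mul_right_cancel (congrArg Subtype.val e))))
        ⟨y, hy⟩
      obtain rfl : g * w * g⁻¹ = y := congrArg Subtype.val hwy
      have hwz : w * z = z * w := Subgroup.mem_centralizer_singleton_iff.1 (hT'C hw)
      calc g * z * g⁻¹ * (g * w * g⁻¹) = g * (z * w) * g⁻¹ := by group
        _ = g * w * g⁻¹ * (g * z * g⁻¹) := by rw [← hwz]; group
    have hzQ' : g * z * g⁻¹ ∈ Q :=
      h.hCQ _ (hcent z (hQT h.hzQ)) fun q hq => hcent q (hQT hq)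
    rcases h.hcenter _ hzQ' fun q hq => hcent q (hQT hq) with e | e
    · exact absurd (conj_eq_one_iff.1 e) h.z_ne_one
    · exact Subgroup.mem_centralizer_singleton_iff.2 (mul_inv_eq_iff_eq_mul.1 e)
  have hPT : (P : Subgroup G) = T' := by
    refine le_antisymm ?_ hP
    let T'' : Subgroup (P : Subgroup G) := T'.subgroupOf P
    by_contra hne
    have hlt : T'' < ⊤ := lt_top_iff_ne_top.2 fun e => hne fun y hy => by
      have : (⟨y, hy⟩ : (P : Subgroup G)) ∈ T'' := e ▸ Subgroup.mem_top _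
      exact Subgroup.mem_subgroupOf.1 this
    haveI : Group.IsNilpotent (P : Subgroup G) := P.2.isNilpotent
    have hnc := Group.normalizerCondition_of_isNilpotent (G := (P : Subgroup G)) T'' hlt
    obtain ⟨g, hg, hgT⟩ := SetLike.exists_of_lt hnc
    rw [Subgroup.mem_normalizer_iff] at hg
    apply hgT
    rw [Subgroup.mem_subgroupOf]
    have hgC : (g : G) ∈ C := hnorm g g.2 fun y hy => by
      have := (hg ⟨y, hP hy⟩).1 (Subgroup.mem_subgroupOf.2 hy)
      exact Subgroup.mem_subgroupOf.1 this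
    let PC : Subgroup C := (P : Subgroup G).subgroupOf C
    have hPC : IsPGroup 2 PC := P.2.comap_of_injective C.subtype C.subtype_injective
    have hTPC : (T : Subgroup C) ≤ PC :=
      fun c hc => Subgroup.mem_subgroupOf.2 (hP ⟨c, hc, rfl⟩)
    have := T.3 hPC hTPC
    exact ⟨⟨g, hgC⟩, by rw [← this]; exact Subgroup.mem_subgroupOf.2 g.2, rfl⟩
  obtain ⟨R, hR⟩ := (IsPGroup.of_card (p := 2) (n := 1)
    (show Nat.card (Subgroup.zpowers x) = 2 ^ 1 by rw [Nat.card_zpowers, hx, pow_one])).exists_le_sylow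
  obtain ⟨g, rfl⟩ := MulAction.exists_smul_eq G R P
  refine ⟨g, Subgroup.mem_centralizer_singleton_iff.1 (hT'C (hPT ▸ ?_))⟩
  rw [Sylow.coe_subgroup_smul]
  exact ⟨x, hR (Subgroup.mem_zpowers x), rfl⟩

/-- There is an involution of `C(z)` outside `Q`. -/
theorem exists_outside : ∃ t : G, t * z = z * t ∧ t * t = 1 ∧ t ∉ Q := by
  by_contra! hno
  have hall : ∀ x : G, orderOf x = 2 → IsConj z x := fun x hx => by
    obtain ⟨g, hg⟩ := h.exists_conj_commute hx
    have h2 : orderOf (g * x * g⁻¹) = 2 := by rw [CfsgLib.Small.orderOf_conj_eq, hx]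
    exact (h.isConj_of_mem (hno _ hg (CfsgLib.Small.mul_self_of_orderOf_two h2)) h2).trans
      (isConj_iff.2 ⟨g, rfl⟩).symm
  obtain ⟨x, y, hx, hy, hxy⟩ := h.hcl
  exact hxy ((hall x hx).symm.trans (hall y hy))

theorem outside_conj {t x : G} (ht : t * z = z * t) (ht2 : t * t = 1) (htQ : t ∉ Q)
    (hx : x * z = z * x) (hx2 : x * x = 1) (hxQ : x ∉ Q) : IsConj t x := by
  obtain ⟨F⟩ := h.exists_frame
  obtain ⟨c, -, hc⟩ := (F.outside_main h ht ht2 htQ).2.2 x hx hx2 hxQ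
  exact isConj_iff.2 ⟨c, hc⟩

/-- There are at most two classes of involutions. -/
theorem classes {t x : G} (ht : t * z = z * t) (ht2 : t * t = 1) (htQ : t ∉ Q)
    (hx : orderOf x = 2) : IsConj z x ∨ IsConj t x := by
  obtain ⟨g, hg⟩ := h.exists_conj_commute hx
  have h2 : orderOf (g * x * g⁻¹) = 2 := by rw [CfsgLib.Small.orderOf_conj_eq, hx]
  by_cases hQ : g * x * g⁻¹ ∈ Q
  · exact Or.inl ((h.isConj_of_mem hQ h2).trans (isConj_iff.2 ⟨g, rfl⟩).symm)
  · exact Or.inr ((h.outside_conj ht ht2 htQ hg (CfsgLib.Small.mul_self_of_orderOf_two h2) hQ).trans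
      (isConj_iff.2 ⟨g, rfl⟩).symm)

theorem not_isConj_outside {t : G} (ht : t * z = z * t) (ht2 : t * t = 1) (htQ : t ∉ Q) :
    ¬ IsConj z t := by
  intro hzt
  obtain ⟨x, y, hx, hy, hxy⟩ := h.hcl
  have hall : ∀ w : G, orderOf w = 2 → IsConj z w := fun w hw =>
    (h.classes ht ht2 htQ hw).elim id hzt.trans
  exact hxy ((hall x hx).symm.trans (hall y hy))

theorem mem_of_isConj {x : G} (hxz : x * z = z * x) (hx : IsConj z x) : x ∈ Q :=
  by_contra fun hn =>
    h.not_isConj_outside hxz (CfsgLib.Small.mul_self_of_orderOf_two (h.orderOf_two hx)) hn hx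

theorem not_mem_of_not_isConj {x : G} (hx : orderOf x = 2) (hn : ¬ IsConj z x) : x ∉ Q :=
  fun hm => hn (h.isConj_of_mem hm hx)

/-- An element centralising `u` and moving `z` to `z * u`. -/
theorem exists_swap {u : G} (hu : u ∈ Q) (hzu : IsConj z u) (huz : u ≠ z) :
    ∃ k : G, k * z * k⁻¹ = z * u ∧ k * u * k⁻¹ = u := by
  obtain ⟨F⟩ := h.exists_frame
  obtain ⟨g, rfl⟩ := isConj_iff.1 hzu
  obtain ⟨w, hw⟩ : ∃ w, w = g⁻¹ * z * g := ⟨_, rfl⟩
  have hc := h.hQC _ hu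
  have hwz : w * z = z * w := by
    rw [hw]
    calc g⁻¹ * z * g * z = g⁻¹ * (z * (g * z * g⁻¹)) * g := by group
      _ = z * (g⁻¹ * z * g) := by rw [← hc]; group
  have hw' : IsConj z w := hw ▸ isConj_iff.2 ⟨g⁻¹, by group⟩
  have hwQ := h.mem_of_isConj hwz hw'
  have hwne : w ≠ z := fun e => huz (by
    rw [hw] at e
    calc g * z * g⁻¹ = g * (g⁻¹ * z * g) * g⁻¹ := by rw [e]
      _ = z := by group)
  obtain ⟨q, hq, hne⟩ : ∃ q ∈ Q, w * q ≠ q * w := by
    by_contra! hh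
    rcases h.hcenter w hwQ hh with e | e
    · exact CfsgLib.Small.ne_one_of_orderOf_two (h.orderOf_two hw') e
    · exact hwne e
  have hqw : q * w * q⁻¹ = w * z := by
    have e := (h.hcomm q hq w hwQ).resolve_left fun e => hne e.symm
    rw [e, mul_assoc (w * q), ← h.hQC _ (Q.inv_mem hq), ← mul_assoc, mul_inv_cancel_right]
  refine ⟨g * q * g⁻¹, ?_, ?_⟩
  · calc g * q * g⁻¹ * z * (g * q * g⁻¹)⁻¹ = g * (q * (g⁻¹ * z * g) * q⁻¹) * g⁻¹ := by group
      _ = z * (g * z * g⁻¹) := by rw [← hw, hqw, hw]; group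
  · calc g * q * g⁻¹ * (g * z * g⁻¹) * (g * q * g⁻¹)⁻¹ = g * (q * z * q⁻¹) * g⁻¹ := by group
      _ = g * z * g⁻¹ := by rw [h.hQC q hq, mul_inv_cancel_right]

/-- The centraliser of two commuting involutions of different classes. -/
theorem pair_cent {e t : G} (he : IsConj z e) (ht : orderOf t = 2) (hnz : ¬ IsConj z t)
    (hte : t * e = e * t) :
    Nat.card (Subgroup.centralizer ({e} : Set G) ⊓ Subgroup.centralizer ({t} : Set G) :
      Subgroup G) = 16 ∧
    ∀ k : G, k * e = e * k → k * t = t * k → k * k = 1 := by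
  obtain ⟨F⟩ := h.exists_frame
  obtain ⟨g, rfl⟩ := isConj_iff.1 he
  obtain ⟨t', ht'⟩ : ∃ t', t' = g⁻¹ * t * g := ⟨_, rfl⟩
  have hrw : ∀ k : G, k * (g * z * g⁻¹) = g * z * g⁻¹ * k ↔
      g⁻¹ * k * g * z = z * (g⁻¹ * k * g) := by
    intro k
    constructor <;> intro e
    · calc g⁻¹ * k * g * z = g⁻¹ * (k * (g * z * g⁻¹)) * g := by group
        _ = z * (g⁻¹ * k * g) := by rw [e]; group
    · calc k * (g * z * g⁻¹) = g * (g⁻¹ * k * g * z) * g⁻¹ := by group
        _ = g * z * g⁻¹ * k := by rw [e]; group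
  have ht'z : t' * z = z * t' := ht' ▸ (hrw t).1 hte
  have hord : orderOf t' = 2 := by
    rw [ht', show g⁻¹ * t * g = g⁻¹ * t * g⁻¹⁻¹ by group, CfsgLib.Small.orderOf_conj_eq, ht]
  have ht'2 := CfsgLib.Small.mul_self_of_orderOf_two hord
  have ht'Q : t' ∉ Q := h.not_mem_of_not_isConj hord fun hc =>
    hnz (hc.trans (isConj_iff.2 ⟨g, by rw [ht']; group⟩))
  obtain ⟨f, hf, huniq, htf⟩ := F.exists_fixed h ht'z ht'2 ht'Q
  refine ⟨?_, fun k hke hkt => ?_⟩
  · rw [← (F.outside_main h ht'z ht'2 ht'Q).1]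
    refine Nat.card_congr ((MulAut.conj g⁻¹).toEquiv.subtypeEquiv fun k => ?_)
    show k ∈ _ ⊓ _ ↔ g⁻¹ * k * g⁻¹⁻¹ ∈ _ ⊓ _
    rw [inv_inv, Subgroup.mem_inf, Subgroup.mem_inf, Subgroup.mem_centralizer_singleton_iff,
      Subgroup.mem_centralizer_singleton_iff, Subgroup.mem_centralizer_singleton_iff,
      Subgroup.mem_centralizer_singleton_iff, hrw, ht']
    refine and_congr_right fun _ => ?_
    constructor <;> intro e
    · calc g⁻¹ * k * g * (g⁻¹ * t * g) = g⁻¹ * (k * t) * g := by group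
        _ = g⁻¹ * t * g * (g⁻¹ * k * g) := by rw [e]; group
    · calc k * t = g * (g⁻¹ * k * g * (g⁻¹ * t * g)) * g⁻¹ := by group
        _ = t * k := by rw [e]; group
  · have hk't : g⁻¹ * k * g * t' = t' * (g⁻¹ * k * g) := by
      rw [ht']
      calc g⁻¹ * k * g * (g⁻¹ * t * g) = g⁻¹ * (k * t) * g := by group
        _ = g⁻¹ * t * g * (g⁻¹ * k * g) := by rw [hkt]; group
    have e := (F.cent_outside h ht'z ht'2 ht'Q hf huniq htf ((hrw k).1 hke) hk't).1
    calc k * k = g * (g⁻¹ * k * g * (g⁻¹ * k * g)) * g⁻¹ := by group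
      _ = 1 := by rw [e, mul_one, mul_inv_cancel]

end Core

end CfsgLib.HallJanko
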