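import Cfsg.Agent.HallJanko.CentT

/-!
# The decomposition `C(t) = V × X₀`
-/

set_option autoImplicit false
set_option linter.style.haveILetI false

namespace CfsgLib.HallJanko

variable {G : Type*} [Group G] [Finite G] {z : G} {Q : Subgroup G}

/-- Three-element relation. -/
theorem cyclic_three_eq_one {A : Type*} [Group A] {a b c : A} (hab : a = b) (hbc : b = c)
    (hc : c = b * a) : a = 1 := by
  subst hab
  rw [← hbc] at hc
  exact mul_eq_left.1 hc.symm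

/-- The transfer to a Sylow subgroup of an involution fixed by fusion. -/
theorem transfer_fix {X A : Type*} [Group X] [Finite X] [CommGroup A] {P0 : Subgroup X}
    (ϕ : P0 →* A) (hidx : ¬ 2 ∣ P0.index) {x : X} (hx : x ∈ P0) (hxx : x * x = 1)
    (key : ∀ (k : ℕ) (g₀ : X), g₀⁻¹ * x ^ k * g₀ ∈ P0 → g₀⁻¹ * x ^ k * g₀ = x ^ k) :
    MonoidHom.transfer ϕ x = ϕ ⟨x, hx⟩ := by
  rw [MonoidHom.transfer_eq_pow ϕ x key]
  refine congrArg ϕ (Subtype.ext ?_)
  obtain ⟨m, hm⟩ : Odd P0.index := Nat.odd_iff.2 (by omega)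
  show x ^ P0.index = x
  rw [hm, pow_succ, pow_mul, pow_two x, hxx, one_pow, one_mul]

namespace Loc

variable (h : Core z Q) (L : Loc z Q)
include h

theorem V_mul_comm {v w : G} (hv : v ∈ L.V h) (hw : w ∈ L.V h) : v * w = w * v := by
  have e := (L.V_comm h ((L.V h).mul_mem hv hw)).2.2.2.2
  calc v * w = (v * w)⁻¹ := (inv_eq_of_mul_eq_one_left e).symm
    _ = w * v := by
      rw [mul_inv_rev, inv_eq_of_mul_eq_one_left (L.V_comm h hv).2.2.2.2,
        inv_eq_of_mul_eq_one_left (L.V_comm h hw).2.2.2.2]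

/-- The projection of `C(z) ∩ C(t)` on `V`. -/
theorem exists_phi (P0 : Subgroup (Subgroup.centralizer ({L.t} : Set G)))
    (hP0 : ∀ x ∈ P0, ((x : G)) * z = z * x) :
    ∃ ϕ : P0 →* L.V h, ∀ (x : P0) e v, L.InE e → v ∈ L.V h →
      ((x : Subgroup.centralizer ({L.t} : Set G)) : G) = e * v → ((ϕ x : L.V h) : G) = v := by
  have hX : ∀ {g : G}, g ∈ Subgroup.centralizer ({L.t} : Set G) ↔ g * L.t = L.t * g :=
    Subgroup.mem_centralizer_singleton_iff
  obtain ⟨rc, hrc⟩ : ∃ rc : G → G, ∀ x, rc x = L.r * x * L.r⁻¹ := ⟨_, fun _ => rfl⟩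
  have hrcmul : ∀ a b, rc (a * b) = rc a * rc b := fun a b => by rw [hrc, hrc, hrc]; group
  have hrz : rc z = L.u := by rw [hrc, L.hrz]
  have hru : rc L.u = L.u * z := by rw [hrc, L.hru]
  have hruz : rc (L.u * z) = z := by rw [hrc, L.r_uz h]
  have hnorm3 : ∀ e, L.InE e → e * rc e * rc (rc e) = 1 := by
    intro e he
    have hzu : z * L.u = L.u * z := (h.hQC _ (L.F.mem _)).symm
    have huu : L.u * L.u = 1 := L.F.sq _
    rcases he with he | he | he | he <;> rw [he]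
    · simp [hrc]
    · rw [hrz, hru, mul_assoc, ← mul_assoc L.u, huu, one_mul, h.zz]
    · rw [hru, hruz, ← mul_assoc, huu, one_mul, h.zz]
    · rw [hruz, hrz, mul_assoc L.u z z, h.zz, mul_one, huu]
  have hrcV : ∀ v ∈ L.V h, rc v = v := fun v hv => by
    rw [hrc, (L.V_comm h hv).2.2.1, mul_inv_cancel_right]
  have hrcE : ∀ e, L.InE e → L.InE (rc e) := by
    intro e he
    rcases he with he | he | he | he <;> rw [he]
    · exact Or.inl (by rw [hrc]; group)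
    · rw [hrz]; exact Or.inr (Or.inr (Or.inl rfl))
    · rw [hru]; exact Or.inr (Or.inr (Or.inr rfl))
    · rw [hruz]; exact Or.inr (Or.inl rfl)
  have hVE : ∀ v ∈ L.V h, ∀ e, L.InE e → Commute v e := by
    intro v hv e he
    rcases he with he | he | he | he <;> rw [he]
    · exact Commute.one_right v
    · exact (L.V_comm h hv).1
    · exact (L.V_comm h hv).2.1
    · exact (show Commute v L.u from (L.V_comm h hv).2.1).mul_right (L.V_comm h hv).1
  have hφ : ∀ e v, L.InE e → v ∈ L.V h → e * v * rc (e * v) * rc (rc (e * v)) = v := by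
    intro e v he hv
    have c1 := hVE v hv _ (hrcE e he)
    have c2 := hVE v hv _ (hrcE _ (hrcE e he))
    rw [hrcmul, hrcV v hv, hrcmul, hrcV v hv]
    calc e * v * (rc e * v) * (rc (rc e) * v) = e * (v * rc e) * (v * rc (rc e)) * v := by group
      _ = e * rc e * (v * v) * rc (rc e) * v := by rw [c1.eq]; group
      _ = v := by rw [(L.V_comm h hv).2.2.2.2, mul_one, hnorm3 e he, one_mul]
  have hφmem : ∀ x ∈ P0, ((x : Subgroup.centralizer ({L.t} : Set G)) : G) * rc x * rc (rc x) ∈ L.V h := by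
    intro x hx
    obtain ⟨e, v, he, hv, hev⟩ := L.mem_F h (hP0 x hx) (hX.1 x.2)
    rw [hev, hφ e v he hv]
    exact hv
  refine ⟨MonoidHom.mk' (fun x => ⟨_, hφmem x x.2⟩) ?_, fun x e v he hv hx => ?_⟩
  · intro a b
    obtain ⟨ea, va, hea, hva, ha⟩ := L.mem_F h (hP0 _ a.2) (hX.1 (a : Subgroup.centralizer ({L.t} : Set G)).2)
    obtain ⟨eb, vb, heb, hvb, hb⟩ := L.mem_F h (hP0 _ b.2) (hX.1 (b : Subgroup.centralizer ({L.t} : Set G)).2)
    have heab : L.InE (ea * eb) := by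
      have e1 := h.hQC _ (L.F.mem L.f)
      have hzu : ∀ x : G, z * (L.u * x) = L.u * (z * x) := fun x => by
        rw [← mul_assoc, ← e1, mul_assoc]
      have huu : ∀ x : G, L.u * (L.u * x) = x := fun x => by
        rw [← mul_assoc, L.F.sq, one_mul]
      rcases hea with e | e | e | e <;> rcases heb with e' | e' | e' | e' <;> rw [e, e'] <;>
        simp only [InE, mul_assoc, one_mul, mul_one, hzu, huu, h.zz, L.F.sq, ← e1,
          true_or, or_true]
    have hab : ((a * b : P0) : Subgroup.centralizer ({L.t} : Set G)).1 = ea * eb * (va * vb) := by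
      rw [Subgroup.coe_mul, Subgroup.coe_mul, ha, hb]
      calc ea * va * (eb * vb) = ea * (va * eb) * vb := by group
        _ = ea * eb * (va * vb) := by rw [(hVE va hva eb heb).eq]; group
    refine Subtype.ext ?_
    show ((a * b : P0) : Subgroup.centralizer ({L.t} : Set G)).1 * rc ((a * b : P0) : Subgroup.centralizer ({L.t} : Set G)).1 * rc (rc ((a * b : P0) : Subgroup.centralizer ({L.t} : Set G)).1) =
      ((a : Subgroup.centralizer ({L.t} : Set G)) : G) * rc (a : Subgroup.centralizer ({L.t} : Set G)) * rc (rc (a : Subgroup.centralizer ({L.t} : Set G))) *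
        (((b : Subgroup.centralizer ({L.t} : Set G)) : G) * rc (b : Subgroup.centralizer ({L.t} : Set G)) * rc (rc (b : Subgroup.centralizer ({L.t} : Set G))))
    rw [hab, ha, hb, hφ _ _ heab ((L.V h).mul_mem hva hvb), hφ _ _ hea hva, hφ _ _ heb hvb]
  · show ((x : Subgroup.centralizer ({L.t} : Set G)) : G) * rc (x : Subgroup.centralizer ({L.t} : Set G)) * rc (rc (x : Subgroup.centralizer ({L.t} : Set G))) = v
    rw [hx, hφ e v he hv]

set_option maxHeartbeats 1000000 in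
/-- The transfer to `V`. -/
theorem exists_tau : ∃ τ : Subgroup.centralizer ({L.t} : Set G) →* L.V h,
    (∀ v (hv : v ∈ L.V h), τ ⟨v, Subgroup.mem_centralizer_singleton_iff.2
      (L.V_comm h hv).2.2.2.1⟩ = ⟨v, hv⟩) ∧
    ∀ g x, τ (g * x * g⁻¹) = τ x := by
  classical
  haveI := Fintype.ofFinite G
  haveI := Fact.mk Nat.prime_two
  set Xg := Subgroup.centralizer ({L.t} : Set G) with hXg
  have hX : ∀ {g : G}, g ∈ Xg ↔ g * L.t = L.t * g := Subgroup.mem_centralizer_singleton_iff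
  have hC : ∀ {g : G}, g ∈ Subgroup.centralizer ({z} : Set G) ↔ g * z = z * g :=
    Subgroup.mem_centralizer_singleton_iff
  let P0 : Subgroup Xg := (Subgroup.centralizer ({z} : Set G)).subgroupOf Xg
  have hP0 : ∀ {x : Xg}, x ∈ P0 ↔ (x : G) * z = z * x := fun {x} =>
    Subgroup.mem_subgroupOf.trans hC
  have hP0sq : ∀ x ∈ P0, x * x = 1 := fun x hx =>
    Subtype.ext (L.F_props h (hP0.1 hx) (hX.1 x.2)).1
  have hP0p : IsPGroup 2 P0 := fun x => ⟨1, Subtype.ext (by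
    rw [pow_one, pow_two]
    exact hP0sq x x.2)⟩
  have hz : z ∈ Xg := hX.2 L.ht.symm
  have hr : L.r ∈ Xg := hX.2 L.hrt
  have hu : L.u ∈ Xg := hX.2 L.htu.symm
  have hzP : (⟨z, hz⟩ : Xg) ∈ P0 := hP0.2 rfl
  -- `P0` is a Sylow 2-subgroup
  obtain ⟨P, hP⟩ := hP0p.exists_le_sylow
  have hrpow : ∀ i : ℕ, i < 3 → IsPGroup 2 (Subgroup.zpowers ((⟨L.r, hr⟩ : Xg) ^ i)) → i = 0 := by
    intro i hi hp
    by_contra hne
    obtain ⟨n, hn⟩ := hp.exists_card_eq
    rw [Nat.card_zpowers, ← Subgroup.orderOf_coe, Subgroup.coe_pow,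
      Nat.Coprime.orderOf_pow (by
        rw [L.hr3]
        interval_cases i <;> first | exact absurd rfl hne | norm_num), L.hr3] at hn
    have h2 : 3 ∣ 2 ^ n := ⟨1, by omega⟩
    exact absurd (Nat.prime_three.dvd_of_dvd_pow h2) (by norm_num)
  have hPeq : (P : Subgroup Xg) = P0 := by
    refine le_antisymm ?_ hP
    by_contra hne
    let T : Subgroup (P : Subgroup Xg) := P0.subgroupOf P
    have hlt : T < ⊤ := lt_top_iff_ne_top.2 fun e => hne fun y hy => by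
      have : (⟨y, hy⟩ : (P : Subgroup Xg)) ∈ T := e ▸ Subgroup.mem_top _
      exact Subgroup.mem_subgroupOf.1 this
    haveI : Group.IsNilpotent (P : Subgroup Xg) := P.2.isNilpotent
    obtain ⟨g, hg, hgT⟩ :=
      SetLike.exists_of_lt (Group.normalizerCondition_of_isNilpotent (G := (P : Subgroup Xg)) T hlt)
    apply hgT
    rw [Subgroup.mem_normalizer_iff] at hg
    have hz' : g.1 * ⟨z, hz⟩ * g.1⁻¹ ∈ P0 :=
      Subgroup.mem_subgroupOf.1 ((hg ⟨_, hP hzP⟩).1 (Subgroup.mem_subgroupOf.2 hzP))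
    obtain ⟨i, hi, k, hkz, hkt, hk⟩ := L.norm_F h (hX.1 g.1.2) (hP0.1 hz')
    have hkP : (⟨k, hX.2 hkt⟩ : Xg) ∈ P0 := hP0.2 hkz
    have e : (⟨L.r, hr⟩ : Xg) ^ i = g.1 * ⟨k, hX.2 hkt⟩⁻¹ := Subtype.ext (by
      rw [Subgroup.coe_pow, Subgroup.coe_mul, Subgroup.coe_inv, hk, mul_inv_cancel_right])
    obtain rfl := hrpow i hi (P.2.to_le (by
      rw [Subgroup.zpowers_le, e]
      exact (P : Subgroup Xg).mul_mem g.2 ((P : Subgroup Xg).inv_mem (hP hkP))))
    rw [pow_zero] at e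
    rw [Subgroup.mem_subgroupOf, mul_inv_eq_one.1 e.symm]
    exact hkP
  haveI : IsMulCommutative (P : Subgroup Xg) := ⟨⟨fun a b => by
    have sq : ∀ c : (P : Subgroup Xg), c * c = 1 := fun c =>
      Subtype.ext (hP0sq _ (by rw [← hPeq]; exact c.2))
    calc a * b = a * (a * b * (a * b)) * b := by rw [sq, mul_one]
      _ = a * a * (b * a) * (b * b) := by group
      _ = b * a := by rw [sq, sq, one_mul, mul_one]⟩⟩
  -- the map to `V`
  letI : CommGroup (L.V h) :=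
    { (inferInstance : Group (L.V h)) with
      mul_comm := fun a b => by
        have sq : ∀ c : L.V h, c * c = 1 := fun c => Subtype.ext (L.V_comm h c.2).2.2.2.2
        calc a * b = a * (a * b * (a * b)) * b := by rw [sq, mul_one]
          _ = a * a * (b * a) * (b * b) := by group
          _ = b * a := by rw [sq, sq, one_mul, mul_one] }
  have hVE : ∀ v ∈ L.V h, ∀ e, L.InE e → Commute v e := by
    intro v hv e he
    rcases he with he | he | he | he <;> rw [he]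
    · exact Commute.one_right v
    · exact (L.V_comm h hv).1
    · exact (L.V_comm h hv).2.1
    · exact (show Commute v L.u from (L.V_comm h hv).2.1).mul_right (L.V_comm h hv).1
  obtain ⟨ϕ, hϕ⟩ := L.exists_phi h P0 fun x hx => hP0.1 hx
  let τ : Xg →* L.V h := MonoidHom.transfer ϕ
  have hidx : ¬ 2 ∣ P0.index := hPeq ▸ P.not_dvd_index
  have hVX : ∀ v ∈ L.V h, v ∈ Xg := fun v hv => hX.2 (L.V_comm h hv).2.2.2.1
  have hτV : ∀ v (hv : v ∈ L.V h), τ ⟨v, hVX v hv⟩ = ⟨v, hv⟩ := by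
    intro v hv
    have hvP : (⟨v, hVX v hv⟩ : Xg) ∈ P0 := hP0.2 (L.V_comm h hv).1
    have key : ∀ (k : ℕ) (g₀ : Xg), g₀⁻¹ * ⟨v, hVX v hv⟩ ^ k * g₀ ∈ P0 →
        g₀⁻¹ * ⟨v, hVX v hv⟩ ^ k * g₀ = ⟨v, hVX v hv⟩ ^ k := by
      intro k g₀ hk
      have hxP : (⟨v, hVX v hv⟩ : Xg) ^ k ∈ (P : Subgroup Xg) := by
        rw [hPeq]; exact P0.pow_mem hvP k
      obtain ⟨n, hn, hne⟩ := P.conj_eq_normalizer_conj_of_mem _ g₀ hxP
        (show g₀⁻¹ * ⟨v, hVX v hv⟩ ^ k * g₀ ∈ (P : Subgroup Xg) by rw [hPeq]; exact hk)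
      rw [hne]
      have hzn : n * ⟨z, hz⟩ * n⁻¹ ∈ P0 := by
        rw [← hPeq]
        exact (Subgroup.mem_normalizer_iff.1 hn _).1 (hP hzP)
      obtain ⟨i, -, w, hwz, hwt, hw⟩ := L.norm_F h (hX.1 n.2) (hP0.1 hzn)
      have hvw : Commute v (n : G) := by
        rw [hw]
        refine (((show Commute L.r v from (L.V_comm h hv).2.2.1).pow_left i).symm).mul_right ?_
        obtain ⟨e, v', he, hv', rfl⟩ := L.mem_F h hwz hwt
        refine (hVE v hv e he).mul_right ?_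
        exact congrArg Subtype.val (mul_comm (⟨v, hv⟩ : L.V h) ⟨v', hv'⟩)
      have hc : Commute ((⟨v, hVX v hv⟩ : Xg) ^ k) n := (show Commute (⟨v, hVX v hv⟩ : Xg) n from
        Subtype.ext hvw.eq).pow_left k
      rw [mul_assoc, hc.eq, inv_mul_cancel_left]
    refine (transfer_fix ϕ hidx hvP ?_ key).trans ?_
    · exact Subtype.ext (L.V_comm h hv).2.2.2.2
    · exact Subtype.ext (hϕ _ 1 v (Or.inl rfl) hv (one_mul v).symm)
  have hτconj : ∀ (g x : Xg), τ (g * x * g⁻¹) = τ x := fun g x => by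
    rw [map_mul, map_mul, map_inv, mul_comm (τ g) (τ x), mul_inv_cancel_right]
  exact ⟨τ, fun v hv => hτV v hv, hτconj⟩

theorem exists_comp : ∃ X0 : Subgroup G, Comp h L X0 := by
  classical
  haveI := Fintype.ofFinite G
  haveI := Fact.mk Nat.prime_two
  set Xg := Subgroup.centralizer ({L.t} : Set G) with hXg
  have hX : ∀ {g : G}, g ∈ Xg ↔ g * L.t = L.t * g := Subgroup.mem_centralizer_singleton_iff
  have hC : ∀ {g : G}, g ∈ Subgroup.centralizer ({z} : Set G) ↔ g * z = z * g :=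
    Subgroup.mem_centralizer_singleton_iff
  let P0 : Subgroup Xg := (Subgroup.centralizer ({z} : Set G)).subgroupOf Xg
  have hP0 : ∀ {x : Xg}, x ∈ P0 ↔ (x : G) * z = z * x := fun {x} =>
    Subgroup.mem_subgroupOf.trans hC
  have hP0sq : ∀ x ∈ P0, x * x = 1 := fun x hx =>
    Subtype.ext (L.F_props h (hP0.1 hx) (hX.1 x.2)).1
  have hP0p : IsPGroup 2 P0 := fun x => ⟨1, Subtype.ext (by
    rw [pow_one, pow_two]
    exact hP0sq x x.2)⟩
  have hz : z ∈ Xg := hX.2 L.ht.symm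
  have hr : L.r ∈ Xg := hX.2 L.hrt
  have hu : L.u ∈ Xg := hX.2 L.htu.symm
  have hzP : (⟨z, hz⟩ : Xg) ∈ P0 := hP0.2 rfl
  -- `P0` is a Sylow 2-subgroup
  obtain ⟨P, hP⟩ := hP0p.exists_le_sylow
  have hrpow : ∀ i : ℕ, i < 3 → IsPGroup 2 (Subgroup.zpowers ((⟨L.r, hr⟩ : Xg) ^ i)) → i = 0 := by
    intro i hi hp
    by_contra hne
    obtain ⟨n, hn⟩ := hp.exists_card_eq
    rw [Nat.card_zpowers, ← Subgroup.orderOf_coe, Subgroup.coe_pow,
      Nat.Coprime.orderOf_pow (by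
        rw [L.hr3]
        interval_cases i <;> first | exact absurd rfl hne | norm_num), L.hr3] at hn
    have h2 : 3 ∣ 2 ^ n := ⟨1, by omega⟩
    exact absurd (Nat.prime_three.dvd_of_dvd_pow h2) (by norm_num)
  have hPeq : (P : Subgroup Xg) = P0 := by
    refine le_antisymm ?_ hP
    by_contra hne
    let T : Subgroup (P : Subgroup Xg) := P0.subgroupOf P
    have hlt : T < ⊤ := lt_top_iff_ne_top.2 fun e => hne fun y hy => by
      have : (⟨y, hy⟩ : (P : Subgroup Xg)) ∈ T := e ▸ Subgroup.mem_top _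
      exact Subgroup.mem_subgroupOf.1 this
    haveI : Group.IsNilpotent (P : Subgroup Xg) := P.2.isNilpotent
    obtain ⟨g, hg, hgT⟩ :=
      SetLike.exists_of_lt (Group.normalizerCondition_of_isNilpotent (G := (P : Subgroup Xg)) T hlt)
    apply hgT
    rw [Subgroup.mem_normalizer_iff] at hg
    have hz' : g.1 * ⟨z, hz⟩ * g.1⁻¹ ∈ P0 :=
      Subgroup.mem_subgroupOf.1 ((hg ⟨_, hP hzP⟩).1 (Subgroup.mem_subgroupOf.2 hzP))
    obtain ⟨i, hi, k, hkz, hkt, hk⟩ := L.norm_F h (hX.1 g.1.2) (hP0.1 hz')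
    have hkP : (⟨k, hX.2 hkt⟩ : Xg) ∈ P0 := hP0.2 hkz
    have e : (⟨L.r, hr⟩ : Xg) ^ i = g.1 * ⟨k, hX.2 hkt⟩⁻¹ := Subtype.ext (by
      rw [Subgroup.coe_pow, Subgroup.coe_mul, Subgroup.coe_inv, hk, mul_inv_cancel_right])
    obtain rfl := hrpow i hi (P.2.to_le (by
      rw [Subgroup.zpowers_le, e]
      exact (P : Subgroup Xg).mul_mem g.2 ((P : Subgroup Xg).inv_mem (hP hkP))))
    rw [pow_zero] at e
    rw [Subgroup.mem_subgroupOf, mul_inv_eq_one.1 e.symm]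
    exact hkP
  haveI : IsMulCommutative (P : Subgroup Xg) := ⟨⟨fun a b => by
    have sq : ∀ c : (P : Subgroup Xg), c * c = 1 := fun c =>
      Subtype.ext (hP0sq _ (by rw [← hPeq]; exact c.2))
    calc a * b = a * (a * b * (a * b)) * b := by rw [sq, mul_one]
      _ = a * a * (b * a) * (b * b) := by group
      _ = b * a := by rw [sq, sq, one_mul, mul_one]⟩⟩
  -- the map to `V`
  obtain ⟨τ, hτV', hτconj⟩ := L.exists_tau h
  have hVX : ∀ v ∈ L.V h, v ∈ Xg := fun v hv => hX.2 (L.V_comm h hv).2.2.2.1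
  have hτV : ∀ v (hv : v ∈ L.V h), τ ⟨v, hVX v hv⟩ = ⟨v, hv⟩ := hτV'
  have hsqV : ∀ c : L.V h, c * c = 1 := fun c => Subtype.ext (L.V_comm h c.2).2.2.2.2
  have hVE : ∀ v ∈ L.V h, ∀ e, L.InE e → Commute v e := by
    intro v hv e he
    rcases he with he | he | he | he <;> rw [he]
    · exact Commute.one_right v
    · exact (L.V_comm h hv).1
    · exact (L.V_comm h hv).2.1
    · exact (show Commute v L.u from (L.V_comm h hv).2.1).mul_right (L.V_comm h hv).1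
  have hτE : τ ⟨z, hz⟩ = 1 ∧ τ ⟨L.u, hu⟩ = 1 := by
    have e1 : τ ⟨L.u, hu⟩ = τ ⟨z, hz⟩ := by
      rw [← hτconj ⟨L.r, hr⟩ ⟨z, hz⟩]
      exact congrArg τ (Subtype.ext L.hrz.symm)
    have e2 : τ ⟨L.u * z, Xg.mul_mem hu hz⟩ = τ ⟨L.u, hu⟩ := by
      rw [← hτconj ⟨L.r, hr⟩ ⟨L.u, hu⟩]
      exact congrArg τ (Subtype.ext L.hru.symm)
    have e3 : τ ⟨L.u * z, Xg.mul_mem hu hz⟩ = τ ⟨L.u, hu⟩ * τ ⟨z, hz⟩ := map_mul τ ⟨_, hu⟩ ⟨_, hz⟩
    have e4 := cyclic_three_eq_one e1.symm e2.symm e3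
    exact ⟨e4, e1.trans e4⟩
  have hτr : τ ⟨L.r, hr⟩ = 1 := by
    have e : (⟨L.r, hr⟩ : Xg) * ⟨L.r, hr⟩ * ⟨L.r, hr⟩ = 1 := Subtype.ext L.r_cube
    have e' := congrArg τ e
    rw [map_mul, map_mul, map_one] at e'
    rwa [show τ ⟨L.r, hr⟩ * τ ⟨L.r, hr⟩ = 1 from
      Subtype.ext (L.V_comm h (τ ⟨L.r, hr⟩).2).2.2.2.2, one_mul] at e'
  let X0 : Subgroup G := τ.ker.map Xg.subtype
  have hmem0 : ∀ {y : G}, y ∈ X0 ↔ ∃ hy : y ∈ Xg, τ ⟨y, hy⟩ = 1 := by
    intro y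
    constructor
    · rintro ⟨x, hx, rfl⟩
      exact ⟨x.2, MonoidHom.mem_ker.1 hx⟩
    · rintro ⟨hy, e⟩
      exact ⟨⟨y, hy⟩, MonoidHom.mem_ker.2 e, rfl⟩
  have hdecomp : ∀ g : G, g * L.t = L.t * g → ∃ v ∈ L.V h, v⁻¹ * g ∈ X0 := by
    intro g hg
    refine ⟨(τ ⟨g, hX.2 hg⟩ : L.V h), (τ ⟨g, hX.2 hg⟩).2, hmem0.2
      ⟨Xg.mul_mem (Xg.inv_mem (hVX _ (τ ⟨g, hX.2 hg⟩).2)) (hX.2 hg), ?_⟩⟩
    rw [show (⟨((τ ⟨g, hX.2 hg⟩ : L.V h) : G)⁻¹ * g,
      Xg.mul_mem (Xg.inv_mem (hVX _ (τ ⟨g, hX.2 hg⟩).2)) (hX.2 hg)⟩ : Xg) =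
        (⟨_, hVX _ (τ ⟨g, hX.2 hg⟩).2⟩ : Xg)⁻¹ * ⟨g, hX.2 hg⟩ from rfl, map_mul, map_inv,
      hτV _ (τ ⟨g, hX.2 hg⟩).2, inv_mul_cancel]
  have hE0 : ∀ e, L.InE e → e ∈ X0 := by
    intro e he
    rcases he with he | he | he | he <;> rw [he]
    · exact X0.one_mem
    · exact hmem0.2 ⟨hz, hτE.1⟩
    · exact hmem0.2 ⟨hu, hτE.2⟩
    · exact X0.mul_mem (hmem0.2 ⟨hu, hτE.2⟩) (hmem0.2 ⟨hz, hτE.1⟩)
  have hinter : ∀ v ∈ L.V h, v ∈ X0 → v = 1 := by
    intro v hv hv0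
    obtain ⟨hy, e⟩ := hmem0.1 hv0
    rw [hτV v hv] at e
    exact congrArg Subtype.val e
  have hcz : ∀ y ∈ X0, y * z = z * y → L.InE y := by
    intro y hy hyz
    obtain ⟨e, v, he, hv, rfl⟩ := L.mem_F h hyz (hX.1 (hmem0.1 hy).1)
    have : v ∈ X0 := by simpa using X0.mul_mem (X0.inv_mem (hE0 e he)) hy
    rw [hinter v hv this, mul_one]
    exact he
  have hrin : L.r ∈ X0 := hmem0.2 ⟨hr, hτr⟩
  have hnrm : ∀ g : G, g * L.t = L.t * g → ∀ y ∈ X0, g * y * g⁻¹ ∈ X0 := by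
    intro g hg y hy
    obtain ⟨hy', e⟩ := hmem0.1 hy
    exact hmem0.2 ⟨Xg.mul_mem (Xg.mul_mem (hX.2 hg) hy') (Xg.inv_mem (hX.2 hg)),
      (hτconj ⟨g, hX.2 hg⟩ ⟨y, hy'⟩).trans e⟩
  have hzc : ∀ e, L.InE e → e ≠ 1 → ∃ g ∈ X0, g * z * g⁻¹ = e := by
    intro e he he1
    rcases he with he | he | he | he <;> rw [he]
    · exact absurd he he1
    · exact ⟨1, X0.one_mem, by simp⟩
    · exact ⟨L.r, hrin, L.hrz⟩
    · refine ⟨L.r * L.r, X0.mul_mem hrin hrin, ?_⟩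
      rw [show L.r * L.r * z * (L.r * L.r)⁻¹ = L.r * (L.r * z * L.r⁻¹) * L.r⁻¹ by group,
        L.hrz, L.hru]
  have hinv : ∀ y ∈ X0, orderOf y = 2 → ∃ g ∈ X0, g * z * g⁻¹ = y := by
    intro y hy hy2
    obtain ⟨hyX, -⟩ := hmem0.1 hy
    obtain ⟨R, hR⟩ := (IsPGroup.of_card (p := 2) (n := 1)
      (show Nat.card (Subgroup.zpowers (⟨y, hyX⟩ : Xg)) = 2 ^ 1 by
        rw [Nat.card_zpowers, Subgroup.orderOf_mk, hy2, pow_one])).exists_le_sylow
    obtain ⟨g, hg⟩ := MulAction.exists_smul_eq Xg R P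
    have hgy : g * ⟨y, hyX⟩ * g⁻¹ ∈ P0 := by
      rw [← hPeq, ← hg, Sylow.coe_subgroup_smul]
      exact ⟨⟨y, hyX⟩, hR (Subgroup.mem_zpowers _), rfl⟩
    have hg0 : (g : G) * y * (g : G)⁻¹ ∈ X0 := hnrm g (hX.1 g.2) y hy
    have hE : L.InE ((g : G) * y * (g : G)⁻¹) := hcz _ hg0 (hP0.1 hgy)
    obtain ⟨v, hv, hvg⟩ := hdecomp g (hX.1 g.2)
    obtain ⟨y', hy'⟩ : ∃ y', y' = v⁻¹ * (g : G) := ⟨_, rfl⟩
    rw [← hy'] at hvg
    have e1 : y' * y * y'⁻¹ = (g : G) * y * (g : G)⁻¹ := by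
      rw [hy']
      calc v⁻¹ * (g : G) * y * (v⁻¹ * (g : G))⁻¹ = v⁻¹ * ((g : G) * y * (g : G)⁻¹ * v) := by group
        _ = (g : G) * y * (g : G)⁻¹ := by
          rw [← (hVE v hv _ hE).eq, inv_mul_cancel_left]
    obtain ⟨w, hw, hwz⟩ := hzc _ hE fun e =>
      CfsgLib.Small.ne_one_of_orderOf_two hy2 (conj_eq_one_iff.1 e)
    refine ⟨y'⁻¹ * w, X0.mul_mem (X0.inv_mem hvg) hw, ?_⟩
    calc y'⁻¹ * w * z * (y'⁻¹ * w)⁻¹ = y'⁻¹ * (w * z * w⁻¹) * y' := by group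
      _ = y := by rw [hwz, ← e1]; group
  -- the two cases
  have hz0 := hE0 z (Or.inr (Or.inl rfl))
  have hu0 := hE0 L.u (Or.inr (Or.inr (Or.inl rfl)))
  obtain ⟨z0, hz0def⟩ : ∃ z0 : X0, z0 = ⟨z, hz0⟩ := ⟨_, rfl⟩
  have hz0o : orderOf z0 = 2 := by rw [hz0def, Subgroup.orderOf_mk, h.hz]
  have hcz0 : ∀ y : X0, y ∈ Subgroup.centralizer ({z0} : Set X0) ↔ (y : G) * z = z * y := by
    intro y
    rw [Subgroup.mem_centralizer_singleton_iff, hz0def]
    exact Subtype.ext_iff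
  let S : Set G := {1, z, L.u, L.u * z}
  have hC4 : Nat.card (Subgroup.centralizer ({z0} : Set X0)) = 4 := by
    let toS : Subgroup.centralizer ({z0} : Set X0) → S :=
      fun y => ⟨((y : X0) : G), hcz _ (y : X0).2 ((hcz0 y).1 y.2)⟩
    have hb : Function.Bijective toS := ⟨fun a b e => Subtype.ext (Subtype.ext
      (congrArg (fun p : S => (p : G)) e)), fun p => ⟨⟨⟨p, hE0 p p.2⟩, (hcz0 _).2
        (h.hQC _ (L.inE_props h p.2).1)⟩, rfl⟩⟩
    rw [Nat.card_eq_of_bijective toS hb]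
    have n1 : (1 : G) ≠ z := h.z_ne_one.symm
    have n2 : (1 : G) ≠ L.u := (L.F.ne_one _).symm
    have n3 : (1 : G) ≠ L.u * z := (L.uz_props h).2.2.symm
    have n4 : z ≠ L.u := (L.F.ne_z _).symm
    have n5 : z ≠ L.u * z := fun e => n2 (mul_eq_right.1 e.symm).symm
    have n6 : L.u ≠ L.u * z := fun e => n1 (mul_eq_left.1 e.symm).symm
    show Nat.card ({1, z, L.u, L.u * z} : Set G) = 4
    rw [Nat.card_coe_set_eq, Set.ncard_insert_of_notMem (by simp [n1, n2, n3]),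
      Set.ncard_insert_of_notMem (by simp [n4, n5]), Set.ncard_pair n6]
  have hexp : ∀ v ∈ Subgroup.centralizer ({z0} : Set X0), v * v = 1 := fun v hv =>
    Subtype.ext (L.F_props h ((hcz0 v).1 hv) (hX.1 (hmem0.1 v.2).1)).1
  have hone : ∀ y : X0, orderOf y = 2 → IsConj z0 y := by
    intro y hy
    obtain ⟨g, hg, hgz⟩ := hinv y y.2 (by rw [Subgroup.orderOf_coe, hy])
    exact isConj_iff.2 ⟨⟨g, hg⟩, Subtype.ext (by rw [hz0def]; exact hgz)⟩
  obtain ⟨-, -, hdich⟩ := CfsgLib.Inv54.DihedralEight.four z0 hz0o hC4 hexp hone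
  have hdich' : Nat.card X0 = 12 ∨ Nonempty (X0 ≃* alternatingGroup (Fin 5)) :=
    hdich.imp (·.2) (·.2)
  have hcom : Nonempty (X0 ≃* alternatingGroup (Fin 5)) → ∀ w : G,
      (∀ y ∈ X0, w * y * w⁻¹ ∈ X0) → w * z = z * w → w * L.r = L.r * w →
      ∀ y ∈ X0, w * y = y * w := by
    rintro ⟨e⟩ w hw hwz hwr y hy
    have hinvm : ∀ x ∈ X0, w⁻¹ * x * w ∈ X0 := by
      intro x hx
      obtain ⟨⟨b, hb⟩, hbx⟩ := Finite.surjective_of_injective
        (f := fun b : X0 => (⟨w * b * w⁻¹, hw b b.2⟩ : X0))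
        (fun a b e => Subtype.ext (mul_left_cancel (mul_right_cancel (congrArg Subtype.val e))))
        ⟨x, hx⟩
      have e' : w * b * w⁻¹ = x := congrArg Subtype.val hbx
      rw [← e', show w⁻¹ * (w * b * w⁻¹) * w = b by group]
      exact hb
    let θ : MulAut X0 :=
      { toFun := fun b => ⟨w * b * w⁻¹, hw b b.2⟩
        invFun := fun b => ⟨w⁻¹ * b * w, hinvm b b.2⟩
        left_inv := fun b => Subtype.ext (by
          show w⁻¹ * (w * (b : G) * w⁻¹) * w = b; group)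
        right_inv := fun b => Subtype.ext (by
          show w * (w⁻¹ * (b : G) * w) * w⁻¹ = b; group)
        map_mul' := fun a b => Subtype.ext (by
          show w * ((a : G) * b) * w⁻¹ = w * (a : G) * w⁻¹ * (w * (b : G) * w⁻¹); group) }
    have hfix : ∀ b : X0, w * (b : G) = b * w → θ b = b := fun b hb => Subtype.ext (by
      show w * (b : G) * w⁻¹ = b
      rw [hb, mul_inv_cancel_right])
    have := aut_fix e θ (a := (⟨z, hz0⟩ : X0)) (r := ⟨L.r, hrin⟩)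
      (fun e => h.z_ne_one (congrArg Subtype.val e)) (Subtype.ext h.zz)
      (fun e => by
        have := L.hr3
        rw [show L.r = 1 from congrArg Subtype.val e, orderOf_one] at this
        norm_num at this)
      (Subtype.ext L.r_cube) (Subtype.ext (by
        show z * (L.r * z * L.r⁻¹) = L.r * z * L.r⁻¹ * z
        rw [L.hrz]; exact (h.hQC _ (L.F.mem _)).symm))
      (hfix _ hwz) (hfix _ hwr) ⟨y, hy⟩
    exact mul_inv_eq_iff_eq_mul.1 (congrArg Subtype.val this)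
  have hvcomm : ∀ v ∈ L.V h, ∀ y ∈ X0, v * y = y * v := by
    intro v hv y hy
    rcases hdich' with h12 | hA
    · let H : Subgroup G := X0 ⊓ Subgroup.centralizer ({v} : Set G)
      have hmemH : ∀ {x : G}, x ∈ X0 → Commute v x → x ∈ H := fun hx hc =>
        ⟨hx, Subgroup.mem_centralizer_singleton_iff.2 hc.eq.symm⟩
      have hzH : z ∈ H := hmemH hz0 (L.V_comm h hv).1
      have h3 : 3 ∣ Nat.card H := by
        have := Subgroup.orderOf_dvd_natCard H (hmemH hrin (L.V_comm h hv).2.2.1.symm)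
        rwa [L.hr3] at this
      have h4 : 4 ∣ Nat.card H := by
        have hle : (Subgroup.centralizer ({z0} : Set X0)).map X0.subtype ≤ H := by
          rintro _ ⟨y, hy, rfl⟩
          exact hmemH y.2 (hVE v hv _ (hcz _ y.2 ((hcz0 y).1 hy)))
        have := Subgroup.card_dvd_of_le hle
        rwa [Subgroup.card_map_of_injective X0.subtype_injective, hC4] at this
      have hH : H = X0 := Subgroup.eq_of_le_of_card_ge inf_le_left (by
        rw [h12]
        exact Nat.le_of_dvd Nat.card_pos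
          (Nat.Coprime.mul_dvd_of_dvd_of_dvd (by norm_num : Nat.Coprime 4 3) h4 h3))
      exact (Subgroup.mem_centralizer_singleton_iff.1 (show y ∈ H by rw [hH]; exact hy).2).symm
    · exact hcom hA v (fun b hb => hnrm v (L.V_comm h hv).2.2.2.1 b hb) (L.V_comm h hv).1
        (L.V_comm h hv).2.2.1.symm y hy
  refine ⟨X0, ⟨fun y hy => hX.1 (hmem0.1 hy).1, hnrm, hz0, hu0, hrin, hinter, hdecomp, hdich',
    hvcomm, hinv, hcz, fun hA => ?_⟩⟩
  -- `s` normalises `X0`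
  have ht2X : ∀ g : G, g * L.t = L.t * g → g * L.t2 = L.t2 * g := by
    intro g hg
    obtain ⟨v, hv, hvg⟩ := hdecomp g hg
    rw [show g = v * (v⁻¹ * g) by group]
    exact ((show Commute v L.t2 from L.V_mul_comm h hv (L.t2_mem_V h)).mul_left
        (show Commute (v⁻¹ * g) L.t2 from (hvcomm _ (L.t2_mem_V h) _ hvg).symm)).eq
  have ht2mul : L.t2 = L.s * L.t * L.s⁻¹ := rfl
  have hsX : ∀ g ∈ Xg, L.s * g * L.s⁻¹ ∈ Xg := by
    intro g hg
    have hsg : L.s * g * L.s⁻¹ * L.t2 = L.t2 * (L.s * g * L.s⁻¹) := by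
      rw [ht2mul]
      calc L.s * g * L.s⁻¹ * (L.s * L.t * L.s⁻¹) = L.s * (g * L.t) * L.s⁻¹ := by group
        _ = L.s * L.t * L.s⁻¹ * (L.s * g * L.s⁻¹) := by rw [hX.1 hg]; group
    have heq : Xg = Subgroup.centralizer ({L.t2} : Set G) := by
      refine Subgroup.eq_of_le_of_card_ge
        (fun x hx => Subgroup.mem_centralizer_singleton_iff.2 (ht2X x (hX.1 hx))) (le_of_eq ?_)
      refine (Nat.card_congr ((MulAut.conj L.s).toEquiv.subtypeEquiv fun x => ?_)).symm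
      show x ∈ Xg ↔ L.s * x * L.s⁻¹ ∈ _
      rw [hX, Subgroup.mem_centralizer_singleton_iff, ht2mul]
      constructor <;> intro e
      · calc L.s * x * L.s⁻¹ * (L.s * L.t * L.s⁻¹) = L.s * (x * L.t) * L.s⁻¹ := by group
          _ = L.s * L.t * L.s⁻¹ * (L.s * x * L.s⁻¹) := by rw [e]; group
      · calc x * L.t = L.s⁻¹ * (L.s * x * L.s⁻¹ * (L.s * L.t * L.s⁻¹)) * L.s := by group
          _ = L.t * x := by rw [e]; group
    rw [heq]
    exact Subgroup.mem_centralizer_singleton_iff.2 hsg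
  obtain ⟨e⟩ := hA
  haveI : IsSimpleGroup X0 := by
    haveI : IsSimpleGroup (alternatingGroup (Fin 5)) := alternatingGroup.isSimpleGroup (by simp)
    exact e.isSimpleGroup
  let ψ : X0 →* L.V h := MonoidHom.mk'
    (fun y => τ ⟨L.s * y * L.s⁻¹, hsX _ (hmem0.1 y.2).1⟩) fun a b => by
      rw [← map_mul]
      exact congrArg τ (Subtype.ext (by
        show L.s * ((a : G) * b) * L.s⁻¹ = L.s * (a : G) * L.s⁻¹ * (L.s * (b : G) * L.s⁻¹)
        group))
  have hψ : ∀ y, ψ y = 1 := by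
    rcases IsSimpleGroup.eq_bot_or_eq_top_of_normal ψ.ker inferInstance with hk | hk
    · exfalso
      have := Nat.card_le_card_of_injective ψ ((MonoidHom.ker_eq_bot_iff ψ).1 hk)
      rw [L.card_V h, Nat.card_congr e.toEquiv, nat_card_alternatingGroup, Nat.card_fin] at this
      norm_num [Nat.factorial] at this
    · exact fun y => MonoidHom.mem_ker.1 (hk ▸ Subgroup.mem_top y)
  exact hcom ⟨e⟩ L.s (fun y hy => hmem0.2 ⟨_, hψ ⟨y, hy⟩⟩) L.hs L.hrs.symm

end Loc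

end CfsgLib.HallJanko
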