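import Cfsg.Agent.HallJanko.CentK
import Cfsg.Agent.HallJanko.AutFix
import Mathlib.GroupTheory.FixedPointFree

/-!
# The Sylow 5-subgroups
-/

set_option autoImplicit false
set_option linter.style.haveILetI false

namespace CfsgLib.HallJanko

variable {G : Type*} [Group G] [Finite G] {z : G} {Q : Subgroup G}

theorem pow_five_iff {H : Type*} [Group H] {a : H} : a ^ 5 = 1 ↔ a * a * a * a * a = 1 := by
  rw [show a ^ 5 = a * a * a * a * a by simp only [pow_succ, pow_zero, one_mul]]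

namespace Core

variable (h : Core z Q)
include h

/-- `cent_five` for an arbitrary conjugate of `z`. -/
theorem cent_five' {w y d : G} (hw : orderOf w = 5) (hy : IsConj z y) (hyw : y * w = w * y)
    (hdy : d * y = y * d) (hdw : d * w = w * d) : ∃ i : ℕ, d = w ^ i ∨ d = w ^ i * y := by
  obtain ⟨g, rfl⟩ := isConj_iff.1 hy
  obtain ⟨i, hi⟩ := h.cent_five (g := g⁻¹ * w * g) (c := g⁻¹ * d * g)
    (by
      calc g⁻¹ * w * g * z = g⁻¹ * (w * (g * z * g⁻¹)) * g := by group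
        _ = z * (g⁻¹ * w * g) := by rw [← hyw]; group)
    (by rw [show g⁻¹ * w * g = g⁻¹ * w * g⁻¹⁻¹ by group, CfsgLib.Small.orderOf_conj_eq, hw])
    (by
      calc g⁻¹ * d * g * z = g⁻¹ * (d * (g * z * g⁻¹)) * g := by group
        _ = z * (g⁻¹ * d * g) := by rw [hdy]; group)
    (by
      calc g⁻¹ * d * g * (g⁻¹ * w * g) = g⁻¹ * (d * w) * g := by group
        _ = g⁻¹ * w * g * (g⁻¹ * d * g) := by rw [hdw]; group)
  rw [show (g⁻¹ * w * g) ^ i = g⁻¹ * w ^ i * g by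
    rw [show g⁻¹ * w * g = g⁻¹ * w * g⁻¹⁻¹ by group, conj_pow, inv_inv]] at hi
  refine ⟨i, hi.imp (fun e => ?_) fun e => ?_⟩
  · exact mul_left_cancel (mul_right_cancel e)
  · calc d = g * (g⁻¹ * d * g) * g⁻¹ := by group
      _ = w ^ i * (g * z * g⁻¹) := by rw [e]; group

end Core

/-- The Sylow 5-subgroup containing a chosen element `f` of `X₀`. -/
structure FivePt (z t s : G) (X0 : Subgroup G) (P : Sylow 5 G) (f w y : G) : Prop where
  fX : f ∈ X0
  fP : f ∈ (P : Subgroup G)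
  wP : w ∈ (P : Subgroup G)
  fo : orderOf f = 5
  wo : orderOf w = 5
  wf : w ∉ Subgroup.zpowers f
  yz : IsConj z y
  yw : y * w = w * y
  yf : y * f * y⁻¹ = f⁻¹
  centf : CentK t f
  cardf : Nat.card (Subgroup.centralizer ({f} : Set G)) = 300
  homf : ∃ φ : Subgroup.centralizer ({f} : Set G) →* alternatingGroup (Fin 5),
    Function.Surjective φ ∧ ∀ d, φ d = 1 ↔ (d : G) ∈ Subgroup.zpowers f
  card : Nat.card (P : Subgroup G) = 25
  comm : ∀ a ∈ (P : Subgroup G), ∀ b ∈ (P : Subgroup G), a * b = b * a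
  self : ∀ g : G, (∀ p ∈ (P : Subgroup G), g * p = p * g) → g ∈ (P : Subgroup G)
  exp : ∀ p ∈ (P : Subgroup G), p ^ 5 = 1

namespace Loc

variable (h : Core z Q) (L : Loc z Q) {X0 : Subgroup G} (c : Comp h L X0)
include h c

theorem exists_fivePt :
    ∃ (P : Sylow 5 G) (f w y : G), FivePt z L.t L.s X0 P f w y := by
  classical
  haveI : Fact (Nat.Prime 5) := ⟨by norm_num⟩
  obtain ⟨hG, ⟨e⟩, -⟩ := L.main h c
  obtain ⟨⟨f, hfX⟩, hf'⟩ := exists_prime_orderOf_dvd_card' (G := X0) 5 (by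
    rw [L.card_X0 h c]; norm_num)
  rw [Subgroup.orderOf_mk] at hf'
  have hf5 : f ^ 5 = 1 := hf' ▸ pow_orderOf_eq_one f
  have hf1 : f ≠ 1 := fun e' => by rw [e', orderOf_one] at hf'; norm_num at hf'
  have hodd : Odd (orderOf f) := by rw [hf']; decide
  have hef : ∀ k : ℕ, e ⟨f ^ k, X0.pow_mem hfX k⟩ = e ⟨f, hfX⟩ ^ k := fun k => by
    rw [← map_pow]; rfl
  have he1 : e ⟨f, hfX⟩ ≠ 1 := fun e' => hf1 (congrArg Subtype.val (e.map_eq_one_iff.1 e'))
  have he5 : e ⟨f, hfX⟩ * e ⟨f, hfX⟩ * e ⟨f, hfX⟩ * e ⟨f, hfX⟩ * e ⟨f, hfX⟩ = 1 := by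
    rw [← pow_five_iff, ← map_pow, e.map_eq_one_iff]
    exact Subtype.ext hf5
  -- `f` is self-centralising in `X0`
  have hself : ∀ x ∈ X0, x * f = f * x → x ∈ Subgroup.zpowers f := by
    intro x hx hxf
    have key : ∀ k : ℕ, e ⟨x, hx⟩ = e ⟨f, hfX⟩ ^ k → x ∈ Subgroup.zpowers f := by
      intro k hk
      rw [← hef k] at hk
      have hxe : x = f ^ k := congrArg Subtype.val (e.injective hk)
      exact hxe ▸ Subgroup.npow_mem_zpowers f k
    rcases Alt.five_centralizer _ he1 he5 (e ⟨x, hx⟩) (by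
      rw [← map_mul, ← map_mul]; exact congrArg e (Subtype.ext hxf)) with h' | h' | h' | h' | h'
    · exact key 0 (by rw [h', pow_zero])
    · exact key 1 (by rw [h', pow_one])
    · exact key 2 (by rw [h', pow_two])
    · exact key 3 (by rw [h', pow_succ, pow_two])
    · exact key 4 (by rw [h', pow_succ, pow_succ, pow_two])
  have hK : CentK L.t f := L.centK h c hfX hodd hf1 hself
  -- an involution inverting `f`
  obtain ⟨y', hy1, hy2, hy3⟩ := Alt.five_real _ he1 he5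
  obtain ⟨⟨y, hyX⟩, hye⟩ := e.surjective y'
  rw [← hye] at hy1 hy2 hy3
  have hy1' : y ≠ 1 := fun e' => hy1 (by rw [show (⟨y, hyX⟩ : X0) = 1 from Subtype.ext e', map_one])
  have hyy : y * y = 1 := by
    rw [← map_mul, e.map_eq_one_iff] at hy2
    exact congrArg Subtype.val hy2
  have hyf : y * f * y⁻¹ = f⁻¹ := by
    rw [← map_inv, ← map_mul, ← map_mul, ← map_inv] at hy3
    exact congrArg Subtype.val (e.injective hy3)
  obtain ⟨g0, -, hg0⟩ := c.inv_conj y hyX (CfsgLib.Small.orderOf_eq_two_iff_sq.2 ⟨hy1', hyy⟩)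
  have hyz : IsConj z y := isConj_iff.2 ⟨g0, hg0⟩
  -- a Sylow subgroup containing `f`
  obtain ⟨P, hP⟩ := (IsPGroup.of_card (p := 5) (n := 1)
    (show Nat.card (Subgroup.zpowers f) = 5 ^ 1 by
      rw [Nat.card_zpowers, hf', pow_one])).exists_le_sylow
  have hfP : f ∈ (P : Subgroup G) := hP (Subgroup.mem_zpowers f)
  have hP25 : Nat.card (P : Subgroup G) = 25 := by
    obtain ⟨n, hn⟩ := P.2.exists_card_eq
    have hidx : ¬ 5 ∣ (P : Subgroup G).index := P.not_dvd_index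
    have hmul := Subgroup.card_mul_index (P : Subgroup G)
    rw [hn, hG] at hmul
    rw [hn]
    rcases n with _ | _ | _ | n
    · exact absurd ⟨120960, by omega⟩ hidx
    · exact absurd ⟨24192, by omega⟩ hidx
    · rfl
    · exact absurd ((pow_dvd_pow 5 (show 3 ≤ n + 3 by omega)).trans (Dvd.intro _ hmul))
        (by norm_num)
  have hcommP : ∀ a ∈ (P : Subgroup G), ∀ b ∈ (P : Subgroup G), a * b = b * a := by
    intro a ha b hb
    exact congrArg Subtype.val ((IsPGroup.isMulCommutative_of_card_eq_prime_sq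
      (p := 5) (G := (P : Subgroup G)) (by rw [hP25]; norm_num)).is_comm.comm ⟨a, ha⟩ ⟨b, hb⟩)
  set D := Subgroup.centralizer ({f} : Set G) with hD
  have hDm : ∀ {g : G}, g ∈ D ↔ g * f = f * g := Subgroup.mem_centralizer_singleton_iff
  have hPD : (P : Subgroup G) ≤ D := fun p hp => hDm.2 (hcommP p hp f hfP)
  -- the centraliser of `f`
  rcases hK.cases with h60 | ⟨h300, φ, hφ, hφk⟩
  · exfalso
    have := Subgroup.card_dvd_of_le hPD
    rw [hP25, hD, h60, hf'] at this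
    norm_num at this
  rw [hf'] at h300
  have htD : L.t ∈ D := hDm.2 (c.vcomm _ (L.t_mem_V h) f hfX)
  have hsD : L.s ∈ D := hDm.2 (L.scomm h c f hfX)
  have hyD : ∀ d ∈ D, y * d * y⁻¹ ∈ D := by
    intro d hd
    refine hDm.2 ?_
    have e1 : f = y * f⁻¹ * y⁻¹ := by
      conv_lhs => rw [← inv_inv f, ← hyf]
      group
    calc y * d * y⁻¹ * f = y * (d * f⁻¹) * y⁻¹ := by
          conv_lhs => rw [e1]
          group
      _ = y * (f⁻¹ * d) * y⁻¹ := by
          rw [((show Commute d f from hDm.1 hd).inv_right).eq]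
      _ = f * (y * d * y⁻¹) := by
          conv_rhs => rw [e1]
          group
  -- conjugation by `y` induces an automorphism of the quotient fixing an `A₄`
  let cy : D →* D :=
    MonoidHom.mk' (fun d => ⟨y * d * y⁻¹, hyD d d.2⟩) fun a b => Subtype.ext (by
      simp only [Subgroup.coe_mul]; group)
  have hker : φ.ker ≤ (φ.comp cy).ker := by
    intro d hd
    rw [MonoidHom.mem_ker, MonoidHom.comp_apply, hφk]
    obtain ⟨i, hi⟩ := Subgroup.mem_zpowers_iff.1 ((hφk d).1 hd)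
    show y * (d : G) * y⁻¹ ∈ _
    rw [← hi, ← conj_zpow, hyf]
    exact Subgroup.zpow_mem _ (Subgroup.inv_mem _ (Subgroup.mem_zpowers f)) i
  let θ := MonoidHom.liftOfSurjective φ hφ ⟨φ.comp cy, hker⟩
  have hθ : ∀ d : D, θ (φ d) = φ (cy d) :=
    fun d => MonoidHom.liftOfRightInverse_comp_apply φ _ _ ⟨φ.comp cy, hker⟩ d
  have hcy : ∀ d : D, cy (cy d) = d := fun d => Subtype.ext (by
    show y * (y * (d : G) * y⁻¹) * y⁻¹ = d
    calc y * (y * (d : G) * y⁻¹) * y⁻¹ = (y * y) * d * (y * y)⁻¹ := by group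
      _ = d := by rw [hyy, inv_one, one_mul, mul_one])
  have hθθ : Function.Involutive θ := by
    intro x
    obtain ⟨d, rfl⟩ := hφ x
    rw [hθ, hθ, hcy]
  let θ' : MulAut (alternatingGroup (Fin 5)) :=
    MulEquiv.mk' ⟨θ, θ, hθθ, hθθ⟩ fun a b => map_mul θ a b
  have ht1 : L.t ≠ 1 := CfsgLib.Small.ne_one_of_orderOf_two (L.t_ord h)
  have hfix : ∀ d : D, φ (cy d) = φ d := by
    intro d
    rw [← hθ]
    refine aut_fix (MulEquiv.refl _) θ' (a := φ ⟨L.t, htD⟩) (r := φ ⟨L.s, hsD⟩) ?_ ?_ ?_ ?_ ?_ ?_ ?_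
      (φ d)
    · exact fun e' => ht1 (zpow_eq_one_of_sq hodd ((hφk _).1 e') L.ht2)
    · rw [← map_mul, ← map_one φ]; exact congrArg φ (Subtype.ext L.ht2)
    · intro e'
      obtain ⟨i, hi⟩ := Subgroup.mem_zpowers_iff.1 ((hφk _).1 e')
      have hd := orderOf_dvd_of_mem_zpowers ((hφk _).1 e')
      simp only at hd
      rw [L.hs3, hf'] at hd
      norm_num at hd
    · rw [← map_mul, ← map_mul, ← map_one φ]; exact congrArg φ (Subtype.ext L.s_cube)
    · simp only [← map_mul, ← map_inv]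
      exact congrArg φ (Subtype.ext (show L.t * L.t2 = L.t2 * L.t from (L.t_rel h).1))
    · show θ _ = _
      rw [hθ]
      exact congrArg φ (Subtype.ext (show y * L.t * y⁻¹ = L.t by
        rw [← c.vcomm _ (L.t_mem_V h) y hyX, mul_inv_cancel_right]))
    · show θ _ = _
      rw [hθ]
      exact congrArg φ (Subtype.ext (show y * L.s * y⁻¹ = L.s by
        rw [← L.scomm h c y hyX, mul_inv_cancel_right]))
  have hdiff : ∀ d ∈ D, ∃ i : ℤ, y * d * y⁻¹ = d * f ^ i := by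
    intro d hd
    have e1 : φ ((⟨d, hd⟩ : D)⁻¹ * cy ⟨d, hd⟩) = 1 := by
      rw [map_mul, map_inv, hfix, inv_mul_cancel]
    rw [hφk] at e1
    obtain ⟨i, hi⟩ := Subgroup.mem_zpowers_iff.1 e1
    exact ⟨i, by rw [hi]; exact (mul_inv_cancel_left d _).symm⟩
  have hexp : ∀ p ∈ (P : Subgroup G), p ^ 5 = 1 := by
    intro p hp
    have h25 : p ^ 25 = 1 := by
      have := pow_card_eq_one' (G := (P : Subgroup G)) (x := ⟨p, hp⟩)
      rw [hP25] at this
      exact congrArg Subtype.val this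
    have hmem : p ^ 5 ∈ Subgroup.zpowers f := by
      have h1 : (φ ⟨p, hPD hp⟩) ^ 5 = 1 := by
        have hdv : orderOf (φ ⟨p, hPD hp⟩) ∣ Nat.gcd 25 60 := Nat.dvd_gcd
          (orderOf_dvd_of_pow_eq_one (by
            rw [← map_pow, ← map_one φ]; exact congrArg φ (Subtype.ext h25)))
          (by
            have := orderOf_dvd_natCard (φ ⟨p, hPD hp⟩)
            rwa [nat_card_alternatingGroup, Nat.card_fin] at this)
        exact orderOf_dvd_iff_pow_eq_one.1 hdv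
      rw [← map_pow] at h1
      exact (hφk _).1 h1
    obtain ⟨j, hj⟩ := Subgroup.mem_zpowers_iff.1 hmem
    obtain ⟨i, hi⟩ := hdiff p (hPD hp)
    have hz5 : (f ^ i) ^ 5 = 1 := by rw [← zpow_natCast, ← zpow_mul, mul_comm, zpow_mul, zpow_natCast, hf5, one_zpow]
    have e1 : y * p ^ 5 * y⁻¹ = p ^ 5 := by
      rw [← conj_pow, hi,
        (show Commute p (f ^ i) from (show Commute p f from hcommP p hp f hfP).zpow_right i).mul_pow,
        hz5, mul_one]
    have e2 : p ^ 5 = (p ^ 5)⁻¹ := by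
      conv_lhs => rw [← e1, ← hj, ← conj_zpow, hyf, inv_zpow, hj]
    exact zpow_eq_one_of_sq (k := f) hodd (hj ▸ Subgroup.zpow_mem_zpowers f j)
      (eq_inv_iff_mul_eq_one.1 e2)
  -- the other element
  obtain ⟨d, hdP, hdf⟩ : ∃ d ∈ (P : Subgroup G), d ∉ Subgroup.zpowers f := by
    by_contra hcon
    push_neg at hcon
    have := Subgroup.card_le_of_le (show (P : Subgroup G) ≤ Subgroup.zpowers f from hcon)
    rw [hP25, Nat.card_zpowers, hf'] at this
    norm_num at this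
  obtain ⟨i, hi⟩ := hdiff d (hPD hdP)
  have hwP : d * f ^ (3 * i) ∈ (P : Subgroup G) :=
    (P : Subgroup G).mul_mem hdP ((P : Subgroup G).zpow_mem hfP _)
  have hwf : d * f ^ (3 * i) ∉ Subgroup.zpowers f := fun hm => hdf (by
    have := Subgroup.mul_mem _ hm (Subgroup.inv_mem _ (Subgroup.zpow_mem_zpowers f (3 * i)))
    rwa [mul_inv_cancel_right] at this)
  have hyw : y * (d * f ^ (3 * i)) = d * f ^ (3 * i) * y := by
    refine mul_inv_eq_iff_eq_mul.1 ?_
    calc y * (d * f ^ (3 * i)) * y⁻¹ = (y * d * y⁻¹) * (y * f ^ (3 * i) * y⁻¹) := by group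
      _ = d * f ^ (3 * i) := by
        rw [hi, ← conj_zpow, hyf, inv_zpow', mul_assoc, ← zpow_add]
        congr 1
        rw [show (i + -(3 * i)) = 3 * i + (5 : ℕ) * (-i) by push_cast; ring, zpow_add,
          zpow_mul f ((5 : ℕ) : ℤ), zpow_natCast, hf5, one_zpow, mul_one]
  refine ⟨P, f, d * f ^ (3 * i), y, hfX, hfP, hwP, hf',
    orderOf_eq_prime (hexp _ hwP) fun e' => hwf (e' ▸ Subgroup.one_mem _), hwf, hyz, hyw, hyf, hK,
    h300, ⟨φ, hφ, hφk⟩, hP25, hcommP, ?_, hexp⟩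
  intro g hg
  have hgD : g ∈ D := hDm.2 (hg f hfP)
  have hwD := hPD hwP
  have hw1 : φ ⟨_, hwD⟩ ≠ 1 := fun e' => hwf ((hφk _).1 e')
  have hw5 : φ ⟨_, hwD⟩ * φ ⟨_, hwD⟩ * φ ⟨_, hwD⟩ * φ ⟨_, hwD⟩ * φ ⟨_, hwD⟩ = 1 := by
    rw [← pow_five_iff, ← map_pow, ← map_one φ]
    exact congrArg φ (Subtype.ext (hexp _ hwP))
  have key : ∀ k : ℕ, φ ⟨g, hgD⟩ = φ ⟨_, hwD⟩ ^ k → g ∈ (P : Subgroup G) := by
    intro k hk
    have e1 : φ ((⟨_, hwD⟩ ^ k : D)⁻¹ * ⟨g, hgD⟩) = 1 := by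
      rw [map_mul, map_inv, map_pow, hk, inv_mul_cancel]
    rw [hφk] at e1
    obtain ⟨j, hj⟩ := Subgroup.mem_zpowers_iff.1 e1
    have e2 : g = (d * f ^ (3 * i)) ^ k * f ^ j := by
      rw [hj]; exact (mul_inv_cancel_left _ g).symm
    rw [e2]
    exact (P : Subgroup G).mul_mem ((P : Subgroup G).pow_mem hwP k) ((P : Subgroup G).zpow_mem hfP j)
  rcases Alt.five_centralizer _ hw1 hw5 (φ ⟨g, hgD⟩) (by
    rw [← map_mul, ← map_mul]; exact congrArg φ (Subtype.ext (hg _ hwP)))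
    with h' | h' | h' | h' | h'
  · exact key 0 (by rw [h', pow_zero])
  · exact key 1 (by rw [h', pow_one])
  · exact key 2 (by rw [h', pow_two])
  · exact key 3 (by rw [h', pow_succ, pow_two])
  · exact key 4 (by rw [h', pow_succ, pow_succ, pow_two])

end Loc

end CfsgLib.HallJanko
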