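import Cfsg.Agent.HallJanko.FiveNorm
import Mathlib.GroupTheory.GroupAction.CardCommute

/-!
# The Sylow 5-normaliser
-/

set_option autoImplicit false
set_option linter.style.haveILetI false

namespace CfsgLib.HallJanko

variable {G : Type*} [Group G] [Finite G] {z : G} {Q : Subgroup G}

namespace Loc

variable (h : Core z Q) (L : Loc z Q) {X0 : Subgroup G} (c : Comp h L X0)
include h c

omit h c in
theorem map_conj_map_conj (W : Subgroup G) (a b : G) :
    (W.map (MulAut.conj b).toMonoidHom).map (MulAut.conj a).toMonoidHom =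
      W.map (MulAut.conj (a * b)).toMonoidHom := by
  rw [Subgroup.map_map]
  congr 1
  exact MonoidHom.ext fun x => by simp [mul_assoc]

/-- The normaliser of `P` has order 300 and two orbits on its lines. -/
theorem five_norm {P : Sylow 5 G} {f w y : G} (F : FivePt z L.t L.s X0 P f w y) :
    Nat.card (Subgroup.normalizer ((P : Subgroup G) : Set G)) = 300 ∧
      (∀ g : G, (Subgroup.zpowers f).map (MulAut.conj g).toMonoidHom ≠ Subgroup.zpowers w) ∧
      ∀ W : Subgroup G, W ≤ (P : Subgroup G) → Nat.card W = 5 → ∃ g : G,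
        W.map (MulAut.conj g).toMonoidHom = Subgroup.zpowers f ∨
        W.map (MulAut.conj g).toMonoidHom = Subgroup.zpowers w := by
  classical
  haveI := Fintype.ofFinite G
  haveI : Fact (Nat.Prime 5) := ⟨by norm_num⟩
  haveI : Fact (Nat.Prime 3) := ⟨Nat.prime_three⟩
  obtain ⟨hG, -, -⟩ := L.main h c
  set N := Subgroup.normalizer ((P : Subgroup G) : Set G) with hN
  have hNP : ∀ g ∈ N, ∀ x ∈ (P : Subgroup G), g * x * g⁻¹ ∈ (P : Subgroup G) :=
    fun g hg x hx => (Subgroup.mem_normalizer_iff.1 hg x).1 hx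
  have hf1 : f ≠ 1 := fun e => by have := F.fo; rw [e, orderOf_one] at this; norm_num at this
  have hfodd : Odd (orderOf f) := by rw [F.fo]; decide
  -- the action on lines
  letI : MulAction N (FiveLine (P : Subgroup G)) :=
    { smul := fun g W => ⟨W.1.map (MulAut.conj (g : G)).toMonoidHom, by
        rintro _ ⟨x, hx, rfl⟩
        exact hNP g g.2 x (W.2.1 hx), by rw [card_map_conj, W.2.2]⟩
      one_smul := fun W => Subtype.ext (by
        show W.1.map (MulAut.conj ((1 : N) : G)).toMonoidHom = W.1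
        rw [Subgroup.coe_one, map_one]
        exact Subgroup.map_id W.1)
      mul_smul := fun a b W => Subtype.ext (map_conj_map_conj W.1 a b).symm }
  have hstab : ∀ (g : N) (W : FiveLine (P : Subgroup G)),
      g ∈ MulAction.stabilizer N W ↔ W.1.map (MulAut.conj (g : G)).toMonoidHom = W.1 :=
    fun g W => MulAction.mem_stabilizer_iff.trans Subtype.ext_iff
  let Wf : FiveLine (P : Subgroup G) := ⟨Subgroup.zpowers f, Subgroup.zpowers_le.2 F.fP,
    by rw [Nat.card_zpowers, F.fo]⟩
  let Ww : FiveLine (P : Subgroup G) := ⟨Subgroup.zpowers w, Subgroup.zpowers_le.2 F.wP,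
    by rw [Nat.card_zpowers, F.wo]⟩
  have hstabf : ∀ g : N, g ∈ MulAction.stabilizer N Wf ↔
      ((g : G) * f * (g : G)⁻¹ = f ∨ (g : G) * f * (g : G)⁻¹ = f⁻¹) := by
    intro g
    rw [hstab]
    show (Subgroup.zpowers f).map _ = Subgroup.zpowers f ↔ _
    rw [zpowers_map_conj]
    refine ⟨fun e => L.five_automizer h c F (e ▸ Subgroup.mem_zpowers _), ?_⟩
    rintro (e | e) <;> rw [e]
    rw [Subgroup.zpowers_inv]
  -- the centraliser of `f` in `N`
  set D := Subgroup.centralizer ({f} : Set G) with hD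
  have hDm : ∀ {g : G}, g ∈ D ↔ g * f = f * g := Subgroup.mem_centralizer_singleton_iff
  obtain ⟨φ, hφ, hφk⟩ := F.homf
  have hwD : w ∈ D := hDm.2 (F.comm w F.wP f F.fP)
  obtain ⟨b, hb⟩ : ∃ b, b = φ ⟨w, hwD⟩ := ⟨_, rfl⟩
  have hb1 : b ≠ 1 := fun e => F.wf ((hφk _).1 (hb ▸ e))
  have hb5 : b * b * b * b * b = 1 := by
    rw [← pow_five_iff, hb, ← map_pow, ← map_one φ]
    exact congrArg φ (Subtype.ext (F.exp w F.wP))
  have hN50 : Nat.card {g : N // (g : G) * f = f * g} = 50 := by
    let K := Subgroup.normalizer (Subgroup.zpowers b : Set (alternatingGroup (Fin 5)))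
    have hKm : ∀ g : alternatingGroup (Fin 5),
        g ∈ K ↔ (g * b = b * g ∨ g * b = b⁻¹ * g) := by
      intro g
      constructor
      · intro hg
        obtain ⟨k, hk⟩ : ∃ k : Fin 5, g * b * g⁻¹ = b ^ (k : ℕ) := by
          obtain ⟨i, hi⟩ := Subgroup.mem_zpowers_iff.1
            ((Subgroup.mem_normalizer_iff.1 hg b).1 (Subgroup.mem_zpowers b))
          refine ⟨⟨(i % 5).toNat, by omega⟩, ?_⟩
          rw [← hi, ← zpow_natCast]
          simp only [Int.toNat_of_nonneg (Int.emod_nonneg i (by norm_num : (5 : ℤ) ≠ 0))]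
          conv_lhs => rw [← Int.emod_add_mul_ediv i 5]
          rw [zpow_add, zpow_mul, show b ^ (5 : ℤ) = 1 from by exact_mod_cast pow_five_iff.2 hb5,
            one_zpow, mul_one]
        rcases Alt.five_pow b g hb1 hb5 k hk with rfl | rfl
        · exact Or.inl (mul_inv_eq_iff_eq_mul.1 (hk.trans (pow_one b)))
        · exact Or.inr (mul_inv_eq_iff_eq_mul.1 (hk.trans
            (eq_inv_of_mul_eq_one_left ((pow_succ b 4).symm.trans (pow_five_iff.2 hb5)))))
      · intro hg
        have hle : (Subgroup.zpowers b).map (MulAut.conj g).toMonoidHom = Subgroup.zpowers b := by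
          rw [zpowers_map_conj]
          rcases hg with e | e <;> rw [e, mul_inv_cancel_right]
          rw [Subgroup.zpowers_inv]
        rw [Subgroup.mem_normalizer_iff]
        intro x
        refine ⟨fun hx => hle ▸ ⟨x, hx, rfl⟩, fun hx => ?_⟩
        rw [← hle] at hx
        obtain ⟨x', hx', e⟩ := hx
        rwa [(MulAut.conj g).injective (show MulAut.conj g x' = MulAut.conj g x from e)] at hx'
    have hK10 : Nat.card K = 10 := by
      rw [← Alt.five_normalizer_card b hb1 hb5, ← Nat.card_eq_fintype_card]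
      exact Nat.card_congr (Equiv.subtypeEquivRight hKm)
    have hKidx : K.index = 6 := by
      have := Subgroup.card_mul_index K
      rw [hK10, nat_card_alternatingGroup, Nat.card_fin] at this
      simp [Nat.factorial] at this
      omega
    have h50 : Nat.card (K.comap φ) = 50 := by
      have := Subgroup.card_mul_index (K.comap φ)
      rw [Subgroup.index_comap_of_surjective K hφ, hKidx, F.cardf] at this
      omega
    rw [← h50]
    refine Nat.card_congr (Equiv.ofBijective (fun g => ⟨⟨(g.1 : G), hDm.2 g.2⟩, ?_⟩) ⟨?_, ?_⟩)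
    · -- it normalises the image of `P`
      rw [Subgroup.mem_comap, hKm]
      obtain ⟨a, ha, c', hc', e⟩ : ∃ a ∈ Subgroup.zpowers f, ∃ c' ∈ Subgroup.zpowers w,
          a * c' = (g.1 : G) * w * (g.1 : G)⁻¹ := by
        have hm := hNP g.1 g.1.2 w F.wP
        rw [F.P_eq] at hm
        have hle : Subgroup.zpowers f ≤ Subgroup.normalizer (Subgroup.zpowers w : Set G) := by
          rw [Subgroup.zpowers_le, Subgroup.mem_normalizer_iff]
          intro x
          constructor
          · intro hx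
            obtain ⟨i, rfl⟩ := Subgroup.mem_zpowers_iff.1 hx
            rw [((show Commute f w from F.comm f F.fP w F.wP).zpow_right i).eq,
              mul_inv_cancel_right]
            exact Subgroup.zpow_mem_zpowers w i
          · intro hx
            obtain ⟨i, hi⟩ := Subgroup.mem_zpowers_iff.1 hx
            rw [show x = f⁻¹ * (f * x * f⁻¹) * f by group, ← hi, mul_assoc,
              ← ((show Commute f w from F.comm f F.fP w F.wP).zpow_right i).eq, inv_mul_cancel_left]
            exact Subgroup.zpow_mem_zpowers w i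
        have hset := Subgroup.coe_mul_of_left_le_normalizer_right _ _ hle
        rw [← SetLike.mem_coe, hset] at hm
        exact Set.mem_mul.1 hm
      obtain ⟨j, rfl⟩ := Subgroup.mem_zpowers_iff.1 hc'
      obtain ⟨i, rfl⟩ := Subgroup.mem_zpowers_iff.1 ha
      obtain ⟨k, hk⟩ : ∃ k : Fin 5, b ^ (k : ℕ) = b ^ j := by
        refine ⟨⟨(j % 5).toNat, by omega⟩, ?_⟩
        rw [← zpow_natCast]
        simp only [Int.toNat_of_nonneg (Int.emod_nonneg j (by norm_num : (5 : ℤ) ≠ 0))]
        conv_rhs => rw [← Int.emod_add_mul_ediv j 5]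
        rw [zpow_add, zpow_mul, show b ^ (5 : ℤ) = 1 from by exact_mod_cast pow_five_iff.2 hb5,
          one_zpow, mul_one]
      have hconj : φ ⟨(g.1 : G), hDm.2 g.2⟩ * b * (φ ⟨(g.1 : G), hDm.2 g.2⟩)⁻¹ = b ^ (k : ℕ) := by
        rw [hk, hb, ← map_inv, ← map_mul, ← map_mul, ← map_zpow]
        have hfi : φ ((⟨f, hDm.2 rfl⟩ : D) ^ i) = 1 :=
          (hφk _).2 (Subgroup.zpow_mem_zpowers f i)
        conv_rhs => rw [← one_mul (φ _), ← hfi, ← map_mul]
        exact congrArg φ (Subtype.ext e.symm)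
      rcases Alt.five_pow b _ hb1 hb5 k hconj with rfl | rfl
      · exact Or.inl (mul_inv_eq_iff_eq_mul.1 (hconj.trans (pow_one b)))
      · exact Or.inr (mul_inv_eq_iff_eq_mul.1 (hconj.trans
          (eq_inv_of_mul_eq_one_left ((pow_succ b 4).symm.trans (pow_five_iff.2 hb5)))))
    · intro a a' e
      exact Subtype.ext (Subtype.ext (congrArg (fun d : K.comap φ => ((d : D) : G)) e))
    · rintro ⟨⟨g, hgD⟩, hg⟩
      rw [Subgroup.mem_comap, hKm, hb] at hg
      have hgN : g ∈ N := by
        refine F.mem_norm ?_ ?_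
        · rw [hDm.1 hgD, mul_inv_cancel_right]; exact F.fP
        · have hmem : ∀ (u : D), (u : G) ∈ (P : Subgroup G) →
              φ (⟨g, hgD⟩ * ⟨w, hwD⟩) = φ (u * ⟨g, hgD⟩) → g * w * g⁻¹ ∈ (P : Subgroup G) := by
            intro u hu e
            have e1 : φ (u⁻¹ * (⟨g, hgD⟩ * ⟨w, hwD⟩ * (⟨g, hgD⟩ : D)⁻¹)) = 1 := by
              rw [map_mul, map_mul, e, map_mul, map_inv, map_inv, mul_inv_cancel_right,
                inv_mul_cancel]
            rw [hφk] at e1
            obtain ⟨i, hi⟩ := Subgroup.mem_zpowers_iff.1 e1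
            rw [show g * w * g⁻¹ = (u : G) * f ^ i by
              rw [hi]; exact (mul_inv_cancel_left (u : G) _).symm]
            exact (P : Subgroup G).mul_mem hu ((P : Subgroup G).zpow_mem F.fP i)
          rcases hg with e | e
          · exact hmem ⟨w, hwD⟩ F.wP (by rw [map_mul, map_mul, e])
          · exact hmem (⟨w, hwD⟩ : D)⁻¹ ((P : Subgroup G).inv_mem F.wP)
              (by rw [map_mul, map_mul, map_inv, e])
      exact ⟨⟨⟨g, hgN⟩, hDm.1 hgD⟩, rfl⟩
  -- the stabiliser of `⟨f⟩`
  have hyy : y * y = 1 := CfsgLib.Small.mul_self_of_orderOf_two (h.orderOf_two F.yz)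
  have hyN : y ∈ N := F.mem_norm (by rw [F.yf]; exact (P : Subgroup G).inv_mem F.fP)
    (by rw [F.yw, mul_inv_cancel_right]; exact F.wP)
  have hff : f⁻¹ ≠ f := fun e => hf1 (zpow_eq_one_of_sq hfodd (Subgroup.mem_zpowers f)
    (by nth_rewrite 1 [← e]; exact inv_mul_cancel f))
  have hSf : Nat.card (MulAction.stabilizer N Wf) = 100 := by
    have hyS : (⟨y, hyN⟩ : N) ∈ MulAction.stabilizer N Wf := (hstabf _).2 (Or.inr F.yf)
    let F' : {g : N // (g : G) * f = f * g} × Bool → MulAction.stabilizer N Wf := fun p =>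
      (⟨p.1.1, (hstabf _).2 (Or.inl (by rw [p.1.2, mul_inv_cancel_right]))⟩ :
        MulAction.stabilizer N Wf) * cond p.2 ⟨⟨y, hyN⟩, hyS⟩ 1
    have hF : Function.Bijective F' := by
      constructor
      · rintro ⟨⟨a, ha⟩, u⟩ ⟨⟨a', ha'⟩, u'⟩ e
        have e' : (a : G) * cond u y 1 = (a' : G) * cond u' y 1 := by
          have := congrArg (fun s : MulAction.stabilizer N Wf => ((s : N) : G)) e
          cases u <;> cases u' <;> exact this
        have key : ∀ a a' : G, a * f = f * a → a' * f = f * a' → a * y = a' → False := by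
          intro a a' ha ha' e
          refine hff ?_
          have hy : y * f = f * y := by
            rw [show y = a⁻¹ * a' by rw [← e, inv_mul_cancel_left]]
            exact ((show Commute a f from ha).inv_left.mul_left ha').eq
          rw [← F.yf, hy, mul_inv_cancel_right]
        cases u <;> cases u' <;> simp only [cond_true, cond_false, mul_one] at e'
        · exact Prod.ext (Subtype.ext (Subtype.ext e')) rfl
        · exact (key _ _ ha' ha e'.symm).elim
        · exact (key _ _ ha ha' e').elim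
        · exact Prod.ext (Subtype.ext (Subtype.ext (mul_right_cancel e'))) rfl
      · rintro ⟨g, hg⟩
        rcases (hstabf g).1 hg with e | e
        · exact ⟨(⟨g, mul_inv_eq_iff_eq_mul.1 e⟩, false),
            Subtype.ext (Subtype.ext (mul_one (g : G)))⟩
        · refine ⟨(⟨g * ⟨y, hyN⟩, ?_⟩, true), Subtype.ext (Subtype.ext ?_)⟩
          · show (g : G) * y * f = f * ((g : G) * y)
            refine mul_inv_eq_iff_eq_mul.1 ?_
            calc (g : G) * y * f * ((g : G) * y)⁻¹ = (g : G) * (y * f * y⁻¹) * (g : G)⁻¹ := by group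
              _ = ((g : G) * f * (g : G)⁻¹)⁻¹ := by rw [F.yf]; group
              _ = f := by rw [e, inv_inv]
          · show (g : G) * y * y = g
            rw [mul_assoc, hyy, mul_one]
    rw [← Nat.card_eq_of_bijective F' hF, Nat.card_prod, hN50, Nat.card_eq_fintype_card (α := Bool),
      Fintype.card_bool]
  -- orbit sizes
  have hos : ∀ W : FiveLine (P : Subgroup G),
      Nat.card (MulAction.orbit N W) * Nat.card (MulAction.stabilizer N W) = Nat.card N := fun W => by
    rw [Nat.card_congr (MulAction.orbitEquivQuotientStabilizer N W),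
      ← Subgroup.card_eq_card_quotient_mul_card_subgroup]
  have hL6 := card_fiveLine F.card F.exp
  have hdis : ∀ g : G,
      (Subgroup.zpowers f).map (MulAut.conj g).toMonoidHom ≠ Subgroup.zpowers w := by
    intro g e
    rw [zpowers_map_conj] at e
    obtain ⟨i, hi⟩ := Subgroup.mem_zpowers_iff.1
      (e ▸ Subgroup.mem_zpowers (g * f * g⁻¹) : g * f * g⁻¹ ∈ Subgroup.zpowers w)
    have hc1 : g⁻¹ * y * g * f = f * (g⁻¹ * y * g) := by
      calc g⁻¹ * y * g * f = g⁻¹ * (y * (g * f * g⁻¹)) * g := by group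
        _ = g⁻¹ * (g * f * g⁻¹ * y) * g := by
          rw [← hi, ((show Commute y w from F.yw).zpow_right i).eq]
        _ = f * (g⁻¹ * y * g) := by group
    have hzc : IsConj z (g⁻¹ * y * g) := F.yz.trans (isConj_iff.2 ⟨g⁻¹, by group⟩)
    obtain ⟨d, -, hd⟩ := F.centf.invol _ hc1 (h.orderOf_two hzc)
    exact L.nz h (hzc.trans (isConj_iff.2 ⟨d, hd⟩))
  have horb : Disjoint (MulAction.orbit N Wf) (MulAction.orbit N Ww) := by
    rw [Set.disjoint_left]
    intro W h1 h2
    have h3 : Ww ∈ MulAction.orbit N Wf := by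
      rw [← MulAction.orbit_eq_iff.2 h1]
      rw [MulAction.orbit_eq_iff.2 h2]
      exact MulAction.mem_orbit_self Ww
    obtain ⟨g, hg⟩ := h3
    exact hdis g (congrArg Subtype.val hg)
  have hsum : (MulAction.orbit N Wf).ncard + (MulAction.orbit N Ww).ncard ≤ 6 := by
    rw [← Set.ncard_union_eq horb (Set.toFinite _) (Set.toFinite _), ← hL6, ← Set.ncard_univ]
    exact Set.ncard_le_ncard (Set.subset_univ _) (Set.toFinite _)
  have hk1 : 0 < (MulAction.orbit N Ww).ncard :=
    (Set.ncard_pos (Set.toFinite _)).2 ⟨Ww, MulAction.mem_orbit_self Ww⟩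
  have hkf := hos Wf
  rw [hSf, Nat.card_coe_set_eq] at hkf
  have hidx : (MulAction.orbit N Wf).ncard * 100 * Nat.card (Sylow 5 G) = 604800 := by
    rw [hkf, show Nat.card (Sylow 5 G) = N.index from Sylow.card_eq_index_normalizer P,
      Subgroup.card_mul_index, hG]
  have hmod := card_sylow_modEq_one 5 G
  have hk3 : (MulAction.orbit N Wf).ncard = 3 := by
    have hk5 : (MulAction.orbit N Wf).ncard ≤ 5 := by omega
    obtain ⟨k, hk⟩ : ∃ k, k = (MulAction.orbit N Wf).ncard := ⟨_, rfl⟩
    obtain ⟨n, hn⟩ : ∃ n, n = Nat.card (Sylow 5 G) := ⟨_, rfl⟩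
    rw [← hk] at hidx hk5 ⊢
    rw [← hn] at hidx hmod
    unfold Nat.ModEq at hmod
    interval_cases k <;> omega
  have hN300 : Nat.card N = 300 := by rw [← hkf, hk3]
  refine ⟨hN300, hdis, ?_⟩
  have hkw := hos Ww
  rw [hN300, Nat.card_coe_set_eq] at hkw
  have hk'3 : (MulAction.orbit N Ww).ncard = 3 := by
    obtain ⟨k', hk'⟩ : ∃ k, k = (MulAction.orbit N Ww).ncard := ⟨_, rfl⟩
    obtain ⟨S, hS⟩ : ∃ S, S = Nat.card (MulAction.stabilizer N Ww) := ⟨_, rfl⟩
    rw [← hk'] at hkw hk1 hsum ⊢
    rw [← hS] at hkw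
    by_contra hne
    have hle : k' ≤ 2 := by omega
    have h3 : 3 ∣ S := by interval_cases k' <;> omega
    obtain ⟨⟨⟨g, hgN⟩, hgS⟩, hgo⟩ := exists_prime_orderOf_dvd_card' 3 (hS ▸ h3)
    rw [Subgroup.orderOf_mk, Subgroup.orderOf_mk] at hgo
    have hgm : g * w * g⁻¹ ∈ Subgroup.zpowers w := by
      have e : (Subgroup.zpowers w).map (MulAut.conj g).toMonoidHom = Subgroup.zpowers w :=
        (hstab _ Ww).1 hgS
      rw [zpowers_map_conj] at e
      exact e ▸ Subgroup.mem_zpowers _
    obtain ⟨i, hi⟩ := Subgroup.mem_zpowers_iff.1 hgm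
    have hw5 : w ^ (5 : ℤ) = 1 := by exact_mod_cast F.exp w F.wP
    have e3 : w ^ (i * i * i) = w := by
      rw [zpow_mul, zpow_mul, hi, conj_zpow, hi, show g * (g * w * g⁻¹) * g⁻¹ = g ^ 2 * w * (g ^ 2)⁻¹ by
        rw [pow_two]; group, conj_zpow, hi, show g ^ 2 * (g * w * g⁻¹) * (g ^ 2)⁻¹ = g ^ 3 * w * (g ^ 3)⁻¹ by
        rw [pow_succ g 2]; group, ← hgo, pow_orderOf_eq_one]
      group
    have hcong : (5 : ℤ) ∣ i * i * i - 1 := by
      have : w ^ (i * i * i - 1) = 1 := by rw [zpow_sub, e3, zpow_one, mul_inv_cancel]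
      rw [← orderOf_dvd_iff_zpow_eq_one, F.wo] at this
      exact this
    have hi1 : w ^ i = w := by
      have h5i : (5 : ℤ) ∣ i - 1 := by
        obtain ⟨q, r, hr0, hr5, rfl⟩ : ∃ q r : ℤ, 0 ≤ r ∧ r < 5 ∧ i = 5 * q + r :=
          ⟨i / 5, i % 5, Int.emod_nonneg i (by norm_num), Int.emod_lt_of_pos i (by norm_num),
            (Int.mul_ediv_add_emod i 5).symm⟩
        have h' : (5 : ℤ) ∣ r * r * r - 1 := by
          have : (5 * q + r) * (5 * q + r) * (5 * q + r) - 1 =
              5 * (25 * q * q * q + 15 * q * q * r + 3 * q * r * r) + (r * r * r - 1) := by ring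
          rw [this] at hcong
          exact (dvd_add_right (dvd_mul_right 5 _)).1 hcong
        interval_cases r <;> omega
      obtain ⟨q, hq⟩ := h5i
      rw [show i = 1 + 5 * q by omega, zpow_add, zpow_mul, hw5, one_zpow, mul_one, zpow_one]
    have hgw : g * w = w * g := mul_inv_eq_iff_eq_mul.1 (hi.symm.trans hi1)
    have := F.cw_coprime h hgw (hgo ▸ pow_orderOf_eq_one g : g ^ 3 = 1) (by decide) (by norm_num)
    rw [this, orderOf_one] at hgo
    norm_num at hgo
  intro W hWP hW5
  have hu : MulAction.orbit N Wf ∪ MulAction.orbit N Ww = Set.univ :=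
    Set.eq_of_subset_of_ncard_le (Set.subset_univ _) (by
      rw [Set.ncard_union_eq horb (Set.toFinite _) (Set.toFinite _), hk3, hk'3, Set.ncard_univ, hL6])
      (Set.toFinite _)
  rcases (hu.ge (Set.mem_univ ⟨W, hWP, hW5⟩) : _ ∈ _ ∪ _) with ⟨g, hg⟩ | ⟨g, hg⟩
  · refine ⟨(g : G)⁻¹, Or.inl ?_⟩
    rw [← show (Subgroup.zpowers f).map (MulAut.conj (g : G)).toMonoidHom = W from
      congrArg Subtype.val hg, map_conj_map_conj, inv_mul_cancel, map_one]
    exact Subgroup.map_id _
  · refine ⟨(g : G)⁻¹, Or.inr ?_⟩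
    rw [← show (Subgroup.zpowers w).map (MulAut.conj (g : G)).toMonoidHom = W from
      congrArg Subtype.val hg, map_conj_map_conj, inv_mul_cancel, map_one]
    exact Subgroup.map_id _

/-- All statements about the prime 5 used later. -/
theorem five_main :
    (∀ P : Sylow 5 G, Subgroup.centralizer ((P : Subgroup G) : Set G) = P ∧ Nat.card P = 25 ∧
      Nat.card (Subgroup.normalizer ((P : Subgroup G) : Set G)) = 300 ∧
      ∃ X Y : Subgroup G, Nat.card X = 5 ∧ Nat.card Y = 5 ∧
        (∀ g : G, X.map (MulAut.conj g).toMonoidHom ≠ Y) ∧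
        ∀ W : Subgroup G, Nat.card W = 5 →
          ∃ g : G, W.map (MulAut.conj g).toMonoidHom = X ∨ W.map (MulAut.conj g).toMonoidHom = Y) ∧
    (∀ u g : G, orderOf u = 5 → orderOf g = 3 → g * u = u * g →
      ∃ x : G, g = x * L.s * x⁻¹ ∨ g = x * L.s⁻¹ * x⁻¹) ∧
    (∀ u g : G, orderOf u = 5 → g * u = u * g → orderOf g ≠ 7) := by
  classical
  haveI : Fact (Nat.Prime 5) := ⟨by norm_num⟩
  haveI : Fact (Nat.Prime 3) := ⟨Nat.prime_three⟩
  obtain ⟨P, f, w, y, F⟩ := L.exists_fivePt h c
  obtain ⟨hN, hne, hlines⟩ := L.five_norm h c F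
  have hall : ∀ W : Subgroup G, Nat.card W = 5 → ∃ g : G,
      W.map (MulAut.conj g).toMonoidHom = Subgroup.zpowers f ∨
      W.map (MulAut.conj g).toMonoidHom = Subgroup.zpowers w := by
    intro W hW
    obtain ⟨R, hR⟩ := (IsPGroup.of_card (p := 5) (n := 1)
      (by rw [hW, pow_one] : Nat.card W = 5 ^ 1)).exists_le_sylow
    obtain ⟨a, ha⟩ := MulAction.exists_smul_eq G R P
    obtain ⟨g, hg⟩ := hlines (W.map (MulAut.conj a).toMonoidHom) (by
      rw [← ha, Sylow.coe_subgroup_smul]
      exact Subgroup.map_mono hR) (by rw [card_map_conj, hW])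
    refine ⟨g * a, ?_⟩
    rw [← map_conj_map_conj]
    exact hg
  -- move an element commuting with an element of order 5
  have hmove : ∀ u g : G, orderOf u = 5 → g * u = u * g →
      ∃ a : G, (a * g * a⁻¹) * f = f * (a * g * a⁻¹) ∨ (a * g * a⁻¹) * w = w * (a * g * a⁻¹) := by
    intro u g hu hgu
    obtain ⟨a, ha⟩ := hall (Subgroup.zpowers u) (by rw [Nat.card_zpowers, hu])
    refine ⟨a, ?_⟩
    have key : ∀ x : G, (Subgroup.zpowers u).map (MulAut.conj a).toMonoidHom = Subgroup.zpowers x →
        a * g * a⁻¹ * x = x * (a * g * a⁻¹) := by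
      intro x e
      rw [zpowers_map_conj] at e
      obtain ⟨i, hi⟩ := Subgroup.mem_zpowers_iff.1 (e ▸ Subgroup.mem_zpowers x)
      rw [← hi]
      exact (((SemiconjBy.conj_iff (b := a)).2 (show Commute g u from hgu)).zpow_right i : _)
    exact ha.imp (key f) (key w)
  refine ⟨fun R => ?_, ?_, ?_⟩
  · obtain ⟨a, ha⟩ := MulAction.exists_smul_eq G R P
    have hmap : (P : Subgroup G) = (R : Subgroup G).map (MulAut.conj a).toMonoidHom := by
      rw [← ha, Sylow.coe_subgroup_smul]; rfl
    have hR25 : Nat.card R = 25 := by rw [← F.card, hmap, card_map_conj]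
    refine ⟨?_, hR25, ?_, Subgroup.zpowers f, Subgroup.zpowers w, by rw [Nat.card_zpowers, F.fo],
      by rw [Nat.card_zpowers, F.wo], hne, hall⟩
    · refine le_antisymm (fun g hg => ?_) fun g hg q hq => ?_
      · have hm : a * g * a⁻¹ ∈ (P : Subgroup G) := F.self _ fun p hp => by
          rw [hmap] at hp
          obtain ⟨q, hq, rfl⟩ := hp
          show a * g * a⁻¹ * (a * q * a⁻¹) = a * q * a⁻¹ * (a * g * a⁻¹)
          rw [show a * g * a⁻¹ * (a * q * a⁻¹) = a * (g * q) * a⁻¹ by group,
            (Subgroup.mem_centralizer_iff.1 hg q hq).symm]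
          group
        rw [hmap] at hm
        obtain ⟨q, hq, e⟩ := hm
        rwa [← (MulAut.conj a).injective (show MulAut.conj a q = MulAut.conj a g from e)]
      · exact congrArg Subtype.val ((IsPGroup.isMulCommutative_of_card_eq_prime_sq
          (p := 5) (G := (R : Subgroup G)) (by rw [hR25]; norm_num)).is_comm.comm ⟨q, hq⟩ ⟨g, hg⟩)
    · obtain ⟨k, hk⟩ : ∃ k, k = Nat.card (Sylow 5 G) := ⟨_, rfl⟩
      have e1 := Subgroup.card_mul_index (Subgroup.normalizer ((R : Subgroup G) : Set G))
      have e2 := Subgroup.card_mul_index (Subgroup.normalizer ((P : Subgroup G) : Set G))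
      rw [show (Subgroup.normalizer ((R : Subgroup G) : Set G)).index = k from
        (hk.trans (Sylow.card_eq_index_normalizer R)).symm] at e1
      rw [show (Subgroup.normalizer ((P : Subgroup G) : Set G)).index = k from
        (hk.trans (Sylow.card_eq_index_normalizer P)).symm, hN] at e2
      exact Nat.eq_of_mul_eq_mul_right (hk ▸ Nat.card_pos) (e1.trans e2.symm)
  · intro u g hu hg hgu
    obtain ⟨a, ha | ha⟩ := hmove u g hu hgu
    · set D := Subgroup.centralizer ({f} : Set G) with hD
      let g' : D := ⟨a * g * a⁻¹, Subgroup.mem_centralizer_singleton_iff.2 ha⟩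
      let s' : D := ⟨L.s, Subgroup.mem_centralizer_singleton_iff.2 (L.scomm h c f F.fX)⟩
      have hsyl : ∀ x : D, orderOf x = 3 →
          ∃ S : Sylow 3 D, (S : Subgroup D) = Subgroup.zpowers x := by
        intro x hx
        obtain ⟨S, hS⟩ := (IsPGroup.of_card (p := 3) (n := 1)
          (show Nat.card (Subgroup.zpowers x) = 3 ^ 1 by
            rw [Nat.card_zpowers, hx, pow_one])).exists_le_sylow
        refine ⟨S, (Subgroup.eq_of_le_of_card_ge hS ?_).symm⟩
        obtain ⟨m, hm⟩ := S.2.exists_card_eq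
        have hd := Subgroup.card_subgroup_dvd_card (S : Subgroup D)
        rw [hm, F.cardf] at hd
        rw [Nat.card_zpowers, hx, hm]
        rcases m with _ | _ | m
        · norm_num
        · norm_num
        · exact absurd ((pow_dvd_pow 3 (show 2 ≤ m + 2 by omega)).trans hd) (by norm_num)
      obtain ⟨S, hS⟩ := hsyl g' (by rw [Subgroup.orderOf_mk, CfsgLib.Small.orderOf_conj_eq, hg])
      obtain ⟨T, hT⟩ := hsyl s' (by rw [Subgroup.orderOf_mk, L.hs3])
      obtain ⟨d, hd⟩ := MulAction.exists_smul_eq D T S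
      have hm : g' ∈ (Subgroup.zpowers s').map (MulAut.conj d).toMonoidHom := by
        have hm' : g' ∈ (S : Subgroup D) := by rw [hS]; exact Subgroup.mem_zpowers g'
        rw [← hd, Sylow.coe_subgroup_smul, hT] at hm'
        exact hm'
      obtain ⟨x, hx, hxe⟩ := hm
      have hxe' : (d : G) * (x : G) * (d : G)⁻¹ = a * g * a⁻¹ := congrArg Subtype.val hxe
      obtain ⟨i, hi⟩ := Subgroup.mem_zpowers_iff.1 hx
      have hxi : (x : G) = L.s ^ i := by rw [← hi]; simp [s']
      have hge : g = (a⁻¹ * d) * L.s ^ i * (a⁻¹ * d)⁻¹ := by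
        rw [show (a⁻¹ * (d : G)) * L.s ^ i * (a⁻¹ * (d : G))⁻¹ =
          a⁻¹ * ((d : G) * L.s ^ i * (d : G)⁻¹) * a by group, ← hxi, hxe']
        group
      have hs3 : L.s ^ (3 : ℤ) = 1 := by
        rw [show (3 : ℤ) = ((3 : ℕ) : ℤ) by rfl, zpow_natCast, ← L.hs3, pow_orderOf_eq_one]
      refine ⟨a⁻¹ * d, ?_⟩
      have hq := (Int.emod_add_mul_ediv i 3).symm
      have h01 : i % 3 = 0 ∨ i % 3 = 1 ∨ i % 3 = 2 := by omega
      rw [hq, zpow_add, zpow_mul, hs3, one_zpow, mul_one] at hge
      rcases h01 with e | e | e <;> rw [e] at hge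
      · exfalso
        rw [zpow_zero, mul_one, mul_inv_cancel] at hge
        rw [hge, orderOf_one] at hg
        norm_num at hg
      · exact Or.inl (by rw [hge, zpow_one])
      · refine Or.inr ?_
        rw [hge, show L.s ^ (2 : ℤ) = L.s⁻¹ from eq_inv_of_mul_eq_one_left (by
          rw [← zpow_add_one]; exact hs3)]
    · exfalso
      have := F.cw_coprime h ha (n := 3) (by
        rw [conj_pow, ← hg, pow_orderOf_eq_one, mul_one, mul_inv_cancel]) (by decide) (by norm_num)
      rw [conj_eq_one_iff] at this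
      rw [this, orderOf_one] at hg
      norm_num at hg
  · intro u g hu hgu hg
    obtain ⟨a, ha | ha⟩ := hmove u g hu hgu
    · have := Subgroup.orderOf_dvd_natCard (Subgroup.centralizer ({f} : Set G))
        (Subgroup.mem_centralizer_singleton_iff.2 ha)
      rw [F.cardf, CfsgLib.Small.orderOf_conj_eq, hg] at this
      norm_num at this
    · have := F.cw_coprime h ha (n := 7) (by
        rw [conj_pow, ← hg, pow_orderOf_eq_one, mul_one, mul_inv_cancel]) (by decide) (by norm_num)
      rw [conj_eq_one_iff] at this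
      rw [this, orderOf_one] at hg
      norm_num at hg

end Loc

end CfsgLib.HallJanko
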