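import Cfsg.Agent.HallJanko.Five

/-!
# The normaliser of a Sylow 5-subgroup and the classes of subgroups of order 5
-/

set_option autoImplicit false
set_option linter.style.haveILetI false

namespace CfsgLib.HallJanko

variable {G : Type*} [Group G] [Finite G] {z : G} {Q : Subgroup G}

/-- The subgroups of order 5 of `P`. -/
abbrev FiveLine (P : Subgroup G) := {W : Subgroup G // W ≤ P ∧ Nat.card W = 5}

theorem card_map_conj (W : Subgroup G) (g : G) :
    Nat.card (W.map (MulAut.conj g).toMonoidHom) = Nat.card W :=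
  (Nat.card_congr (W.equivMapOfInjective _ (MulAut.conj g).injective).toEquiv).symm

omit [Finite G] in
theorem zpowers_map_conj (x g : G) :
    (Subgroup.zpowers x).map (MulAut.conj g).toMonoidHom = Subgroup.zpowers (g * x * g⁻¹) := by
  rw [MonoidHom.map_zpowers]; rfl

theorem eq_zpowers_of_card_five {W : Subgroup G} (hW : Nat.card W = 5) {x : G} (hx : x ∈ W)
    (hx1 : x ≠ 1) : Subgroup.zpowers x = W := by
  haveI : Fact (Nat.Prime 5) := ⟨by norm_num⟩
  have hd := Subgroup.orderOf_dvd_natCard W hx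
  rw [hW] at hd
  rcases (Nat.dvd_prime (by norm_num : Nat.Prime 5)).1 hd with e | e
  · exact absurd (orderOf_eq_one_iff.1 e) hx1
  · exact Subgroup.eq_of_le_of_card_ge (Subgroup.zpowers_le.2 hx)
      (by rw [hW, Nat.card_zpowers, e])

theorem card_fiveLine {P : Subgroup G} (hP : Nat.card P = 25) (hexp : ∀ p ∈ P, p ^ 5 = 1) :
    Nat.card (FiveLine P) = 6 := by
  classical
  haveI := Fintype.ofFinite G
  haveI : Fact (Nat.Prime 5) := ⟨by norm_num⟩
  have hne : ∀ H : Subgroup G, Nat.card {x : G // x ∈ H ∧ x ≠ 1} = Nat.card H - 1 := fun H => by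
    show Nat.card ↥{x : G | x ∈ H ∧ x ≠ 1} = _
    rw [Nat.card_coe_set_eq, show {x : G | x ∈ H ∧ x ≠ 1} = (H : Set G) \ {1} from rfl,
      Set.ncard_sdiff (Set.singleton_subset_iff.2 H.one_mem) (Set.toFinite _),
      Set.ncard_singleton]
    rfl
  have e : (Σ W : FiveLine P, {x : G // x ∈ W.1 ∧ x ≠ 1}) ≃ {x : G // x ∈ P ∧ x ≠ 1} := by
    refine Equiv.ofBijective (fun p => ⟨p.2.1, p.1.2.1 p.2.2.1, p.2.2.2⟩) ⟨?_, ?_⟩
    · rintro ⟨⟨W, hW⟩, x, hx⟩ ⟨⟨W', hW'⟩, x', hx'⟩ e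
      obtain rfl : x = x' := congrArg Subtype.val e
      obtain rfl : W = W' := by
        rw [← eq_zpowers_of_card_five hW.2 hx.1 hx.2, eq_zpowers_of_card_five hW'.2 hx'.1 hx.2]
      rfl
    · rintro ⟨x, hx, hx1⟩
      exact ⟨⟨⟨Subgroup.zpowers x, Subgroup.zpowers_le.2 hx, by
        rw [Nat.card_zpowers, orderOf_eq_prime (hexp x hx) hx1]⟩, x, Subgroup.mem_zpowers x, hx1⟩,
        rfl⟩
  have h1 := Nat.card_congr e
  rw [Nat.card_sigma, hne P, hP,
    Finset.sum_congr rfl fun (W : FiveLine P) _ => (hne W.1).trans (by rw [W.2.2]),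
    Finset.sum_const, Finset.card_univ, smul_eq_mul, ← Nat.card_eq_fintype_card] at h1
  omega

namespace FivePt

variable {t s : G} {X0 : Subgroup G} {P : Sylow 5 G} {f w y : G}
  (h : Core z Q) (F : FivePt z t s X0 P f w y)
include F

theorem P_eq : (P : Subgroup G) = Subgroup.zpowers f ⊔ Subgroup.zpowers w := by
  haveI : Fact (Nat.Prime 5) := ⟨by norm_num⟩
  have hle : Subgroup.zpowers f ⊔ Subgroup.zpowers w ≤ (P : Subgroup G) :=
    sup_le (Subgroup.zpowers_le.2 F.fP) (Subgroup.zpowers_le.2 F.wP)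
  obtain ⟨k, hk, hk'⟩ := (Nat.dvd_prime_pow (by norm_num : Nat.Prime 5)).1
    (show Nat.card ↥(Subgroup.zpowers f ⊔ Subgroup.zpowers w) ∣ 5 ^ 2 by
      have := Subgroup.card_dvd_of_le hle
      rwa [F.card] at this)
  refine (Subgroup.eq_of_le_of_card_ge hle ?_).symm
  rw [hk', F.card]
  by_contra hlt
  have hk1 : k ≤ 1 := by
    by_contra h2
    obtain rfl : k = 2 := by omega
    norm_num at hlt
  refine F.wf ?_
  rw [Subgroup.eq_of_le_of_card_ge (show Subgroup.zpowers f ≤ Subgroup.zpowers f ⊔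
    Subgroup.zpowers w from le_sup_left) (by
      rw [hk', Nat.card_zpowers, F.fo]
      exact le_trans (Nat.pow_le_pow_right (by norm_num) hk1) (by norm_num))]
  exact Subgroup.mem_sup_right (Subgroup.mem_zpowers w)

theorem mem_norm {g : G} (hf : g * f * g⁻¹ ∈ (P : Subgroup G))
    (hw : g * w * g⁻¹ ∈ (P : Subgroup G)) :
    g ∈ Subgroup.normalizer ((P : Subgroup G) : Set G) := by
  have hle : (P : Subgroup G).map (MulAut.conj g).toMonoidHom ≤ (P : Subgroup G) := by
    conv_lhs => rw [F.P_eq]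
    rw [Subgroup.map_sup, zpowers_map_conj, zpowers_map_conj]
    exact sup_le (Subgroup.zpowers_le.2 hf) (Subgroup.zpowers_le.2 hw)
  have heq := Subgroup.eq_of_le_of_card_ge hle (card_map_conj _ g).ge
  rw [Subgroup.mem_normalizer_iff]
  intro x
  refine ⟨fun hx => hle ⟨x, hx, rfl⟩, fun hx => ?_⟩
  rw [← heq] at hx
  obtain ⟨x', hx', e⟩ := hx
  rwa [(MulAut.conj g).injective (show MulAut.conj g x' = MulAut.conj g x from e)] at hx'

include h in
/-- The centraliser of `w` has no non-trivial element of odd order prime to 5. -/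
theorem cw_coprime {g : G} {n : ℕ} (hg : g * w = w * g) (hn : g ^ n = 1) (hodd : Odd n)
    (h5 : n.Coprime 5) : g = 1 := by
  classical
  haveI : Fact (Nat.Prime 2) := ⟨Nat.prime_two⟩
  set C := Subgroup.centralizer ({w} : Set G) with hC
  have hCm : ∀ {x : G}, x ∈ C ↔ x * w = w * x := Subgroup.mem_centralizer_singleton_iff
  have hy2 := h.orderOf_two F.yz
  let y' : C := ⟨y, hCm.2 F.yw⟩
  have hy'2 : orderOf y' = 2 := by rw [Subgroup.orderOf_mk, hy2]
  have hyy : y * y = 1 := CfsgLib.Small.mul_self_of_orderOf_two hy2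
  have hwodd : Odd (orderOf w) := by rw [F.wo]; decide
  obtain ⟨S, hS⟩ := (IsPGroup.of_card (p := 2) (n := 1)
    (show Nat.card (Subgroup.zpowers y') = 2 ^ 1 by
      rw [Nat.card_zpowers, hy'2, pow_one])).exists_le_sylow
  have hyS : y' ∈ (S : Subgroup C) := hS (Subgroup.mem_zpowers y')
  -- 2-elements commuting with `y`
  have hsmall : ∀ x ∈ (S : Subgroup C), x * y' = y' * x → x = 1 ∨ x = y' := by
    intro x hx hxy
    obtain ⟨m, hm⟩ := S.2 ⟨x, hx⟩
    have hxm : (x : G) ^ 2 ^ m = 1 := congrArg (fun a : (S : Subgroup C) => ((a : C) : G)) hm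
    obtain ⟨i, hi⟩ := h.cent_five' F.wo F.yz F.yw (congrArg Subtype.val hxy) (hCm.1 x.2)
    have hwi5 : (w ^ i) ^ 5 = 1 := by
      rw [← pow_mul, mul_comm, pow_mul, ← F.wo, pow_orderOf_eq_one, one_pow]
    have hwi2 : (w ^ i) ^ 2 ^ (m + 1) = 1 := by
      rcases hi with e | e
      · rw [← e, pow_succ 2 m, pow_mul, hxm, one_pow]
      · have hcom : Commute (x : G) y := congrArg Subtype.val hxy
        have e' : w ^ i = (x : G) * y := by rw [e, mul_assoc, hyy, mul_one]
        rw [e', hcom.mul_pow, pow_succ 2 m, pow_mul, hxm, one_pow, one_mul, mul_comm, pow_mul,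
          pow_two, hyy, one_pow]
    have hwi : w ^ i = 1 := orderOf_eq_one_iff.1 (Nat.eq_one_of_dvd_coprimes
      (Nat.Coprime.pow_left (m + 1) (by norm_num : Nat.Coprime 2 5))
      (orderOf_dvd_of_pow_eq_one hwi2) (orderOf_dvd_of_pow_eq_one hwi5))
    rw [hwi, one_mul] at hi
    exact hi.imp (fun e => Subtype.ext e) fun e => Subtype.ext e
  have hSall : ∀ x ∈ (S : Subgroup C), x = 1 ∨ x = y' := by
    haveI : Nontrivial (S : Subgroup C) := ⟨⟨⟨y', hyS⟩, 1, fun e =>
      CfsgLib.Small.ne_one_of_orderOf_two hy'2 (congrArg Subtype.val e)⟩⟩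
    haveI := S.2.center_nontrivial
    obtain ⟨⟨u, hu⟩, hu1⟩ := exists_ne (1 : Subgroup.center (S : Subgroup C))
    have huy : (u : C) = y' := (hsmall u u.2
      (congrArg Subtype.val (Subgroup.mem_center_iff.1 hu ⟨y', hyS⟩)).symm).resolve_left
        fun e => hu1 (Subtype.ext (Subtype.ext e))
    intro x hx
    refine hsmall x hx ?_
    rw [← huy]
    exact congrArg Subtype.val (Subgroup.mem_center_iff.1 hu ⟨x, hx⟩)
  have hNS : Subgroup.normalizer ((S : Subgroup C) : Set C) ≤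
      Subgroup.centralizer ((S : Subgroup C) : Set C) := by
    intro x hx b hb
    rcases hSall b hb with rfl | rfl
    · rw [one_mul, mul_one]
    · refine (mul_inv_eq_iff_eq_mul.1 ((hSall _ ((Subgroup.mem_normalizer_iff.1 hx y').1 hyS)).resolve_left
        fun e => CfsgLib.Small.ne_one_of_orderOf_two hy'2 (conj_eq_one_iff.1 e))).symm
  set D0 := (MonoidHom.transferSylow S hNS).ker with hD0
  have hodd_mem : ∀ (x : C) (m : ℕ), Odd m → (x : G) ^ m = 1 → x ∈ D0 := by
    intro x m hm hxm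
    rw [hD0, MonoidHom.mem_ker]
    have h1 : MonoidHom.transferSylow S hNS x ^ m = 1 := by
      rw [← map_pow, show x ^ m = 1 from Subtype.ext hxm, map_one]
    have h2 : MonoidHom.transferSylow S hNS x ^ 2 = 1 := by
      rcases hSall _ (MonoidHom.transferSylow S hNS x).2 with e | e
      · rw [show MonoidHom.transferSylow S hNS x = 1 from Subtype.ext e, one_pow]
      · refine Subtype.ext ?_
        rw [Subgroup.coe_pow, e, pow_two]
        exact Subtype.ext hyy
    exact orderOf_eq_one_iff.1 (Nat.eq_one_of_dvd_coprimes (Nat.coprime_two_left.2 hm)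
      (orderOf_dvd_of_pow_eq_one h2) (orderOf_dvd_of_pow_eq_one h1))
  have hD0n : ¬ 2 ∣ Nat.card D0 := MonoidHom.not_dvd_card_ker_transferSylow S hNS
  have hy'D : y' ∉ D0 := fun hm => hD0n (hy'2 ▸ Subgroup.orderOf_dvd_natCard D0 hm)
  haveI hD0N : D0.Normal := MonoidHom.normal_ker _
  -- the involution induced on `D0` modulo `⟨w⟩`
  let θ : D0 →* D0 := MonoidHom.mk' (fun x => ⟨y' * x * y'⁻¹, hD0N.conj_mem _ x.2 y'⟩)
    fun a b => Subtype.ext (by simp only [Subgroup.coe_mul]; group)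
  let w' : D0 := ⟨⟨w, hCm.2 rfl⟩,
    hodd_mem _ 5 (by decide) (show w ^ 5 = 1 from F.wo ▸ pow_orderOf_eq_one w)⟩
  haveI hWn : (Subgroup.zpowers w').Normal := ⟨fun a ha x => by
    obtain ⟨i, rfl⟩ := Subgroup.mem_zpowers_iff.1 ha
    have hcw : Commute x w' := Subtype.ext (Subtype.ext (hCm.1 x.1.2))
    rw [(hcw.zpow_right i).eq, mul_inv_cancel_right]
    exact Subgroup.zpow_mem_zpowers _ _⟩
  have hθw : θ w' = w' := Subtype.ext (Subtype.ext (show y * w * y⁻¹ = w by
    rw [F.yw, mul_inv_cancel_right]))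
  have hθθ : ∀ x, θ (θ x) = x := fun x => Subtype.ext (Subtype.ext (by
    show y * (y * ((x : C) : G) * y⁻¹) * y⁻¹ = ((x : C) : G)
    calc y * (y * ((x : C) : G) * y⁻¹) * y⁻¹ = (y * y) * ((x : C) : G) * (y * y)⁻¹ := by group
      _ = ((x : C) : G) := by rw [hyy, inv_one, one_mul, mul_one]))
  let θb : D0 ⧸ Subgroup.zpowers w' →* D0 ⧸ Subgroup.zpowers w' :=
    QuotientGroup.map _ _ θ (by
      rw [Subgroup.zpowers_le, Subgroup.mem_comap, hθw]
      exact Subgroup.mem_zpowers _)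
  have hfpf : MonoidHom.FixedPointFree θb := by
    intro q hq
    obtain ⟨x, rfl⟩ := QuotientGroup.mk'_surjective _ q
    have hm : x⁻¹ * θ x ∈ Subgroup.zpowers w' := QuotientGroup.eq.1 hq.symm
    obtain ⟨i, hi⟩ := Subgroup.mem_zpowers_iff.1 hm
    have e1 : θ x = x * w' ^ i := by rw [hi, mul_inv_cancel_left]
    have e2 := hθθ x
    rw [e1, map_mul, e1, map_zpow, hθw, mul_assoc] at e2
    have e3 : (w ^ i) * (w ^ i) = 1 :=
      congrArg (fun a : D0 => ((a : C) : G)) (mul_eq_left.1 e2)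
    have e4 := zpow_eq_one_of_sq hwodd (Subgroup.zpow_mem_zpowers w i) e3
    have hxy : ((x : C) : G) * y = y * ((x : C) : G) := by
      have e5 : y * ((x : C) : G) * y⁻¹ = ((x : C) : G) * w ^ i :=
        congrArg (fun a : D0 => ((a : C) : G)) e1
      rw [e4, mul_one] at e5
      exact (mul_inv_eq_iff_eq_mul.1 e5).symm
    obtain ⟨j, hj⟩ := h.cent_five' F.wo F.yz F.yw hxy (hCm.1 x.1.2)
    refine (QuotientGroup.eq_one_iff x).2 ?_
    rcases hj with e | e
    · rw [show x = w' ^ j from Subtype.ext (Subtype.ext e)]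
      exact Subgroup.npow_mem_zpowers _ _
    · exfalso
      refine hy'D ?_
      have : y' = ((w' ^ j : D0) : C)⁻¹ * x := Subtype.ext (by
        show y = (w ^ j)⁻¹ * ((x : C) : G)
        rw [e, inv_mul_cancel_left])
      rw [this]
      exact D0.mul_mem (D0.inv_mem (w' ^ j).2) x.2
  have hinv : Function.Involutive θb := by
    intro q
    obtain ⟨x, rfl⟩ := QuotientGroup.mk'_surjective _ q
    exact congrArg (QuotientGroup.mk' _) (hθθ x)
  let g' : D0 := ⟨⟨g, hCm.2 hg⟩, hodd_mem _ n hodd hn⟩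
  -- `g` centralises `P`
  have hgP : g ∈ (P : Subgroup G) := F.self g fun p hp => by
    let p' : D0 := ⟨⟨p, hCm.2 (F.comm p hp w F.wP)⟩, hodd_mem _ 5 (by decide) (F.exp p hp)⟩
    have hcm : ((g' * p' : D0) : D0 ⧸ Subgroup.zpowers w') = (p' * g' : D0) :=
      (hfpf.commute_all_of_involutive hinv (g' : D0 ⧸ Subgroup.zpowers w') p').eq
    obtain ⟨i, hi⟩ := Subgroup.mem_zpowers_iff.1 (QuotientGroup.eq.1 hcm.symm)
    have hi' : w ^ i = (p * g)⁻¹ * (g * p) := congrArg (fun a : D0 => ((a : C) : G)) hi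
    have hcw : Commute g (w ^ i) := (show Commute g w from hg).zpow_right i
    have e1 : g * p * g⁻¹ = p * w ^ i := by
      calc g * p * g⁻¹ = p * g * ((p * g)⁻¹ * (g * p)) * g⁻¹ := by group
        _ = p * (g * w ^ i) * g⁻¹ := by rw [← hi']; group
        _ = p * w ^ i := by rw [hcw.eq]; group
    have e2 : ∀ m : ℕ, g ^ m * p * (g ^ m)⁻¹ = p * (w ^ i) ^ m := by
      intro m
      induction m with
      | zero => simp
      | succ m ih =>
        calc g ^ (m + 1) * p * (g ^ (m + 1))⁻¹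
            = g * (g ^ m * p * (g ^ m)⁻¹) * g⁻¹ := by rw [pow_succ']; group
          _ = g * p * (w ^ i) ^ m * g⁻¹ := by rw [ih]; group
          _ = g * p * (g⁻¹ * (w ^ i) ^ m) := by
            rw [mul_assoc, ((hcw.pow_right m).inv_left).eq]
          _ = p * (w ^ i) ^ (m + 1) := by rw [← mul_assoc, e1, mul_assoc, ← pow_succ']
    have e3 := e2 n
    rw [hn, one_mul, inv_one, mul_one] at e3
    have hwi : w ^ i = 1 := orderOf_eq_one_iff.1 (Nat.eq_one_of_dvd_coprimes h5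
      (orderOf_dvd_of_pow_eq_one (mul_eq_left.1 e3.symm))
      (orderOf_dvd_of_pow_eq_one (by
        rw [← zpow_natCast, ← zpow_mul, mul_comm, zpow_mul, zpow_natCast,
          show w ^ 5 = 1 from F.wo ▸ pow_orderOf_eq_one w, one_zpow])))
    rw [hwi, mul_one] at e1
    exact mul_inv_eq_iff_eq_mul.1 e1
  exact orderOf_eq_one_iff.1 (Nat.eq_one_of_dvd_coprimes h5
    (orderOf_dvd_of_pow_eq_one hn) (orderOf_dvd_of_pow_eq_one (F.exp g hgP)))

end FivePt

namespace Loc

variable (h : Core z Q) (L : Loc z Q) {X0 : Subgroup G} (c : Comp h L X0)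
include h c

/-- The automiser of `⟨f⟩` has order 2. -/
theorem five_automizer {P : Sylow 5 G} {f w y : G} (F : FivePt z L.t L.s X0 P f w y) {g : G}
    (hg : g * f * g⁻¹ ∈ Subgroup.zpowers f) : g * f * g⁻¹ = f ∨ g * f * g⁻¹ = f⁻¹ := by
  obtain ⟨-, ⟨e⟩, -⟩ := L.main h c
  obtain ⟨x, hx⟩ : ∃ x, x = g * f * g⁻¹ := ⟨_, rfl⟩
  rw [← hx] at hg
  have hgt : g * L.t * g⁻¹ * f = f * (g * L.t * g⁻¹) := by
    obtain ⟨i, hi⟩ := Subgroup.mem_zpowers_iff.1 hg
    have hxo : orderOf x = 5 := by rw [hx, CfsgLib.Small.orderOf_conj_eq, F.fo]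
    have hle : Subgroup.zpowers x = Subgroup.zpowers f :=
      Subgroup.eq_of_le_of_card_ge (Subgroup.zpowers_le.2 hg)
        (by rw [Nat.card_zpowers, Nat.card_zpowers, F.fo, hxo])
    obtain ⟨j, hj⟩ := Subgroup.mem_zpowers_iff.1 (hle ▸ Subgroup.mem_zpowers f)
    have hcx : Commute (g * L.t * g⁻¹) x := by
      rw [hx]
      exact (SemiconjBy.conj_iff (b := g)).2
        (show Commute L.t f from c.vcomm _ (L.t_mem_V h) f F.fX)
    rw [← hj]
    exact (hcx.zpow_right j).eq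
  obtain ⟨d, hdf, hdt⟩ := F.centf.invol _ hgt (by rw [CfsgLib.Small.orderOf_conj_eq, L.t_ord h])
  obtain ⟨v, hv, hvg⟩ := c.decomp (d * g) (by
    calc d * g * L.t = d * (g * L.t * g⁻¹) * d⁻¹ * (d * g) := by group
      _ = L.t * (d * g) := by rw [hdt])
  -- reduce to an element of `X0`
  have e1 : v⁻¹ * (d * g) * f * (v⁻¹ * (d * g))⁻¹ = x := by
    have hdx : d * x * d⁻¹ = x := by
      obtain ⟨i, hi⟩ := Subgroup.mem_zpowers_iff.1 hg
      rw [← hi, ((show Commute d f from hdf).zpow_right i).eq, mul_inv_cancel_right]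
    have hvx : v⁻¹ * x * v = x := by
      have hxX : x ∈ X0 := by
        obtain ⟨i, hi⟩ := Subgroup.mem_zpowers_iff.1 hg
        exact hi ▸ X0.zpow_mem F.fX i
      rw [mul_assoc, ← c.vcomm v hv x hxX, inv_mul_cancel_left]
    calc v⁻¹ * (d * g) * f * (v⁻¹ * (d * g))⁻¹ = v⁻¹ * (d * (g * f * g⁻¹) * d⁻¹) * v := by group
      _ = x := by rw [← hx, hdx, hvx]
  have hf1 : e ⟨f, F.fX⟩ ≠ 1 := fun e' => by
    have := F.fo
    rw [show f = 1 from congrArg Subtype.val (e.map_eq_one_iff.1 e'), orderOf_one] at this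
    norm_num at this
  have hf5 : f ^ 5 = 1 := F.fo ▸ pow_orderOf_eq_one f
  obtain ⟨i, hi⟩ := Subgroup.mem_zpowers_iff.1 hg
  obtain ⟨k, hk⟩ : ∃ k : Fin 5, x = f ^ (k : ℕ) := by
    refine ⟨⟨(i % 5).toNat, by omega⟩, ?_⟩
    rw [← hi, ← zpow_natCast]
    simp only [Int.toNat_of_nonneg (Int.emod_nonneg i (by norm_num : (5 : ℤ) ≠ 0))]
    conv_lhs => rw [← Int.emod_add_mul_ediv i 5]
    rw [zpow_add, zpow_mul, show f ^ (5 : ℤ) = 1 from by exact_mod_cast hf5, one_zpow, mul_one]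
  have h2 : e ⟨_, hvg⟩ * e ⟨f, F.fX⟩ * (e ⟨_, hvg⟩)⁻¹ = e ⟨f, F.fX⟩ ^ (k : ℕ) := by
    rw [← map_inv, ← map_mul, ← map_mul, ← map_pow]
    exact congrArg e (Subtype.ext (e1.trans hk))
  rcases Alt.five_pow _ _ hf1 (by
    rw [← pow_five_iff, ← map_pow, e.map_eq_one_iff]; exact Subtype.ext hf5) k h2 with rfl | rfl
  · exact Or.inl (by rw [← hx, hk]; exact pow_one f)
  · refine Or.inr ?_
    rw [← hx, hk, eq_inv_iff_mul_eq_one]
    exact (pow_succ f 4).symm.trans hf5

end Loc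

end CfsgLib.HallJanko
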