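import Cfsg.Agent.HallJanko.Three

/-!
# The classes of elements of order 3
-/

set_option autoImplicit false
set_option linter.style.haveILetI false

namespace CfsgLib.HallJanko

variable {G : Type*} [Group G] [Finite G] {z : G} {Q : Subgroup G}

namespace Loc

variable (h : Core z Q) (L : Loc z Q) {X0 : Subgroup G} (c : Comp h L X0)
include h c

/-- An element of `C(s)` of order 3 permuting a four-group `{1, z, w, zw}` transitively. -/
theorem four_case {d : G} (hds : d * L.s = L.s * d) (hdz : d * z * d⁻¹ * z = z * (d * z * d⁻¹))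
    (hne : d * z * d⁻¹ ≠ z) (hd : d * (d * z * d⁻¹) * d⁻¹ = z * (d * z * d⁻¹)) :
    IsConj d L.r := by
  obtain ⟨w, hw⟩ : ∃ w, w = d * z * d⁻¹ := ⟨_, rfl⟩
  rw [← hw] at hdz hne hd
  have hwz : IsConj z w := isConj_iff.2 ⟨d, hw.symm⟩
  have hww := CfsgLib.Small.mul_self_of_orderOf_two (h.orderOf_two hwz)
  have hwQ : w ∈ Q := h.mem_of_isConj hdz hwz
  have hw1 : w ≠ 1 := CfsgLib.Small.ne_one_of_orderOf_two (h.orderOf_two hwz)
  have hds' : Commute d L.s := hds
  have hzs : Commute z L.s := L.hs.symm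
  have hws : w * L.s = L.s * w := by
    rw [hw]
    exact ((hds'.mul_left hzs).mul_left hds'.inv_left).eq
  obtain ⟨j, hjf, hjs, hlist⟩ := L.exists_j h
  obtain ⟨i, hi, his, hij⟩ : ∃ i, Eqz z w (L.F.a i) ∧ L.s * L.F.a i = L.F.a i * L.s ∧
      (i = L.f ∨ i = j) := by
    rcases hlist w hwQ hws with e | e | e | e
    · rcases e with e | e
      · exact absurd e hw1
      · exact absurd (e.trans (one_mul z)) hne
    · exact ⟨L.f, e, L.hsu, Or.inl rfl⟩
    · exact ⟨j, e, hjs, Or.inr rfl⟩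
    · exfalso
      have := h.eqz_sq (Q.mul_mem (L.F.mem L.f) (L.F.mem j)) e
      rw [hww, L.F.sq4 h _ _ hjf.symm] at this
      exact h.z_ne_one this.symm
  obtain ⟨L', hF, hf, hs⟩ := L.F.exists_loc h i L.hs L.hs3 his
  obtain ⟨X0', c'⟩ := L'.exists_comp h
  obtain ⟨a, ha⟩ : ∃ a, a = L.F.a i := ⟨_, rfl⟩
  rw [← ha] at hi his
  have hrz : L'.r * z * L'.r⁻¹ = a := by rw [L'.hrz, hF, hf, ha]
  have hru : L'.r * a * L'.r⁻¹ = a * z := by have := L'.hru; rwa [hF, hf, ← ha] at this
  have haa : a * a = 1 := ha ▸ L.F.sq i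
  have haz : a * z = z * a := ha ▸ h.hQC _ (L.F.mem i)
  -- an element of order 3 acting on the four-group as `d` does
  obtain ⟨m, hm, hms, hmz, hmw, hmt, hm'⟩ : ∃ m : G, orderOf m = 3 ∧ m * L.s = L.s * m ∧
      m * z * m⁻¹ = w ∧ m * w * m⁻¹ = z * w ∧ m * L'.t = L'.t * m ∧
      (m = L'.r ∨ m = L'.r⁻¹) := by
    have hrs : Commute L'.r L.s := hs ▸ L'.hrs
    have hrt : Commute L'.r L'.t := L'.hrt
    rcases hi with e | e
    · exact ⟨L'.r, L'.hr3, hrs.eq, hrz.trans e.symm, by rw [e, hru, haz], hrt.eq, Or.inl rfl⟩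
    · have hrr : L'.r⁻¹ = L'.r * L'.r :=
        (eq_inv_of_mul_eq_one_left L'.r_cube).symm
      refine ⟨L'.r⁻¹, by rw [orderOf_inv, L'.hr3], hrs.inv_left.eq, ?_, ?_, hrt.inv_left.eq,
        Or.inr rfl⟩
      · calc L'.r⁻¹ * z * L'.r⁻¹⁻¹ = L'.r * (L'.r * z * L'.r⁻¹) * L'.r⁻¹ := by
              conv_lhs => rw [hrr]
              group
          _ = w := by rw [hrz, hru, e]
      · have e1 : L'.r * (a * z) * L'.r⁻¹ = z := by
          calc L'.r * (a * z) * L'.r⁻¹ = (L'.r * a * L'.r⁻¹) * (L'.r * z * L'.r⁻¹) := by group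
            _ = a * z * a := by rw [hru, hrz]
            _ = z := by rw [haz, mul_assoc, haa, mul_one]
        calc L'.r⁻¹ * w * L'.r⁻¹⁻¹ = L'.r * (L'.r * w * L'.r⁻¹) * L'.r⁻¹ := by
              conv_lhs => rw [hrr]
              group
          _ = a := by rw [e, e1, hrz]
          _ = z * w := by rw [e, haz, ← mul_assoc, h.zz, one_mul]
  -- the difference centralises the four-group
  obtain ⟨k, q, hq, hqs, hkq⟩ := L.cent_zs h (g := m⁻¹ * d)
    (by
      calc m⁻¹ * d * z = m⁻¹ * (d * z * d⁻¹) * d := by group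
        _ = m⁻¹ * (m * z * m⁻¹) * d := by rw [← hw, hmz]
        _ = z * (m⁻¹ * d) := by group)
    ((show Commute m L.s from hms).inv_left.mul_left hds').eq
  obtain ⟨p, hp⟩ : ∃ p, p = L.s ^ k := ⟨_, rfl⟩
  rw [← hp] at hkq
  have hde : d = m * p * q := by rw [mul_assoc, ← hkq, mul_inv_cancel_left]
  have hpw : Commute p w := hp ▸ (show Commute L.s w from hws.symm).pow_left k
  have hpz : Commute p z := hp ▸ (show Commute L.s z from L.hs).pow_left k
  have hqw : q * w = w * q := by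
    have e1 : m⁻¹ * d * w = w * (m⁻¹ * d) := by
      calc m⁻¹ * d * w = m⁻¹ * (d * w * d⁻¹) * d := by group
        _ = m⁻¹ * (m * w * m⁻¹) * d := by rw [hd, hmw]
        _ = w * (m⁻¹ * d) := by group
    rw [hkq, mul_assoc, ← mul_assoc w, ← hpw.eq, mul_assoc p w] at e1
    exact mul_left_cancel e1
  -- so it lies in the four-group
  have hq4 : q = 1 ∨ q = z ∨ q = w ∨ q = z * w := by
    have hqa : q * L.F.a i = L.F.a i * q := (h.eqz_comm hq (ha ▸ hi)).1 hqw
    have hfin : Eqz z q 1 ∨ Eqz z q (L.F.a i) := by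
      have hfj : L.f ≠ j := hjf.symm
      have hnz : ∀ x y : G, x = y * z → y = x → False := fun x y e e' => h.z_ne_one (by
        rw [e'] at e; exact mul_eq_left.1 e.symm)
      rcases hlist q hq hqs with e | e | e | e
      · exact Or.inl e
      · rcases hij with rfl | rfl
        · exact Or.inr e
        · exfalso
          have e2 := (h.eqz_comm (L.F.mem _) e).1 hqa.symm
          exact hnz _ _ (L.F.nc _ _ hjf) e2.symm
      · rcases hij with rfl | rfl
        · exfalso
          have e2 := (h.eqz_comm (L.F.mem _) e).1 hqa.symm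
          exact hnz _ _ (L.F.nc _ _ hfj) e2.symm
        · exact Or.inr e
      · exfalso
        have e2 := (h.eqz_comm (L.F.mem _) e).1 hqa.symm
        rcases hij with rfl | rfl
        · exact L.F.ncm h _ _ hfj e2
        · have e3 : L.F.a L.f * L.F.a i = L.F.a i * L.F.a L.f := by
            calc L.F.a L.f * L.F.a i = L.F.a i * (L.F.a i * (L.F.a L.f * L.F.a i)) := by
                  rw [← mul_assoc (L.F.a i), L.F.sq i, one_mul]
              _ = L.F.a i * L.F.a L.f := by
                  rw [e2, mul_assoc (L.F.a L.f), L.F.sq i, mul_one]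
          exact hnz _ _ (L.F.nc _ _ hfj) e3.symm
    rcases hfin with (e | e) | e
    · exact Or.inl e
    · exact Or.inr (Or.inl (e.trans (one_mul z)))
    · rw [← ha] at e
      rcases hi with e' | e' <;> rcases e with e | e
      · exact Or.inr (Or.inr (Or.inl (e.trans e'.symm)))
      · exact Or.inr (Or.inr (Or.inr (by rw [e, e', haz])))
      · exact Or.inr (Or.inr (Or.inr (by rw [e, e', haz, ← mul_assoc, h.zz, one_mul])))
      · exact Or.inr (Or.inr (Or.inl (e.trans e'.symm)))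
  -- remove it by a conjugation
  have hconj : IsConj (m * p) d := by
    have hmpz : m * p * z * (m * p)⁻¹ = w := by
      calc m * p * z * (m * p)⁻¹ = m * (p * z * p⁻¹) * m⁻¹ := by group
        _ = w := by rw [hpz.eq, mul_inv_cancel_right, hmz]
    have hmpw : m * p * w * (m * p)⁻¹ = z * w := by
      calc m * p * w * (m * p)⁻¹ = m * (p * w * p⁻¹) * m⁻¹ := by group
        _ = z * w := by rw [hpw.eq, mul_inv_cancel_right, hmw]
    rw [hde]
    obtain ⟨n, hn⟩ : ∃ n, n = m * p := ⟨_, rfl⟩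
    rw [← hn] at hmpz hmpw ⊢
    have hwzc : w * z = z * w := hdz
    rcases hq4 with e | e | e | e <;> rw [e]
    · rw [mul_one]
    · refine isConj_iff.2 ⟨z * w, ?_⟩
      -- `n⁻¹ (zw) n (zw) = z`
      have e1 : n⁻¹ * (z * w) * n = w := by rw [← hmpw]; group
      rw [mul_inv_rev, inv_eq_of_mul_eq_one_left hww, inv_eq_of_mul_eq_one_left h.zz]
      calc z * w * n * (w * z) = n * (n⁻¹ * (z * w) * n * (w * z)) := by group
        _ = n * z := by rw [e1, ← mul_assoc w w z, hww, one_mul]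
    · refine isConj_iff.2 ⟨z, ?_⟩
      have e1 : n⁻¹ * z * n = z * w := by
        have e2 : n * (z * w) * n⁻¹ = z := by
          calc n * (z * w) * n⁻¹ = (n * z * n⁻¹) * (n * w * n⁻¹) := by group
            _ = w * (z * w) := by rw [hmpz, hmpw]
            _ = z := by rw [← mul_assoc, hwzc, mul_assoc, hww, mul_one]
        calc n⁻¹ * z * n = n⁻¹ * (n * (z * w) * n⁻¹) * n := by rw [e2]
          _ = z * w := by group
      rw [inv_eq_of_mul_eq_one_left h.zz]
      calc z * n * z = n * (n⁻¹ * z * n * z) := by group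
        _ = n * w := by rw [e1, ← hwzc, mul_assoc w z z, h.zz, mul_one]
    · refine isConj_iff.2 ⟨w, ?_⟩
      have e1 : n⁻¹ * w * n = z := by rw [← hmpz]; group
      rw [inv_eq_of_mul_eq_one_left hww]
      calc w * n * w = n * (n⁻¹ * w * n * w) := by group
        _ = n * (z * w) := by rw [e1]
  refine hconj.symm.trans ?_
  have hr' := L'.r_class h c' (k : ℤ)
  rw [hs, zpow_natCast, ← hp] at hr'
  have hmp : IsConj (m * p) L'.r := by
    rcases hm' with rfl | rfl
    exacts [hr'.1, hr'.2]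
  refine hmp.trans ?_
  -- the two copies of `r` are conjugate
  obtain ⟨g, hg⟩ := isConj_iff.1 (h.outside_conj L'.ht L'.ht2 L'.htQ L.ht L.ht2 L.htQ)
  refine (isConj_iff.2 ⟨g, rfl⟩ : IsConj L'.r (g * L'.r * g⁻¹)).trans
    (L.three_in_cent_t h c (by rw [CfsgLib.Small.orderOf_conj_eq, L'.hr3]) ?_)
  rw [← hg]
  exact ((SemiconjBy.conj_iff (b := g)).2 (show Commute L'.r L'.t from L'.hrt) : _)

/-- The two classes of elements of order 3. -/
theorem three_classes {x : G} (hx : orderOf x = 3) : IsConj x L.s ∨ IsConj x L.r := by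
  classical
  haveI : Fact (Nat.Prime 3) := ⟨Nat.prime_three⟩
  obtain ⟨hG, -, hsig⟩ := L.main h c
  obtain ⟨R, -, -, hcs, -, -, -⟩ := L.exists_sylow_three h c
  obtain ⟨S, hS⟩ := (IsPGroup.of_card (p := 3) (n := 1)
    (show Nat.card (Subgroup.zpowers x) = 3 ^ 1 by
      rw [Nat.card_zpowers, hx, pow_one])).exists_le_sylow
  obtain ⟨a, ha⟩ := MulAction.exists_smul_eq G S R
  obtain ⟨d, hd⟩ : ∃ d, d = a * x * a⁻¹ := ⟨_, rfl⟩
  have hxd : IsConj x d := isConj_iff.2 ⟨a, hd.symm⟩
  have hdR : d ∈ (R : Subgroup G) := by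
    rw [hd, ← ha, Sylow.coe_subgroup_smul]
    exact ⟨x, hS (Subgroup.mem_zpowers x), rfl⟩
  have hdo : orderOf d = 3 := by rw [hd, CfsgLib.Small.orderOf_conj_eq, hx]
  suffices IsConj d L.s ∨ IsConj d L.r from this.imp hxd.trans hxd.trans
  have hd3 : d * d * d = 1 := by
    have := pow_orderOf_eq_one d
    rwa [hdo, pow_succ, pow_two] at this
  obtain ⟨φ, hφ, hφk⟩ := hsig.hom
  let K := Subgroup.centralizer ({L.s} : Set G)
  have hKm : ∀ {g : G}, g ∈ K ↔ g * L.s = L.s * g := Subgroup.mem_centralizer_singleton_iff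
  let d' : K := ⟨d, hKm.2 (hcs d hdR)⟩
  by_cases hd1 : φ d' = 1
  · refine Or.inl ?_
    obtain ⟨i, hi⟩ := Subgroup.mem_zpowers_iff.1 ((hφk d').1 hd1)
    have hi' : L.s ^ i = d := hi
    rcases zpow_three_cases L.s_cube i with e | e | e <;> rw [e] at hi' <;> subst hi'
    · rw [orderOf_one] at hdo; norm_num at hdo
    · exact IsConj.refl _
    · exact (isConj_iff.2 (L.s_real h c)).symm
  refine Or.inr ?_
  have hc3 : φ d' * φ d' * φ d' = 1 := by
    rw [← map_mul, ← map_mul, ← map_one φ]; exact congrArg φ (Subtype.ext hd3)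
  obtain ⟨y, hy1, hy2, hy3, hy4, hy5⟩ := Alt.six_four _ hd1 hc3
  have hs3 : ∀ u : K, φ u = 1 → (u : G) * u * u = 1 := by
    intro u hu
    obtain ⟨i, hi⟩ := Subgroup.mem_zpowers_iff.1 ((hφk u).1 hu)
    rcases zpow_three_cases L.s_cube i with e | e | e <;> rw [← hi, e]
    · simp
    · exact L.s_cube
    · rw [← mul_inv_rev, ← mul_inv_rev, ← mul_assoc, L.s_cube, inv_one]
  -- involutions with the same image are equal
  have huniq : ∀ u v : K, (u : G) * u = 1 → (v : G) * v = 1 → φ u = φ v → (u : G) = v := by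
    intro u v hu hv e
    have e1 : φ (u⁻¹ * v) = 1 := by rw [map_mul, map_inv, e, inv_mul_cancel]
    obtain ⟨i, hi⟩ := Subgroup.mem_zpowers_iff.1 ((hφk _).1 e1)
    have hcu : Commute (u : G) (L.s ^ i) := (show Commute (u : G) L.s from hKm.1 u.2).zpow_right i
    have hve : (v : G) = u * L.s ^ i := by rw [hi]; simp
    rw [hve, hcu.symm.mul_mul_mul_comm, hu, one_mul] at hv
    rw [hve, L.s_pow_eq_one h hv, mul_one]
  obtain ⟨Y0, hY0⟩ := hφ y
  obtain ⟨Y, hY⟩ : ∃ Y, Y = Y0 * Y0 * Y0 := ⟨_, rfl⟩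
  have hφY : φ Y = y := by rw [hY, map_mul, map_mul, hY0, hy2, one_mul]
  have hYY : (Y : G) * Y = 1 := by
    have := hs3 (Y0 * Y0) (by rw [map_mul, hY0, hy2])
    rw [hY]
    simp only [Subgroup.coe_mul, mul_assoc] at this ⊢
    exact this
  have hYo : orderOf (Y : G) = 2 := CfsgLib.Small.orderOf_eq_two_iff_sq.2
    ⟨fun e => hy1 (by rw [← hφY, show Y = 1 from Subtype.ext e, map_one]), hYY⟩
  obtain ⟨Y2, hY2⟩ : ∃ Y2, Y2 = d' * Y * d'⁻¹ := ⟨_, rfl⟩
  have hφY2 : φ Y2 = φ d' * y * (φ d')⁻¹ := by rw [hY2, map_mul, map_mul, map_inv, hφY]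
  have hY2Y2 : (Y2 : G) * Y2 = 1 := by
    rw [hY2]
    simp only [Subgroup.coe_mul, Subgroup.coe_inv]
    rw [show (d' : G) * Y * (d' : G)⁻¹ * ((d' : G) * Y * (d' : G)⁻¹) =
      (d' : G) * ((Y : G) * Y) * (d' : G)⁻¹ by group, hYY, mul_one, mul_inv_cancel]
  have hcomm : (Y2 : G) * Y = Y * Y2 := by
    have e1 := huniq (Y2 * Y * Y2⁻¹) Y (by
      simp only [Subgroup.coe_mul, Subgroup.coe_inv]
      rw [show (Y2 : G) * Y * (Y2 : G)⁻¹ * ((Y2 : G) * Y * (Y2 : G)⁻¹) =
        (Y2 : G) * ((Y : G) * Y) * (Y2 : G)⁻¹ by group, hYY, mul_one, mul_inv_cancel]) hYY (by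
      rw [map_mul, map_mul, map_inv, hφY2, hφY, ← hy5, mul_inv_cancel_right])
    exact mul_inv_eq_iff_eq_mul.1 e1
  have hcyc : (d : G) * Y2 * d⁻¹ = Y * Y2 := by
    refine huniq (d' * Y2 * d'⁻¹) (Y * Y2) ?_ ?_ ?_
    · simp only [Subgroup.coe_mul, Subgroup.coe_inv]
      rw [show (d' : G) * Y2 * (d' : G)⁻¹ * ((d' : G) * Y2 * (d' : G)⁻¹) =
        (d' : G) * ((Y2 : G) * Y2) * (d' : G)⁻¹ by group, hY2Y2, mul_one, mul_inv_cancel]
    · simp only [Subgroup.coe_mul]
      rw [(show Commute (Y2 : G) Y from hcomm).mul_mul_mul_comm, hYY, hY2Y2, one_mul]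
    · rw [map_mul, map_mul, map_mul, map_inv, hφY, hφY2, hy3]
  -- move the four-group onto `z`
  obtain ⟨g, hgs, hgY⟩ := hsig.invol _ (hKm.1 Y.2) hYo
  have hY2' : (Y2 : G) = d * Y * d⁻¹ := by rw [hY2]; rfl
  refine (isConj_iff.2 ⟨g, rfl⟩ : IsConj d (g * d * g⁻¹)).trans (L.four_case h c ?_ ?_ ?_ ?_)
  · exact (((show Commute g L.s from hgs).mul_left (hcs d hdR)).mul_left
      (show Commute g L.s from hgs).inv_left).eq
  all_goals
    have hz2 : g * d * g⁻¹ * z * (g * d * g⁻¹)⁻¹ = g * Y2 * g⁻¹ := by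
      rw [← hgY, hY2']; group
    rw [hz2]
  · rw [← hgY]
    exact ((SemiconjBy.conj_iff (b := g)).2 (show Commute (Y2 : G) Y from hcomm) : _)
  · intro e
    rw [← hgY] at e
    exact hy4 (by
      have e' : (Y2 : G) = Y := mul_left_cancel (mul_right_cancel e)
      rw [← hφY2, ← hφY, show Y2 = Y from Subtype.ext e'])
  · rw [← hgY]
    calc g * d * g⁻¹ * (g * Y2 * g⁻¹) * (g * d * g⁻¹)⁻¹ = g * (d * Y2 * d⁻¹) * g⁻¹ := by group
      _ = g * Y * g⁻¹ * (g * Y2 * g⁻¹) := by rw [hcyc]; group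

/-- All statements about the prime 3 used later. -/
theorem three_main :
    (∀ P : Sylow 3 G, Cfsg.IsExtraspecial 3 (P : Subgroup G) ∧ Nat.card P = 27 ∧
      Nat.card (Subgroup.normalizer ((P : Subgroup G) : Set G)) = 216 ∧
      ∃ a b : G, orderOf a = 3 ∧ orderOf b = 3 ∧ ¬ IsConj a b ∧
        ∀ c : G, orderOf c = 3 → IsConj c a ∨ IsConj c b) ∧
    (∀ g : G, orderOf g = 3 →
      Nat.card (Subgroup.centralizer ({g} : Set G)) = 1080 ∨
      Nat.card (Subgroup.centralizer ({g} : Set G)) = 36) := by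
  classical
  haveI := Fintype.ofFinite G
  haveI : Fact (Nat.Prime 3) := ⟨Nat.prime_three⟩
  obtain ⟨hG, -, hsig⟩ := L.main h c
  refine ⟨?_, fun g hg => ?_⟩
  swap
  · have key : ∀ x : G, IsConj g x → Nat.card (Subgroup.centralizer ({g} : Set G)) =
        Nat.card (Subgroup.centralizer ({x} : Set G)) := by
      intro x hx
      obtain ⟨a, rfl⟩ := isConj_iff.1 hx
      refine Nat.card_congr ((MulAut.conj a).toEquiv.subtypeEquiv fun y => ?_)
      rw [Subgroup.mem_centralizer_singleton_iff, Subgroup.mem_centralizer_singleton_iff]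
      show y * g = g * y ↔ a * y * a⁻¹ * (a * g * a⁻¹) = a * g * a⁻¹ * (a * y * a⁻¹)
      exact (SemiconjBy.conj_iff (b := a)).symm
    rcases L.three_classes h c hg with e | e
    · exact Or.inl ((key _ e).trans hsig.card)
    · exact Or.inr ((key _ e).trans (L.card_cent_r h c).1)
  obtain ⟨R, hrR, hsR, hcs, hna, hcen, hcomm⟩ := L.exists_sylow_three h c
  -- the normaliser of `R`
  obtain ⟨φ, hφ, hφk⟩ := hsig.hom
  let K := Subgroup.centralizer ({L.s} : Set G)
  have hKm : ∀ {g : G}, g ∈ K ↔ g * L.s = L.s * g := Subgroup.mem_centralizer_singleton_iff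
  have hRK : (R : Subgroup G) ≤ K := fun x hx => hKm.2 (hcs x hx)
  let R0 : Sylow 3 K := R.subtype hRK
  set N := Subgroup.normalizer ((R : Subgroup G) : Set G) with hN
  have h108 : Nat.card {g : N // (g : G) * L.s = L.s * g} = 108 := by
    haveI : IsSimpleGroup (alternatingGroup (Fin 6)) := alternatingGroup.isSimpleGroup (by simp)
    have hA : Nat.card (alternatingGroup (Fin 6)) = 360 := by
      rw [nat_card_alternatingGroup, Nat.card_fin]; rfl
    have hn3 := CfsgLib.Classification.SimpleThreeSixty.card_sylow_three hA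
    have hle : φ.ker ≤ (R0 : Subgroup K) := by
      intro u hu
      obtain ⟨i, hi⟩ := Subgroup.mem_zpowers_iff.1 ((hφk u).1 hu)
      show (u : G) ∈ (R : Subgroup G)
      rw [← hi]
      exact (R : Subgroup G).zpow_mem hsR i
    have hcomap : (R0 : Subgroup K) = ((R0 : Subgroup K).map φ).comap φ := by
      rw [Subgroup.comap_map_eq, sup_eq_left.2 hle]
    have hidx : (Subgroup.normalizer ((R0 : Subgroup K) : Set K)).index = 10 := by
      rw [hcomap, ← Subgroup.comap_normalizer_eq_of_surjective _ hφ,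
        Subgroup.index_comap_of_surjective _ hφ, ← hn3]
      exact (Sylow.card_eq_index_normalizer (R0.mapSurjective hφ)).symm
    have h108 := Subgroup.card_mul_index (Subgroup.normalizer ((R0 : Subgroup K) : Set K))
    rw [hidx, hsig.card] at h108
    have hN0 : Nat.card (Subgroup.normalizer ((R0 : Subgroup K) : Set K)) = 108 := by omega
    rw [← hN0]
    refine Nat.card_congr
      { toFun := fun g => ⟨⟨g.1, hKm.2 g.2⟩, Subgroup.mem_normalizer_iff.2 fun x =>
          Subgroup.mem_normalizer_iff.1 g.1.2 (x : G)⟩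
        invFun := fun g => ⟨⟨(g.1 : G), Subgroup.mem_normalizer_iff.2 fun x => ?_⟩, hKm.1 g.1.2⟩
        left_inv := fun _ => rfl
        right_inv := fun _ => rfl }
    constructor
    · intro hx
      exact (Subgroup.mem_normalizer_iff.1 g.2 ⟨x, hRK hx⟩).1 hx
    · intro hx
      have hxK : x ∈ K := by
        rw [show x = (g.1 : G)⁻¹ * ((g.1 : G) * x * (g.1 : G)⁻¹) * g.1 by group]
        exact K.mul_mem (K.mul_mem (K.inv_mem g.1.2) (hRK hx)) g.1.2
      exact (Subgroup.mem_normalizer_iff.1 g.2 ⟨x, hxK⟩).2 hx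
  have hcases : ∀ g ∈ N, g * L.s * g⁻¹ = L.s ∨ g * L.s * g⁻¹ = L.s⁻¹ := by
    intro g hg
    have hm : g * L.s * g⁻¹ ∈ (R : Subgroup G) :=
      (Subgroup.mem_normalizer_iff.1 hg L.s).1 hsR
    have hcen' : ∀ y ∈ (R : Subgroup G), g * L.s * g⁻¹ * y = y * (g * L.s * g⁻¹) := by
      intro y hy
      have hy' : g⁻¹ * y * g ∈ (R : Subgroup G) := by
        rw [Subgroup.mem_normalizer_iff.1 hg (g⁻¹ * y * g),
          show g * (g⁻¹ * y * g) * g⁻¹ = y by group]
        exact hy
      calc g * L.s * g⁻¹ * y = g * (L.s * (g⁻¹ * y * g)) * g⁻¹ := by group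
        _ = y * (g * L.s * g⁻¹) := by rw [← hcs _ hy']; group
    obtain ⟨i, hi⟩ := Subgroup.mem_zpowers_iff.1 (hcen _ hm hcen')
    rcases zpow_three_cases L.s_cube i with e | e | e <;> rw [e] at hi
    · exfalso
      have h3 := L.hs3
      rw [← CfsgLib.Small.orderOf_conj_eq g L.s, ← hi, orderOf_one] at h3
      norm_num at h3
    · exact Or.inl hi.symm
    · exact Or.inr hi.symm
  obtain ⟨j, hjN, hjs⟩ : ∃ j ∈ N, j * L.s * j⁻¹ = L.s⁻¹ := by
    obtain ⟨g, hg⟩ := L.s_real h c
    have hgK : ((g • R : Sylow 3 G) : Subgroup G) ≤ K := by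
      rw [Sylow.coe_subgroup_smul]
      rintro _ ⟨x, hx, rfl⟩
      refine hKm.2 ?_
      show g * x * g⁻¹ * L.s = L.s * (g * x * g⁻¹)
      rw [show L.s = (g * L.s * g⁻¹)⁻¹ by rw [hg, inv_inv], conj_inv]
      exact ((SemiconjBy.conj_iff (b := g)).2 (show Commute x L.s⁻¹ from
        (show Commute x L.s from hcs x hx).inv_right) : _)
    obtain ⟨k, hk⟩ := MulAction.exists_smul_eq K ((g • R).subtype hgK) R0
    have hkR : ((k : G) * g) • R = R := by
      rw [mul_smul]
      refine Sylow.ext (le_antisymm ?_ ?_)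
      · rw [Sylow.coe_subgroup_smul]
        rintro _ ⟨x, hx, rfl⟩
        have : k * ⟨x, hgK hx⟩ * k⁻¹ ∈ (R0 : Subgroup K) := by
          rw [← hk, Sylow.coe_subgroup_smul]
          exact ⟨⟨x, hgK hx⟩, hx, rfl⟩
        exact this
      · intro x hx
        have : (⟨x, hRK hx⟩ : K) ∈ ((k • (g • R).subtype hgK : Sylow 3 K) : Subgroup K) := by
          rw [hk]; exact hx
        rw [Sylow.coe_subgroup_smul] at this
        obtain ⟨u, hu, e⟩ := this
        rw [Sylow.coe_subgroup_smul]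
        exact ⟨u, hu, congrArg Subtype.val e⟩
    refine ⟨(k : G) * g, Sylow.smul_eq_iff_mem_normalizer.1 hkR, ?_⟩
    calc (k : G) * g * L.s * ((k : G) * g)⁻¹ = (k : G) * (g * L.s * g⁻¹) * (k : G)⁻¹ := by group
      _ = L.s⁻¹ := by rw [hg, ((show Commute (k : G) L.s from hKm.1 k.2).inv_right).eq,
        mul_inv_cancel_right]
  have hss : L.s ≠ L.s⁻¹ := fun e => by
    have h3 := L.hs3
    rw [L.s_pow_eq_one h (i := 1) (by rw [zpow_one]; nth_rewrite 2 [e]; exact mul_inv_cancel _)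
      |> fun e' => (zpow_one L.s).symm.trans e', orderOf_one] at h3
    norm_num at h3
  have h216 : Nat.card N = 216 := by
    let F' : {g : N // (g : G) * L.s = L.s * g} × Bool → N :=
      fun p => p.1.1 * cond p.2 ⟨j, hjN⟩ 1
    have hF : Function.Bijective F' := by
      constructor
      · rintro ⟨⟨a, ha⟩, u⟩ ⟨⟨a', ha'⟩, u'⟩ e
        have e' : (a : G) * cond u j 1 = (a' : G) * cond u' j 1 := by
          have := congrArg (fun x : N => (x : G)) e
          cases u <;> cases u' <;> exact this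
        have key : ∀ a a' : G, a * L.s = L.s * a → a' * L.s = L.s * a' → a * j = a' → False := by
          intro a a' ha ha' e
          refine hss ?_
          have hj : j * L.s = L.s * j := by
            rw [show j = a⁻¹ * a' by rw [← e, inv_mul_cancel_left]]
            exact ((show Commute a L.s from ha).inv_left.mul_left ha').eq
          rw [← hjs, hj, mul_inv_cancel_right]
        cases u <;> cases u' <;> simp only [cond_true, cond_false, mul_one] at e'
        · exact Prod.ext (Subtype.ext (Subtype.ext e')) rfl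
        · exact (key _ _ ha' ha e'.symm).elim
        · exact (key _ _ ha ha' e').elim
        · exact Prod.ext (Subtype.ext (Subtype.ext (mul_right_cancel e'))) rfl
      · rintro ⟨g, hg⟩
        rcases hcases g hg with e | e
        · exact ⟨(⟨⟨g, hg⟩, mul_inv_eq_iff_eq_mul.1 e⟩, false), Subtype.ext (mul_one g)⟩
        · refine ⟨(⟨⟨g, hg⟩ * (⟨j, hjN⟩ : N)⁻¹, ?_⟩, true),
            Subtype.ext (inv_mul_cancel_right g j)⟩
          show g * j⁻¹ * L.s = L.s * (g * j⁻¹)
          refine mul_inv_eq_iff_eq_mul.1 ?_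
          have hj' : j⁻¹ * L.s * j = L.s⁻¹ := by
            calc j⁻¹ * L.s * j = j⁻¹ * (j * L.s * j⁻¹)⁻¹ * j := by rw [hjs, inv_inv]
              _ = L.s⁻¹ := by group
          calc g * j⁻¹ * L.s * (g * j⁻¹)⁻¹ = g * (j⁻¹ * L.s * j) * g⁻¹ := by group
            _ = (g * L.s * g⁻¹)⁻¹ := by rw [hj', conj_inv]
            _ = L.s := by rw [e, inv_inv]
    rw [← Nat.card_eq_of_bijective F' hF, Nat.card_prod, h108,
      Nat.card_eq_fintype_card (α := Bool), Fintype.card_bool]
  intro P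
  refine ⟨?_, card_sylow_three hG P, ?_, L.s, L.r, L.hs3, L.hr3, L.not_conj_sr h c,
    fun g hg => L.three_classes h c hg⟩
  · have hna' : ¬ IsMulCommutative (P : Subgroup G) := fun hP => hna
      ⟨⟨fun a b => (R.equiv P).injective (by rw [map_mul, map_mul, hP.is_comm.comm])⟩⟩
    obtain ⟨hZ, hC, hFr, -⟩ := CfsgLib.FusionEssential.center_of_card_cube
      (G := (P : Subgroup G)) (p := 3) (by rw [card_sylow_three hG P]; norm_num) hna'
    exact ⟨⟨P.2, hFr, hC⟩, hZ⟩
  · obtain ⟨k, hk⟩ : ∃ k, k = Nat.card (Sylow 3 G) := ⟨_, rfl⟩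
    have e1 := Subgroup.card_mul_index (Subgroup.normalizer ((P : Subgroup G) : Set G))
    have e2 := Subgroup.card_mul_index (Subgroup.normalizer ((R : Subgroup G) : Set G))
    rw [show (Subgroup.normalizer ((P : Subgroup G) : Set G)).index = k from
      (hk.trans (Sylow.card_eq_index_normalizer P)).symm] at e1
    rw [show (Subgroup.normalizer ((R : Subgroup G) : Set G)).index = k from
      (hk.trans (Sylow.card_eq_index_normalizer R)).symm, ← hN, h216] at e2
    exact Nat.eq_of_mul_eq_mul_right (hk ▸ Nat.card_pos) (e1.trans e2.symm)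

end Loc

end CfsgLib.HallJanko
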