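import Cfsg.Agent.HallJanko.Present
import Cfsg.Agent.HallJanko.AltSix
import Cfsg.Agent.HallJanko.ThreeMain

/-!
# Generators satisfying the local relations
-/

set_option autoImplicit false
set_option linter.style.haveILetI false
set_option maxRecDepth 100000

namespace CfsgLib.HallJanko

open CfsgLib.CosetEnum

/-- If `(uzya)⁴ = 1`, the four involutions generate a group of order at most 360. -/
theorem card_le_of_split {G : Type*} [Group G] {u z y a : G} (uu : u * u = 1) (zz : z * z = 1)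
    (yy : y * y = 1) (aa : a * a = 1) (r1 : (u * y) ^ 5 = 1) (r2 : (z * y) ^ 3 = 1)
    (r3 : (u * z * y) ^ 5 = 1) (r4 : (u * z) ^ 2 = 1) (r5 : (z * a) ^ 2 = 1)
    (r6 : u * a * u * a * z = 1) (r7 : (y * a) ^ 3 = 1) (r8 : (u * y * z * a * y) ^ 3 = 1)
    (r9 : (u * z * y * a) ^ 4 = 1) :
    Finite (Subgroup.closure ({u, z, y, a} : Set G)) ∧
      Nat.card (Subgroup.closure ({u, z, y, a} : Set G)) ≤ 360 := by
  obtain ⟨g, hgdef⟩ : ∃ g : ℕ → G, g = fun x => [u, z, y, a].getD x 1 := ⟨_, rfl⟩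
  have g0 : g 0 = u := by rw [hgdef]; rfl
  have g1 : g 1 = z := by rw [hgdef]; rfl
  have g2 : g 2 = y := by rw [hgdef]; rfl
  have g3 : g 3 = a := by rw [hgdef]; rfl
  have hg : ∀ x, x < 4 → g x * g x = 1 := by
    intro x hx
    interval_cases x
    exacts [g0.symm ▸ uu, g1.symm ▸ zz, g2.symm ▸ yy, g3.symm ▸ aa]
  simp only [pow_succ, pow_zero, one_mul, mul_assoc] at r1 r2 r3 r4 r5 r6 r7 r8 r9
  have hA : ∀ r, r < 4 → prodw g (Cert.aWords.getD r []) = 1 := by
    refine forall_lt_words (P := fun w => prodw g w = 1) (words := Cert.aWords) ?_ (by decide)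
    simp only [Cert.aWords, List.take, List.forall_mem_cons, List.not_mem_nil, IsEmpty.forall_iff,
      implies_true, prodw_cons, prodw_nil, g0, g1, g2, mul_one]
    exact ⟨r1, r2, r3, r4, trivial⟩
  have hQ : ∀ r, r < 9 → prodw g (Cert.qWords.getD r []) = 1 := by
    refine forall_lt_words (P := fun w => prodw g w = 1) (words := Cert.qWords) ?_ (by decide)
    simp only [Cert.qWords, List.take, List.forall_mem_cons, List.not_mem_nil, IsEmpty.forall_iff,
      implies_true, prodw_cons, prodw_nil, g0, g1, g2, g3, mul_one]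
    exact ⟨r1, r2, r3, r4, r5, r6, r7, r8, r9, trivial⟩
  obtain ⟨f3, c3⟩ := enum_bound g (⊥ : Subgroup G) (k := 3) (n := 60) Cert.aTb Cert.aParN
    Cert.aParX Cert.aSteps Cert.aWords 4 (by norm_num) (dt := 6) (by norm_num) (by norm_num)
    (fun x hx => hg x (by omega)) (by decide) hA
    (fun r h1 h2 => absurd h2 (not_lt.2 ((by decide : Cert.aWords.length ≤ 4).trans h1)))
    Cert.a_full Cert.a_valid
  haveI := f3
  obtain ⟨f4, c4⟩ := enum_bound g (Subgroup.closure (g '' {x | x < 3})) (k := 4) (n := 6)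
    Cert.qTb Cert.qParN Cert.qParX Cert.qSteps Cert.qWords 9 (by norm_num) (dt := 3) (by norm_num)
    (by norm_num) (fun x hx => hg x (by omega)) (by decide) hQ
    (fun r h1 h2 => by
      have h2' : r < 12 := lt_of_lt_of_le h2 (by decide)
      interval_cases r <;>
        simp only [Cert.qWords, List.getD_cons_succ, List.getD_cons_zero, prodw_cons, prodw_nil,
          mul_one] <;>
        exact Subgroup.subset_closure ⟨_, by norm_num, rfl⟩)
    Cert.q_full Cert.q_valid
  have himg : g '' {x | x < 4} = ({u, z, y, a} : Set G) := by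
    ext x
    simp only [Set.mem_image, Set.mem_insert_iff, Set.mem_singleton_iff]
    constructor
    · rintro ⟨i, hi, rfl⟩
      have hi' : i < 4 := hi
      interval_cases i <;> simp [g0, g1, g2, g3]
    · rintro (rfl | rfl | rfl | rfl)
      exacts [⟨0, (by norm_num : (0 : ℕ) < 4), g0⟩, ⟨1, (by norm_num : (1 : ℕ) < 4), g1⟩,
        ⟨2, (by norm_num : (2 : ℕ) < 4), g2⟩, ⟨3, (by norm_num : (3 : ℕ) < 4), g3⟩]
  rw [himg] at f4 c4
  refine ⟨f4, ?_⟩
  rw [Subgroup.card_bot] at c3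
  omega

/-- Compatibility of `z`, `u`, `y` and `a` up to a multiple of `z`. -/
theorem six_choose {Z U Y A : alternatingGroup (Fin 6)} (hZ1 : Z ≠ 1) (hZ : Z * Z = 1) (hU1 : U ≠ 1)
    (hUZ1 : U ≠ Z) (hU : U * U = 1) (hUZ : U * Z = Z * U) (hY : Y * Y = 1) (h3 : (Z * Y) ^ 3 = 1)
    (h5 : (U * Y) ^ 5 = 1) (h5' : (U * Z * Y) ^ 5 = 1) (hA : A * A = 1) (hAZ : A * Z = Z * A)
    (hUA : U * A * U * A = Z) :
    ((Y * A) ^ 3 = 1 ∧ (U * Y * Z * A * Y) ^ 3 = 1 ∧ (U * Z * Y * A) ^ 4 = 1) ∨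
    ((Y * (A * Z)) ^ 3 = 1 ∧ (U * Y * Z * (A * Z) * Y) ^ 3 = 1 ∧
      (U * Z * Y * (A * Z)) ^ 4 = 1) := by
  obtain ⟨g, hg⟩ := Alt.six_inv_conj Z hZ1 hZ
  obtain ⟨c, hc⟩ : ∃ c : alternatingGroup (Fin 6) →* alternatingGroup (Fin 6),
      c = (MulAut.conj g).toMonoidHom := ⟨_, rfl⟩
  have hinj : Function.Injective c := hc ▸ (MulAut.conj g).injective
  have hcz : c Z = Alt.six_inv := by rw [hc]; exact hg
  have key := Alt.six_ext (c U) (fun e => hUZ1 (hinj (e.trans hcz.symm)))
    (fun e => hU1 (hinj (e.trans (map_one c).symm))) (by rw [← map_mul, hU, map_one])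
    (by rw [← hcz, ← map_mul, ← map_mul, hUZ]) (c Y) (by rw [← map_mul, hY, map_one])
    (by rw [← hcz, ← map_mul, ← map_pow, h3, map_one]) (by rw [← map_mul, ← map_pow, h5, map_one])
    (by rw [← hcz, ← map_mul, ← map_mul, ← map_pow, h5', map_one]) (c A)
    (by rw [← map_mul, hA, map_one]) (by rw [← hcz, ← map_mul, ← map_mul, hAZ])
    (by rw [← hcz, ← map_mul, ← map_mul, ← map_mul, hUA])
  simp only [← hcz, ← map_mul, ← map_pow, map_eq_one_iff c hinj] at key
  exact key

variable {G : Type*} [Group G] [Finite G] {z : G} {Q : Subgroup G}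

namespace Loc

variable (h : Core z Q) (L : Loc z Q) {X0 : Subgroup G} (c : Comp h L X0)
include h c

/-- In a group of Hall–Janko type there are elements satisfying the local relations. -/
theorem exists_gen : ∃ u y a : G, Gen u z y a L.t := by
  classical
  haveI := Fintype.ofFinite G
  haveI : Fact (Nat.Prime 3) := ⟨Nat.prime_three⟩
  obtain ⟨-, ⟨e⟩, hsig⟩ := L.main h c
  obtain ⟨φ, hφ, hφk⟩ := hsig.hom
  let K := Subgroup.centralizer ({L.s} : Set G)
  have hKm : ∀ {g : G}, g ∈ K ↔ g * L.s = L.s * g := Subgroup.mem_centralizer_singleton_iff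
  obtain ⟨u, hu⟩ : ∃ u, u = L.F.a L.f := ⟨_, rfl⟩
  have huX : u ∈ X0 := hu ▸ c.memu
  have hzX := c.memz
  have huu : u * u = 1 := hu ▸ L.F.sq L.f
  have hu1 : u ≠ 1 := hu ▸ L.F.ne_one L.f
  have huz1 : u ≠ z := hu ▸ L.F.ne_z L.f
  have huz : u * z = z * u := hu ▸ h.hQC _ (L.F.mem L.f)
  -- the choice of `y`
  have eInj : ∀ {x : G} (hx : x ∈ X0), e ⟨x, hx⟩ = 1 → x = 1 := fun hx e' =>
    congrArg Subtype.val (e.map_eq_one_iff.1 e')
  obtain ⟨y', hy1', hy', h5a, h3a, h5b⟩ := Alt.exists_y (e ⟨z, hzX⟩)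
    (fun e' => h.z_ne_one (eInj hzX e')) (by rw [← map_mul, e.map_eq_one_iff]; exact Subtype.ext h.zz)
    (e ⟨u, huX⟩) (fun e' => hu1 (eInj huX e'))
    (fun e' => huz1 (congrArg Subtype.val (e.injective e')))
    (by rw [← map_mul, e.map_eq_one_iff]; exact Subtype.ext huu)
    (by rw [← map_mul, ← map_mul]; exact congrArg e (Subtype.ext huz))
  obtain ⟨⟨y, hyX⟩, rfl⟩ := e.surjective y'
  rw [← map_mul, ← map_pow, e.map_eq_one_iff] at h5a h3a
  rw [← map_mul, ← map_mul, ← map_pow, e.map_eq_one_iff] at h5b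
  rw [← map_mul, e.map_eq_one_iff] at hy'
  have hyy : y * y = 1 := congrArg Subtype.val hy'
  have huy : (u * y) ^ 5 = 1 := congrArg Subtype.val h5a
  have hzy : (z * y) ^ 3 = 1 := congrArg Subtype.val h3a
  have huzy : (u * z * y) ^ 5 = 1 := congrArg Subtype.val h5b
  -- the second pair
  obtain ⟨j, hjf, hjs, -⟩ := L.exists_j h
  have hzK : z ∈ K := hKm.2 L.hs.symm
  have huK : u ∈ K := hKm.2 (hu ▸ L.hsu.symm)
  have hyK : y ∈ K := hKm.2 (L.scomm h c y hyX).symm
  have haK : L.F.a j ∈ K := hKm.2 hjs.symm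
  have hajz : L.F.a j * z = z * L.F.a j := h.hQC _ (L.F.mem j)
  have huau : u * L.F.a j * u * L.F.a j = z := by
    rw [hu, mul_assoc (L.F.a L.f * L.F.a j)]
    exact L.F.sq4 h _ _ hjf.symm
  have hinjK : ∀ x : K, (x : G) * x = 1 → φ x = 1 → (x : G) = 1 := by
    intro x hx hx'
    obtain ⟨i, hi⟩ := Subgroup.mem_zpowers_iff.1 ((hφk x).1 hx')
    rw [← hi] at hx ⊢
    exact L.s_pow_eq_one h hx
  have hdisj := six_choose (Z := φ ⟨z, hzK⟩) (U := φ ⟨u, huK⟩) (Y := φ ⟨y, hyK⟩)
    (A := φ ⟨L.F.a j, haK⟩) (fun e' => h.z_ne_one (hinjK _ h.zz e'))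
    (by rw [← map_mul, ← map_one φ]; exact congrArg φ (Subtype.ext h.zz))
    (fun e' => hu1 (hinjK _ huu e'))
    (fun e' => huz1 (by
      have e2 : φ (⟨u, huK⟩ * ⟨z, hzK⟩) = 1 := by
        rw [map_mul, e', ← map_mul, ← map_one φ]
        exact congrArg φ (Subtype.ext h.zz)
      have e3 : u * z = 1 := hinjK _ (by
        show u * z * (u * z) = 1
        rw [(show Commute z u from huz.symm).mul_mul_mul_comm, huu, h.zz, one_mul]) e2
      rw [eq_inv_of_mul_eq_one_left e3, inv_eq_of_mul_eq_one_left h.zz]))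
    (by rw [← map_mul, ← map_one φ]; exact congrArg φ (Subtype.ext huu))
    (by rw [← map_mul, ← map_mul]; exact congrArg φ (Subtype.ext huz))
    (by rw [← map_mul, ← map_one φ]; exact congrArg φ (Subtype.ext hyy))
    (by rw [← map_mul, ← map_pow, ← map_one φ]; exact congrArg φ (Subtype.ext hzy))
    (by rw [← map_mul, ← map_pow, ← map_one φ]; exact congrArg φ (Subtype.ext huy))
    (by rw [← map_mul, ← map_mul, ← map_pow, ← map_one φ]; exact congrArg φ (Subtype.ext huzy))
    (by rw [← map_mul, ← map_one φ]; exact congrArg φ (Subtype.ext (L.F.sq j)))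
    (by rw [← map_mul, ← map_mul]; exact congrArg φ (Subtype.ext hajz))
    (by rw [← map_mul, ← map_mul, ← map_mul]; exact congrArg φ (Subtype.ext huau))
  obtain ⟨a, haK, hae, haz, haa, huaua, h1, h2, h4⟩ : ∃ (a : G) (haK : a ∈ K),
      Eqz z a (L.F.a j) ∧ a * z = z * a ∧ a * a = 1 ∧ u * a * u * a = z ∧
      φ ((⟨y, hyK⟩ * ⟨a, haK⟩) ^ 3) = 1 ∧
      φ ((⟨u, huK⟩ * ⟨y, hyK⟩ * ⟨z, hzK⟩ * ⟨a, haK⟩ * ⟨y, hyK⟩) ^ 3) = 1 ∧
      φ ((⟨u, huK⟩ * ⟨z, hzK⟩ * ⟨y, hyK⟩ * ⟨a, haK⟩) ^ 4) = 1 := by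
    simp only [← map_mul, ← map_pow] at hdisj
    rcases hdisj with ⟨e1, e2, e3⟩ | ⟨e1, e2, e3⟩
    · exact ⟨_, haK, Or.inl rfl, hajz, L.F.sq j, huau, e1, e2, e3⟩
    · refine ⟨L.F.a j * z, K.mul_mem haK hzK, Or.inr rfl, by rw [hajz, mul_assoc, hajz], ?_, ?_,
        e1, e2, e3⟩
      · rw [(show Commute z (L.F.a j) from hajz.symm).mul_mul_mul_comm, L.F.sq j, h.zz, one_mul]
      · calc u * (L.F.a j * z) * u * (L.F.a j * z)
            = u * L.F.a j * (z * u) * L.F.a j * z := by simp only [mul_assoc]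
          _ = u * L.F.a j * u * (z * L.F.a j) * z := by rw [← huz]; simp only [mul_assoc]
          _ = u * L.F.a j * u * L.F.a j * (z * z) := by rw [← hajz]; simp only [mul_assoc]
          _ = z := by rw [huau, h.zz, mul_one]
  have hzu : (u * z) ^ 2 = 1 := by
    rw [pow_two, (show Commute z u from huz.symm).mul_mul_mul_comm, huu, h.zz, one_mul]
  have hza : (z * a) ^ 2 = 1 := by
    rw [pow_two, (show Commute a z from haz).mul_mul_mul_comm, h.zz, haa, one_mul]
  have hua : u * a * u * a * z = 1 := by rw [huaua, h.zz]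
  -- relations between two involutions of `K` lift
  have hlift : ∀ p q : K, (p : G) * p = 1 → (q : G) * q = 1 →
      φ ((p * q) ^ 3) = 1 → ((p : G) * q) ^ 3 = 1 := by
    intro p q hp hq e'
    obtain ⟨i, hi⟩ := Subgroup.mem_zpowers_iff.1 ((hφk _).1 e')
    simp only [Subgroup.coe_pow, Subgroup.coe_mul] at hi
    have hc : Commute (p : G) (L.s ^ i) :=
      (show Commute (p : G) L.s from hKm.1 p.2).zpow_right i
    have hpi : (p : G)⁻¹ = p := inv_eq_of_mul_eq_one_left hp
    have hqi : (q : G)⁻¹ = q := inv_eq_of_mul_eq_one_left hq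
    have e2 : (p : G) * ((p : G) * q) ^ 3 * (p : G)⁻¹ = (((p : G) * q) ^ 3)⁻¹ := by
      rw [← inv_pow, mul_inv_rev, ← conj_pow, hpi, hqi, ← mul_assoc (p : G) (p : G), hp, one_mul]
    rw [← hi] at e2 ⊢
    rw [hc.eq, mul_inv_cancel_right] at e2
    exact L.s_pow_eq_one h (eq_inv_iff_mul_eq_one.1 e2)
  have hya : (y * a) ^ 3 = 1 := hlift ⟨y, hyK⟩ ⟨a, haK⟩ hyy haa h1
  have huyzay : (u * y * z * a * y) ^ 3 = 1 := by
    have e' := hlift ⟨u, huK⟩ (⟨y, hyK⟩ * ⟨z, hzK⟩ * ⟨a, haK⟩ * ⟨y, hyK⟩) huu (by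
      simp only [Subgroup.coe_mul]
      rw [show y * z * a * y * (y * z * a * y) = y * (z * a * (y * y) * (z * a)) * y by
        simp only [mul_assoc], hyy, mul_one, ← pow_two, hza, mul_one, hyy])
      (by simpa only [mul_assoc] using h2)
    simpa only [Subgroup.coe_mul, mul_assoc] using e'
  -- the centre
  obtain ⟨W, hW⟩ : ∃ W, W = (u * z * y * a) ^ 4 := ⟨_, rfl⟩
  have hWs : W ∈ Subgroup.zpowers L.s := by
    rw [hW]
    exact (hφk _).1 h4
  have hW1 : W ≠ 1 := by
    intro e'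
    obtain ⟨hfin, hle⟩ := card_le_of_split huu h.zz hyy haa huy hzy huzy hzu hza hua hya huyzay
      (hW ▸ e')
    haveI := hfin
    set H := Subgroup.closure ({u, z, y, a} : Set G) with hH
    have hHK : H ≤ K := by
      rw [hH, Subgroup.closure_le]
      rintro x (rfl | rfl | rfl | rfl)
      exacts [huK, hzK, hyK, haK]
    let ψ : H →* alternatingGroup (Fin 6) := φ.comp (Subgroup.inclusion hHK)
    have hker : ∀ x : G, x ∈ X0 → ∀ hx : x ∈ K, φ ⟨x, hx⟩ = 1 → x = 1 := by
      intro x hxX hx e1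
      obtain ⟨i, hi⟩ := Subgroup.mem_zpowers_iff.1 ((hφk _).1 e1)
      refine L.eq_one_of_central h c hxX fun v hv => ?_
      have hi' : L.s ^ i = x := hi
      rw [← hi']
      exact ((show Commute L.s v from L.scomm h c v hv).zpow_left i).eq
    have hord : ∀ (x : G), x ∈ X0 → x ∈ H → ∀ {p : ℕ}, p.Prime → x ^ p = 1 → x ≠ 1 →
        p ∣ Nat.card ψ.range := by
      intro x hxX hxH p hp hxp hx1
      haveI := Fact.mk hp
      have e2 : orderOf (ψ ⟨x, hxH⟩) = p := orderOf_eq_prime (by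
        rw [← map_pow, ← map_one ψ]; exact congrArg ψ (Subtype.ext hxp))
        fun e1 => hx1 (hker x hxX (hHK hxH) e1)
      exact e2 ▸ Subgroup.orderOf_dvd_natCard _ ⟨_, rfl⟩
    have huH : u ∈ H := Subgroup.subset_closure (by simp)
    have hzH : z ∈ H := Subgroup.subset_closure (by simp)
    have hyH : y ∈ H := Subgroup.subset_closure (by simp)
    have haH : a ∈ H := Subgroup.subset_closure (by simp)
    have hy1 : y ≠ 1 := fun e1 => hy1' (e.map_eq_one_iff.2 (Subtype.ext e1))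
    have huz' : u * z ≠ 1 := fun e1 => huz1 (by
      rw [eq_inv_of_mul_eq_one_left e1, inv_eq_of_mul_eq_one_left h.zz])
    have h5 : 5 ∣ Nat.card ψ.range := by
      refine hord (u * y) (X0.mul_mem huX hyX) (H.mul_mem huH hyH) (by norm_num) huy fun e1 => ?_
      have hyu : y = u := by rw [eq_inv_of_mul_eq_one_right e1, inv_eq_of_mul_eq_one_left huu]
      rw [hyu] at hzy
      refine huz' ?_
      rwa [pow_succ, pow_two, (show Commute u z from huz).mul_mul_mul_comm, h.zz, huu, one_mul,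
        one_mul, ← huz] at hzy
    have h3 : 3 ∣ Nat.card ψ.range := by
      refine hord (z * y) (X0.mul_mem hzX hyX) (H.mul_mem hzH hyH) (by norm_num) hzy fun e1 => ?_
      have hyz : y = z := by rw [eq_inv_of_mul_eq_one_right e1, inv_eq_of_mul_eq_one_left h.zz]
      rw [hyz] at huy
      refine huz' ?_
      rwa [show (u * z) ^ 5 = (u * z) ^ 2 * (u * z) ^ 2 * (u * z) by
        rw [← pow_add, ← pow_succ], hzu, one_mul, one_mul] at huy
    -- the dihedral group generated by `u` and `a`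
    have h8 : 8 ∣ Nat.card ψ.range := by
      let S := Subgroup.closure ({u, a} : Set G)
      have hSQ : S ≤ Q := by
        refine (Subgroup.closure_le _).2 ?_
        rintro x (rfl | rfl)
        exacts [hu ▸ L.F.mem L.f, h.eqz_mem (L.F.mem j) hae]
      have hSH : S ≤ H := (Subgroup.closure_le _).2 (by rintro x (rfl | rfl); exacts [huH, haH])
      have hzS : z ∈ S := huaua ▸ S.mul_mem (S.mul_mem (S.mul_mem
        (Subgroup.subset_closure (by simp)) (Subgroup.subset_closure (by simp)))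
        (Subgroup.subset_closure (by simp))) (Subgroup.subset_closure (by simp))
      have huS : u ∈ S := Subgroup.subset_closure (by simp)
      have haS : a ∈ S := Subgroup.subset_closure (by simp)
      have hnc : a * u ≠ u * a := by
        intro e1
        rw [mul_assoc u a u, e1, ← mul_assoc u u a, huu, one_mul, haa] at huaua
        exact h.z_ne_one huaua.symm
      obtain ⟨k, hk, hk'⟩ := (Nat.dvd_prime_pow Nat.prime_two).1
        (show Nat.card S ∣ 2 ^ 5 by
          rw [show (2 : ℕ) ^ 5 = 32 from rfl, ← h.hcard]; exact Subgroup.card_dvd_of_le hSQ)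
      have h8' : 8 ∣ Nat.card S := by
        rw [hk']
        refine (show (8 : ℕ) = 2 ^ 3 from rfl) ▸ pow_dvd_pow 2 ?_
        by_contra hlt
        have hcard4 : Nat.card S ≤ 4 := by
          rw [hk']
          exact (Nat.pow_le_pow_right (by norm_num) (show k ≤ 2 by omega)).trans (by norm_num)
        have hsub : ({1, z, u, u * z, a} : Finset G) ⊆ (Finset.univ.filter fun x => x ∈ S) := by
          intro x hx
          simp only [Finset.mem_insert, Finset.mem_singleton] at hx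
          rw [Finset.mem_filter]
          refine ⟨Finset.mem_univ _, ?_⟩
          rcases hx with rfl | rfl | rfl | rfl | rfl
          exacts [S.one_mem, hzS, huS, S.mul_mem huS hzS, haS]
        have h5' := Finset.card_le_card hsub
        have ha1 : a ≠ 1 := fun e1 => hnc (by rw [e1, one_mul, mul_one])
        have haz' : a ≠ z := fun e1 => hnc (by rw [e1]; exact huz.symm)
        have hau : a ≠ u := fun e1 => hnc (by rw [e1])
        have hauz : a ≠ u * z := fun e1 => hnc (by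
          rw [e1, mul_assoc u z u, ← huz])
        have huzz : u * z ≠ z := fun e1 => hu1 (mul_eq_right.1 e1)
        have huzu : u * z ≠ u := fun e1 => h.z_ne_one (mul_eq_left.1 e1)
        rw [Finset.card_insert_of_notMem (by simp [h.z_ne_one.symm, hu1.symm, huz'.symm, ha1.symm]),
          Finset.card_insert_of_notMem (by simp [huz1.symm, huzz.symm, haz'.symm]),
          Finset.card_insert_of_notMem (by simp [huzu.symm, hau.symm]),
          Finset.card_pair hauz.symm, ← Fintype.card_subtype, ← Nat.card_eq_fintype_card] at h5'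
        exact absurd (h5'.trans hcard4) (by norm_num)
      let ι : S →* ψ.range := (ψ.comp (Subgroup.inclusion hSH)).codRestrict _ fun x => ⟨_, rfl⟩
      have hι : Function.Injective ι := by
        refine (injective_iff_map_eq_one ι).2 fun x hx => ?_
        have e1 : φ ⟨(x : G), hHK (hSH x.2)⟩ = 1 := congrArg Subtype.val hx
        have hd1 := orderOf_dvd_of_mem_zpowers ((hφk _).1 e1)
        rw [show ((⟨(x : G), hHK (hSH x.2)⟩ : K) : G) = x from rfl, L.hs3] at hd1
        have hd2 := Subgroup.orderOf_dvd_natCard Q (hSQ x.2)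
        rw [h.hcard] at hd2
        exact Subtype.ext (orderOf_eq_one_iff.1
          (Nat.eq_one_of_dvd_coprimes (by norm_num : Nat.Coprime 3 32) hd1 hd2))
      exact h8'.trans (Subgroup.card_dvd_of_injective ι hι)
    have h120 : 120 ∣ Nat.card ψ.range :=
      (show (120 : ℕ) = 5 * (3 * 8) from rfl) ▸ Nat.Coprime.mul_dvd_of_dvd_of_dvd (by norm_num) h5
        (Nat.Coprime.mul_dvd_of_dvd_of_dvd (by norm_num) h3 h8)
    have hA : Nat.card (alternatingGroup (Fin 6)) = 360 := by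
      rw [nat_card_alternatingGroup, Nat.card_fin]; rfl
    have htop : ψ.range = ⊤ := by
      by_contra hne
      haveI : IsSimpleGroup (alternatingGroup (Fin 6)) := alternatingGroup.isSimpleGroup (by simp)
      have hcore : (ψ.range).normalCore = ⊥ :=
        (IsSimpleGroup.eq_bot_or_eq_top_of_normal (ψ.range).normalCore inferInstance).resolve_right
          fun e1 => hne (top_le_iff.1 (e1 ▸ Subgroup.normalCore_le _))
      have hinj : Function.Injective
          (MulAction.toPermHom (alternatingGroup (Fin 6)) (alternatingGroup (Fin 6) ⧸ ψ.range)) := by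
        rw [← MonoidHom.ker_eq_bot_iff, ← Subgroup.normalCore_eq_ker, hcore]
      have hd := Subgroup.card_dvd_of_injective _ hinj
      rw [Nat.card_perm, ← Subgroup.index_eq_card, hA] at hd
      obtain ⟨m, hm⟩ := h120
      have hmul := Subgroup.card_mul_index ψ.range
      rw [hA, hm] at hmul
      have hidx : ψ.range.index ≤ 3 := Nat.le_of_dvd (by norm_num)
        ⟨m, by rw [mul_assoc] at hmul; linarith⟩
      have := Nat.le_of_dvd (Nat.factorial_pos _) hd
      exact absurd (this.trans (Nat.factorial_le hidx)) (by decide)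
    have hψ : Function.Bijective ψ := by
      have hsurj := MonoidHom.range_eq_top.1 htop
      exact (Nat.bijective_iff_surjective_and_card ψ).2 ⟨hsurj,
        le_antisymm (hA ▸ hle) (Nat.card_le_card_of_surjective ψ hsurj)⟩
    -- `C(s)` would split
    obtain ⟨R, hrR, -, hcs, hna, -, hcomm⟩ := L.exists_sylow_three h c
    refine hna ⟨⟨fun p q => Subtype.ext ?_⟩⟩
    show (p : G) * q = q * p
    obtain ⟨i, hi⟩ := Subgroup.mem_zpowers_iff.1 (hcomm p p.2 q q.2)
    have hdec : ∀ x ∈ K, ∃ v ∈ H, ∃ k : ℤ, x = v * L.s ^ k := by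
      intro x hx
      obtain ⟨v, hv⟩ := hψ.2 (φ ⟨x, hx⟩)
      have e1 : φ (((⟨v, hHK v.2⟩ : K))⁻¹ * ⟨x, hx⟩) = 1 := by
        rw [map_mul, map_inv, show φ ⟨v, hHK v.2⟩ = φ ⟨x, hx⟩ from hv, inv_mul_cancel]
      obtain ⟨k, hk⟩ := Subgroup.mem_zpowers_iff.1 ((hφk _).1 e1)
      exact ⟨v, v.2, k, by rw [hk]; exact (mul_inv_cancel_left (v : G) x).symm⟩
    obtain ⟨v, hv, k, hk⟩ := hdec p (hKm.2 (hcs p p.2))
    obtain ⟨v', hv', k', hk'⟩ := hdec q (hKm.2 (hcs q q.2))
    have hcv : ∀ w ∈ H, ∀ k : ℤ, Commute (L.s ^ k) w := fun w hw k =>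
      (show Commute L.s w from (hKm.1 (hHK hw)).symm).zpow_left k
    have e1 : (p : G) * q * (p : G)⁻¹ * (q : G)⁻¹ = v * v' * v⁻¹ * v'⁻¹ := by
      rw [hk, hk']
      calc v * L.s ^ k * (v' * L.s ^ k') * (v * L.s ^ k)⁻¹ * (v' * L.s ^ k')⁻¹
          = v * (L.s ^ k * (v' * L.s ^ k') * (L.s ^ k)⁻¹) * v⁻¹ * (v' * L.s ^ k')⁻¹ := by group
        _ = v * v' * (L.s ^ k' * v⁻¹ * (L.s ^ k')⁻¹) * v'⁻¹ := by
          rw [((hcv v' hv' k).mul_right ((Commute.refl L.s).zpow_zpow k k')).eq, mul_inv_cancel_right]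
          group
        _ = v * v' * v⁻¹ * v'⁻¹ := by rw [((hcv v hv k').inv_right).eq, mul_inv_cancel_right]
    have hH1 : (p : G) * q * (p : G)⁻¹ * (q : G)⁻¹ ∈ H :=
      e1 ▸ H.mul_mem (H.mul_mem (H.mul_mem hv hv') (H.inv_mem hv)) (H.inv_mem hv')
    have hc1 : (p : G) * q * (p : G)⁻¹ * (q : G)⁻¹ = 1 := by
      have h0 : ψ ⟨_, hH1⟩ = ψ 1 := by
        rw [map_one]
        exact (hφk _).2 ⟨i, hi⟩
      exact congrArg Subtype.val (hψ.1 h0)
    exact mul_inv_eq_iff_eq_mul.1 (mul_inv_eq_one.1 hc1)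
  -- relations with `t`
  have hWcases : W = L.s ∨ W = L.s⁻¹ := by
    obtain ⟨i, rfl⟩ := Subgroup.mem_zpowers_iff.1 hWs
    exact (zpow_three_cases L.s_cube i).resolve_left hW1
  have htt := L.ht2
  have htc : ∀ x ∈ X0, (L.t * x) * (L.t * x) = x * x := fun x hx => by
    rw [(show Commute x L.t from (c.vcomm _ (L.t_mem_V h) x hx).symm).mul_mul_mul_comm, htt, one_mul]
  have hst : (L.s * L.t) ^ 3 = 1 := by
    have e1 := (L.t_rel h).1
    have e2 := (L.t_rel h).2
    have e3 : L.s * L.t * L.s⁻¹ = L.t2 := rfl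
    calc (L.s * L.t) ^ 3
        = (L.s * L.t * L.s⁻¹) * (L.s * (L.s * L.t * L.s⁻¹) * L.s⁻¹) * (L.s * L.s * L.s) * L.t := by
          simp only [pow_succ, pow_zero, one_mul]; group
      _ = L.t2 * (L.t * L.t2) * L.t := by rw [L.s_cube, e3, e2, mul_one]
      _ = 1 := by
        rw [e1, ← mul_assoc, (L.t2_facts h).2.1, one_mul, htt]
  refine ⟨u, y, a, huu, h.zz, hyy, haa, htt, huy, hzy, huzy, hzu, hza, hua, hya, huyzay,
    ?_, ?_, ?_, ?_, ?_, ?_⟩
  · rw [pow_two, htc u huX, huu]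
  · rw [pow_two, htc z hzX, h.zz]
  · rw [pow_two, htc y hyX, hyy]
  · -- `(t a)⁴ = z`
    have hT : (L.F.p L.ht : Equiv.Perm (Fin 5)) j ≠ j := by
      intro e1
      obtain ⟨f', -, huniq, -⟩ := L.F.exists_fixed h L.ht L.ht2 L.htQ
      exact hjf ((huniq j e1).trans (huniq L.f (L.F.fix_of_commute h L.ht L.htu)).symm)
    have hti : L.t⁻¹ = L.t := inv_eq_of_mul_eq_one_left htt
    have e2 := h.eqz_trans (h.eqz_conj (g := L.t) L.ht hae)
      (L.F.act ⟨L.t, Subgroup.mem_centralizer_singleton_iff.2 L.ht⟩ j)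
    rw [hti] at e2
    have e3 := h.eqz_mul (h.hQC _ (L.F.mem j)) e2 hae
    have e4 := h.eqz_sq (Q.mul_mem (L.F.mem _) (L.F.mem j)) e3
    rw [L.F.sq4 h _ _ hT] at e4
    rw [show (L.t * a) ^ 4 = (L.t * a * L.t * a) * (L.t * a * L.t * a) by
      simp only [pow_succ, pow_zero, one_mul, mul_assoc], e4, h.zz]
  · rw [← hW]
    rcases hWcases with e1 | e1 <;> rw [e1]
    · rw [← L.hs3, pow_orderOf_eq_one]
    · rw [inv_pow, ← L.hs3, pow_orderOf_eq_one, inv_one]
  · rw [← hW]
    rcases hWcases with e1 | e1 <;> rw [e1]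
    · exact hst
    · have hts : (L.t * L.s) ^ 3 = 1 := by
        rw [show L.t * L.s = L.t * (L.s * L.t) * L.t⁻¹ by group, conj_pow, hst, mul_one,
          mul_inv_cancel]
      rw [show L.s⁻¹ * L.t = (L.t * L.s)⁻¹ by
        rw [mul_inv_rev, inv_eq_of_mul_eq_one_left htt], inv_pow, hts, inv_one]

end Loc

end CfsgLib.HallJanko
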