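import Cfsg.Agent.HallJanko.Frame
import Cfsg.Agent.HallJanko.AltFacts

/-!
# Involutions of `C(z)` outside `Q`
-/

set_option autoImplicit false
set_option linter.style.haveILetI false

namespace CfsgLib.HallJanko

variable {G : Type*} [Group G] [Finite G] {z : G} {Q : Subgroup G}

namespace PreCore

variable (h : PreCore z Q)
include h

omit [Finite G] in
theorem mem_C {q : G} (hq : q ∈ Q) : q ∈ Subgroup.centralizer ({z} : Set G) :=
  Subgroup.mem_centralizer_singleton_iff.2 (h.hQC q hq)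

omit [Finite G] in
theorem Q_sq_orderOf {q : G} (hq : q ∈ Q) : q * q * (q * q) = 1 := by
  rcases h.hsq q hq with e | e <;> rw [e]
  · rw [one_mul]
  · exact h.zz

omit [Finite G] in
theorem Q_three {q : G} (hq : q ∈ Q) (h3 : q * q * q = 1) : q = 1 :=
  calc q = q * (q * q * q) := by rw [h3, mul_one]
    _ = q * q * (q * q) := by group
    _ = 1 := h.Q_sq_orderOf hq

omit [Finite G] in
theorem not_mem_of_three {s : G} (h3 : orderOf s = 3) : s ∉ Q := fun hs => by
  have e : s * s * s = 1 := by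
    have := pow_orderOf_eq_one s
    rwa [h3, pow_succ, pow_two] at this
  rw [h.Q_three hs e, orderOf_one] at h3
  omega

end PreCore

namespace Frame

variable (h : PreCore z Q) (F : Frame z Q)

/-- The permutation of the pairs induced by an element of `C(z)`. -/
abbrev p {c : G} (hc : c * z = z * c) : alternatingGroup (Fin 5) :=
  F.π ⟨c, Subgroup.mem_centralizer_singleton_iff.2 hc⟩

include h F

omit [Finite G] in
theorem ker_p {c : G} (hc : c * z = z * c) : F.p hc = 1 ↔ c ∈ Q := F.ker _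

omit [Finite G] in
theorem sq4 (i j : Fin 5) (hne : i ≠ j) : F.a i * F.a j * (F.a i * F.a j) = z :=
  h.mul_sq (F.mem j) (F.sq i) (F.sq j) (F.nc i j hne)

omit [Finite G] in
theorem ncm (i j : Fin 5) (hne : i ≠ j) : F.a i * (F.a i * F.a j) ≠ F.a i * F.a j * F.a i := by
  intro e
  rw [← mul_assoc, F.sq, one_mul] at e
  have e2 : F.a i * F.a j = F.a j * F.a i := by
    calc F.a i * F.a j = F.a i * (F.a i * F.a j * F.a i) := by rw [← e]
      _ = F.a j * F.a i := by rw [← mul_assoc, ← mul_assoc, F.sq, one_mul]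
  rw [F.nc i j hne] at e2
  exact h.z_ne_one (mul_eq_left.1 e2)

omit [Finite G] in
/-- The elements of `Q` centralising `a f`. -/
theorem centralizer_a (f : Fin 5) {x : G} (hx : x ∈ Q) (hxf : F.a f * x = x * F.a f) :
    Eqz z x 1 ∨ Eqz z x (F.a f) ∨ ∃ i j, i ≠ j ∧ i ≠ f ∧ j ≠ f ∧ Eqz z x (F.a i * F.a j) := by
  rcases F.cover x hx with e | ⟨i, e⟩ | ⟨i, j, hij, e⟩
  · exact Or.inl e
  · refine Or.inr (Or.inl ?_)
    rcases eq_or_ne f i with rfl | hne
    · exact e
    · have := (h.eqz_comm (F.mem f) e).1 hxf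
      rw [F.nc f i hne] at this
      exact absurd (mul_eq_left.1 this) h.z_ne_one
  · refine Or.inr (Or.inr ⟨i, j, hij, ?_, ?_, e⟩)
    · rintro rfl
      exact F.ncm h i j hij ((h.eqz_comm (F.mem i) e).1 hxf)
    · rintro rfl
      refine F.ncm h j i hij.symm ?_
      have h1 := (h.eqz_comm (F.mem j) e).1 hxf
      rw [F.nc i j hij] at h1
      exact (h.eqz_comm (F.mem j) (Or.inr rfl : Eqz z (F.a j * F.a i * z) (F.a j * F.a i))).1 h1

omit [Finite G] in
/-- A conjugate of a product of two of the involutions. -/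
theorem act_mul {c : G} (hc : c * z = z * c) (i j : Fin 5) :
    Eqz z (c * (F.a i * F.a j) * c⁻¹)
      (F.a ((F.p hc : Equiv.Perm (Fin 5)) i) * F.a ((F.p hc : Equiv.Perm (Fin 5)) j)) := by
  rw [show c * (F.a i * F.a j) * c⁻¹ = c * F.a i * c⁻¹ * (c * F.a j * c⁻¹) by group]
  exact h.eqz_mul (h.hQC _ (F.mem _)) (F.act ⟨c, _⟩ i) (F.act ⟨c, _⟩ j)

omit [Finite G] in
theorem fix_of_commute {c : G} (hc : c * z = z * c) {f : Fin 5}
    (hcf : c * F.a f = F.a f * c) : (F.p hc : Equiv.Perm (Fin 5)) f = f := by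
  have e := F.act ⟨c, Subgroup.mem_centralizer_singleton_iff.2 hc⟩ f
  rw [show c * F.a f * c⁻¹ = F.a f by rw [hcf, mul_inv_cancel_right]] at e
  exact (F.dist _ _ e).symm

omit [Finite G] in
theorem p_invol {t : G} (ht : t * z = z * t) (ht2 : t * t = 1) (htQ : t ∉ Q) :
    F.p ht ≠ 1 ∧ F.p ht * F.p ht = 1 :=
  ⟨fun e => htQ ((F.ker_p h ht).1 e),
    by
      rw [← map_mul, ← map_one F.π]
      exact congrArg F.π (Subtype.ext ht2)⟩

omit [Finite G] in
/-- An involution outside `Q` fixes one pair, and centralises it. -/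
theorem exists_fixed {t : G} (ht : t * z = z * t) (ht2 : t * t = 1) (htQ : t ∉ Q) :
    ∃ f, (F.p ht : Equiv.Perm (Fin 5)) f = f ∧
      (∀ i, (F.p ht : Equiv.Perm (Fin 5)) i = i → i = f) ∧ t * F.a f = F.a f * t := by
  obtain ⟨h1, h2⟩ := F.p_invol h ht ht2 htQ
  obtain ⟨f, hf, huniq⟩ := Alt.inv_fixed _ h1 h2
  obtain ⟨T, hT⟩ : ∃ T : Equiv.Perm (Fin 5), T = (F.p ht : Equiv.Perm (Fin 5)) := ⟨_, rfl⟩
  rw [← hT] at hf huniq ⊢
  refine ⟨f, hf, huniq, ?_⟩
  obtain ⟨i, hi⟩ : ∃ i, i ≠ f := exists_ne f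
  have hTT : ∀ x, T (T x) = x := fun x => by
    have := congrArg (fun g : alternatingGroup (Fin 5) => (g : Equiv.Perm (Fin 5)) x) h2
    rwa [← Equiv.Perm.mul_apply, hT]
  have hTi : T i ≠ i := fun e => hi (huniq i e)
  obtain ⟨k, hkf, hki, hkTi⟩ : ∃ k, k ≠ f ∧ k ≠ i ∧ k ≠ T i := by
    have : ∀ a b c : Fin 5, ∃ k, k ≠ a ∧ k ≠ b ∧ k ≠ c := by decide
    exact this f i (T i)
  have hTk : T k ≠ k := fun e => hkf (huniq k e)
  have hinv : t⁻¹ = t := inv_eq_of_mul_eq_one_left ht2
  obtain ⟨u, hu, huQ, huT⟩ : ∃ u, u = t * F.a i * t * F.a i ∧ u ∈ Q ∧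
      Eqz z u (F.a (T i) * F.a i) := by
    have e : Eqz z (t * F.a i * t⁻¹) (F.a (T i)) := hT ▸ F.act ⟨t, _⟩ i
    rw [hinv] at e
    exact ⟨_, rfl, Q.mul_mem (h.eqz_mem (F.mem _) e) (F.mem i),
      h.eqz_mul (h.hQC _ (F.mem _)) e (Or.inl rfl)⟩
  obtain ⟨v, hv, hvQ, hvT⟩ : ∃ v, v = t * F.a k * t * F.a k ∧ v ∈ Q ∧
      Eqz z v (F.a (T k) * F.a k) := by
    have e : Eqz z (t * F.a k * t⁻¹) (F.a (T k)) := hT ▸ F.act ⟨t, _⟩ k
    rw [hinv] at e
    exact ⟨_, rfl, Q.mul_mem (h.eqz_mem (F.mem _) e) (F.mem k),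
      h.eqz_mul (h.hQC _ (F.mem _)) e (Or.inl rfl)⟩
  have hut : ∀ x : G, x * x = 1 → t * (t * x * t * x) * t = (t * x * t * x)⁻¹ := fun x hx => by
    rw [mul_inv_rev, mul_inv_rev, mul_inv_rev, hinv, inv_eq_of_mul_eq_one_left hx]
    calc t * (t * x * t * x) * t = t * t * x * t * x * t := by group
      _ = x * (t * (x * t)) := by rw [ht2]; group
  have hTki : T k ≠ i := fun e => hkTi (by rw [← e, hTT])
  have hTTki : T k ≠ T i := fun e => hki (T.injective e)
  have huv : u * v = v * u := by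
    rcases h.hcomm u huQ v hvQ with e | e
    · exact e
    · exfalso
      -- the two products commute
      have hc1 : F.a (T i) * (F.a (T k) * F.a k) = F.a (T k) * F.a k * F.a (T i) :=
        h.nc_mul (F.mem k) (F.nc _ _ hTTki.symm) (F.nc _ _ hkTi.symm)
      have hc2 : F.a i * (F.a (T k) * F.a k) = F.a (T k) * F.a k * F.a i :=
        h.nc_mul (F.mem k) (F.nc _ _ hTki.symm) (F.nc _ _ hki.symm)
      have hc : F.a (T i) * F.a i * (F.a (T k) * F.a k) =
          F.a (T k) * F.a k * (F.a (T i) * F.a i) :=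
        ((show Commute (F.a (T i)) _ from hc1).mul_left hc2).eq
      have hc3 := (h.eqz_comm (Q.mul_mem (F.mem _) (F.mem i)) hvT).2 hc
      have hc4 := (h.eqz_comm hvQ huT).2 hc3.symm
      rw [hc4] at e
      exact h.z_ne_one (mul_eq_left.1 e.symm)
  have huv2 : u * v * (u * v) = 1 := by
    rw [(show Commute v u from huv.symm).mul_mul_mul_comm, h.eqz_sq (Q.mul_mem (F.mem _) (F.mem i)) huT,
      h.eqz_sq (Q.mul_mem (F.mem _) (F.mem k)) hvT, F.sq4 h _ _ hTi, F.sq4 h _ _ hTk, h.zz]
  have hfix : t * (u * v) * t = u * v := by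
    calc t * (u * v) * t = t * u * t * (t * v * t) := by
          rw [show t * u * t * (t * v * t) = t * u * (t * t) * v * t by group, ht2]; group
      _ = u⁻¹ * v⁻¹ := by rw [hu, hut _ (F.sq i), hv, hut _ (F.sq k)]
      _ = (u * v)⁻¹ := by rw [huv, mul_inv_rev]
      _ = u * v := inv_eq_of_mul_eq_one_left huv2
  rcases F.cover _ (Q.mul_mem huQ hvQ) with e | ⟨j, e⟩ | ⟨j, l, hjl, e⟩
  · exfalso
    have e' : Eqz z (F.a (T i) * F.a i) (F.a (T k) * F.a k) := by
      have e0 : Eqz z u v := by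
        have e1 : v * v = z := (h.eqz_sq (Q.mul_mem (F.mem _) (F.mem k)) hvT).trans (F.sq4 h _ _ hTk)
        rcases e with e | e
        · refine Or.inr ?_
          calc u = u * v * v⁻¹ := by group
            _ = v⁻¹ := by rw [e, one_mul]
            _ = v * z := inv_eq_of_mul_eq_one_left (by
              rw [mul_assoc, ← h.hQC v hvQ, ← mul_assoc, e1, h.zz])
        · refine Or.inl ?_
          calc u = u * v * v⁻¹ := by group
            _ = z * v⁻¹ := by rw [e, one_mul]
            _ = v := by rw [← e1]; group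
      exact h.eqz_trans (h.eqz_symm huT) (h.eqz_trans e0 hvT)
    rcases F.pair _ _ _ _ hTi hTk e' with ⟨-, e2⟩ | ⟨e2, -⟩
    · exact hki e2.symm
    · exact hkTi e2.symm
  · have hjf : j = f := by
      refine huniq j ?_
      have e1 : Eqz z (F.a j) (F.a (T j)) := by
        have e3 : Eqz z (t * F.a j * t⁻¹) (F.a (T j)) :=
          hT ▸ F.act ⟨t, Subgroup.mem_centralizer_singleton_iff.2 ht⟩ j
        refine h.eqz_trans (h.eqz_trans (h.eqz_symm e) ?_) e3
        have e2 := h.eqz_conj (g := t) ht e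
        rw [hinv, hfix] at e2
        rwa [hinv]
      exact (F.dist _ _ e1).symm
    subst hjf
    have hc : t * (u * v) = u * v * t := by
      calc t * (u * v) = t * (u * v) * (t * t) := by rw [ht2, mul_one]
        _ = t * (u * v) * t * t := by group
        _ = u * v * t := by rw [hfix]
    rcases e with e | e
    · rwa [e] at hc
    · rw [e, ← mul_assoc, mul_assoc (F.a j) z t, ← ht, ← mul_assoc] at hc
      exact mul_right_cancel hc
  · exfalso
    have := h.eqz_sq (Q.mul_mem (F.mem _) (F.mem _)) e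
    rw [huv2, F.sq4 h j l hjl] at this
    exact h.z_ne_one this.symm

omit [Finite G] in
/-- The centraliser in `Q` of an involution outside `Q`. -/
theorem fix_cases {t : G} (ht : t * z = z * t) (ht2 : t * t = 1) {f : Fin 5}
    (huniq : ∀ i, (F.p ht : Equiv.Perm (Fin 5)) i = i → i = f) {q : G} (hq : q ∈ Q)
    (hqt : t * q = q * t) : Eqz z q 1 ∨ Eqz z q (F.a f) := by
  have hinv : t⁻¹ = t := inv_eq_of_mul_eq_one_left ht2
  have hfix : t * q * t⁻¹ = q := by rw [hqt, mul_inv_cancel_right]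
  rcases F.cover q hq with e | ⟨j, e⟩ | ⟨i, j, hij, e⟩
  · exact Or.inl e
  · refine Or.inr ?_
    have e2 := h.eqz_conj (g := t) ht e
    rw [hfix] at e2
    have : j = (F.p ht : Equiv.Perm (Fin 5)) j :=
      F.dist _ _ (h.eqz_trans (h.eqz_symm e) (h.eqz_trans e2 (F.act ⟨t, _⟩ j)))
    rwa [← huniq j this.symm]
  · exfalso
    obtain ⟨T, hT⟩ : ∃ T : Equiv.Perm (Fin 5), T = (F.p ht : Equiv.Perm (Fin 5)) := ⟨_, rfl⟩
    rw [← hT] at huniq
    have e2 := h.eqz_conj (g := t) ht e
    rw [hfix] at e2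
    have e3 := h.eqz_trans (h.eqz_symm e) (h.eqz_trans e2 (F.act_mul h ht i j))
    rw [← hT] at e3
    rcases F.pair _ _ _ _ hij (fun e' => hij (T.injective e')) e3 with ⟨h1, h2⟩ | ⟨h1, h2⟩
    · exact hij ((huniq i h1.symm).trans (huniq j h2.symm).symm)
    · -- `t` interchanges the factors
      have hai : Eqz z (t * F.a i * t⁻¹) (F.a j) := by
        rw [show j = T i from h2]
        exact hT ▸ F.act ⟨t, _⟩ i
      have haj : t * F.a j * t⁻¹ = F.a i ∧ t * F.a i * t⁻¹ = F.a j ∨
          t * F.a j * t⁻¹ = F.a i * z ∧ t * F.a i * t⁻¹ = F.a j * z := by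
        rcases hai with e' | e'
        · refine Or.inl ⟨?_, e'⟩
          rw [← e', hinv]
          calc t * (t * F.a i * t) * t = t * t * F.a i * (t * t) := by group
            _ = F.a i := by rw [ht2, one_mul, mul_one]
        · refine Or.inr ⟨?_, e'⟩
          have e'' : F.a j = t * F.a i * t⁻¹ * z := by rw [e', mul_assoc, h.zz, mul_one]
          rw [e'', hinv]
          calc t * (t * F.a i * t * z) * t = t * t * F.a i * t * (z * t) := by group
            _ = F.a i * (t * t) * z := by rw [ht2, one_mul, ← ht, mul_one, mul_assoc (F.a i) t (t * z), ← mul_assoc t t z, ht2, one_mul]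
            _ = F.a i * z := by rw [ht2, mul_one]
      have hqq : t * (F.a i * F.a j) * t⁻¹ = F.a j * F.a i := by
        rw [show t * (F.a i * F.a j) * t⁻¹ = t * F.a i * t⁻¹ * (t * F.a j * t⁻¹) by group]
        rcases haj with ⟨e1, e1'⟩ | ⟨e1, e1'⟩ <;> rw [e1, e1']
        calc F.a j * z * (F.a i * z) = F.a j * (z * F.a i) * z := by group
          _ = F.a j * F.a i := by
            rw [← h.hQC _ (F.mem i), ← mul_assoc, mul_assoc _ z z, h.zz, mul_one]
      have hne : F.a j * F.a i ≠ F.a i * F.a j := fun e' => by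
        rw [F.nc j i hij.symm] at e'
        exact h.z_ne_one (mul_eq_left.1 e')
      apply hne
      rcases e with e | e
      · rw [← hqq, ← e, hfix]
      · have : t * (F.a i * F.a j * z) * t⁻¹ = F.a j * F.a i * z := by
          rw [show t * (F.a i * F.a j * z) * t⁻¹ =
            t * (F.a i * F.a j) * t⁻¹ * (t * z * t⁻¹) by group, hqq, ht, mul_inv_cancel_right]
        rw [← e, hfix, e] at this
        exact (mul_right_cancel this).symm

/-- At most eight involutions in a coset of `Q`. -/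
theorem card_coset_le {t : G} (ht : t * z = z * t) (ht2 : t * t = 1) (htQ : t ∉ Q) :
    Nat.card {q : G // q ∈ Q ∧ t * q * (t * q) = 1} ≤ 8 := by
  classical
  obtain ⟨h1, h2⟩ := F.p_invol h ht ht2 htQ
  obtain ⟨f, hf, huniq⟩ := Alt.inv_fixed _ h1 h2
  obtain ⟨i, k, hik⟩ := Alt.inv_cover _ h1 h2 f hf
  obtain ⟨T, hT⟩ : ∃ T : Equiv.Perm (Fin 5), T = (F.p ht : Equiv.Perm (Fin 5)) := ⟨_, rfl⟩
  rw [← hT] at hf huniq hik
  have hTT : ∀ x, T (T x) = x := fun x => by
    have := congrArg (fun g : alternatingGroup (Fin 5) => (g : Equiv.Perm (Fin 5)) x) h2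
    rwa [← Equiv.Perm.mul_apply, hT]
  have hinv : t⁻¹ = t := inv_eq_of_mul_eq_one_left ht2
  let rep : Fin 4 → G := ![1, F.a f, F.a i * F.a (T i), F.a k * F.a (T k)]
  let im : Fin 4 × Bool → G := fun x => rep x.1 * cond x.2 z 1
  have hsub : {q : G | q ∈ Q ∧ t * q * (t * q) = 1} ⊆ Set.range im := by
    rintro q ⟨hq, hq2⟩
    have hfix : Eqz z (t * q * t⁻¹) q := by
      have e : t * q * t⁻¹ = q⁻¹ := eq_inv_of_mul_eq_one_left (by
        rw [hinv, ← hq2]; group)
      rw [e]
      rcases h.hsq q hq with e' | e'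
      · exact Or.inl (inv_eq_of_mul_eq_one_left e')
      · refine Or.inr (inv_eq_of_mul_eq_one_left ?_)
        rw [mul_assoc q z, ← h.hQC q hq, ← mul_assoc, e', h.zz]
    have key : ∀ l : Fin 4, Eqz z q (rep l) → q ∈ Set.range im := by
      intro l e
      rcases e with e | e
      · exact ⟨(l, false), by simpa [im] using e.symm⟩
      · exact ⟨(l, true), e.symm⟩
    rcases F.cover q hq with e | ⟨j, e⟩ | ⟨j, l, hjl, e⟩
    · exact key 0 e
    · refine key 1 ?_
      have : j = T j := F.dist _ _ (h.eqz_trans (h.eqz_symm e) (h.eqz_trans (h.eqz_symm hfix)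
        (h.eqz_trans (h.eqz_conj ht e) (hT ▸ F.act ⟨t, _⟩ j))))
      rw [huniq j this.symm] at e
      exact e
    · have e3 := h.eqz_trans (h.eqz_symm e) (h.eqz_trans (h.eqz_symm hfix)
        (h.eqz_trans (h.eqz_conj ht e) (F.act_mul h ht j l)))
      rw [← hT] at e3
      rcases F.pair _ _ _ _ hjl (fun e' => hjl (T.injective e')) e3 with ⟨e1, e2⟩ | ⟨e1, e2⟩
      · exact absurd ((huniq j e1.symm).trans (huniq l e2.symm).symm) hjl
      · subst e2
        have hswap : Eqz z q (F.a (T j) * F.a j) := by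
          refine h.eqz_trans e (Or.inr ?_)
          exact F.nc _ _ hjl
        have hjf : j ≠ f := fun e' => hjl (by rw [e', hf])
        rcases hik j hjf with e' | e' | e' | e' <;> subst e'
        · exact key 2 e
        · rw [hTT] at hswap; exact key 2 hswap
        · exact key 3 e
        · rw [hTT] at hswap; exact key 3 hswap
  have h' := Set.ncard_le_ncard hsub (Set.toFinite _)
  refine le_trans h' (le_trans (Nat.card_coe_set_eq (Set.range im) ▸ Finite.card_range_le im) ?_)
  simp [Nat.card_eq_fintype_card]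

/-- The conjugates of an involution outside `Q` under `C(z)` are the 120 such involutions. -/
theorem outside_main {t : G} (ht : t * z = z * t) (ht2 : t * t = 1) (htQ : t ∉ Q) :
    Nat.card (Subgroup.centralizer ({z} : Set G) ⊓ Subgroup.centralizer ({t} : Set G) :
      Subgroup G) = 16 ∧
    Nat.card {x : G // x * z = z * x ∧ x * x = 1 ∧ x ∉ Q} = 120 ∧
    ∀ x : G, x * z = z * x → x * x = 1 → x ∉ Q →
      ∃ c : G, c * z = z * c ∧ c * t * c⁻¹ = x := by
  classical
  haveI := Fintype.ofFinite G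
  set C := Subgroup.centralizer ({z} : Set G) with hC
  have hmem : ∀ {g : G}, g ∈ C ↔ g * z = z * g := Subgroup.mem_centralizer_singleton_iff
  obtain ⟨h1, h2⟩ := F.p_invol h ht ht2 htQ
  obtain ⟨f, -, huniq, -⟩ := F.exists_fixed h ht ht2 htQ
  let K : Subgroup C := (Subgroup.centralizer ({t} : Set G)).subgroupOf C
  have hKcard : Nat.card K = Nat.card (C ⊓ Subgroup.centralizer ({t} : Set G) : Subgroup G) := by
    rw [← Nat.card_congr (Subgroup.subgroupOfEquivOfLe
      (inf_le_left : C ⊓ Subgroup.centralizer ({t} : Set G) ≤ C)).toEquiv]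
    exact Nat.card_congr (MulEquiv.subgroupCongr (by rw [Subgroup.inf_subgroupOf_left])).toEquiv
  have hK16 : Nat.card K ≤ 16 := by
    let ρ : K →* alternatingGroup (Fin 5) := F.π.comp K.subtype
    rw [← Subgroup.card_mul_index ρ.ker, Subgroup.index_ker]
    refine le_trans (Nat.mul_le_mul (?_ : _ ≤ 4) (?_ : _ ≤ 4)) le_rfl
    · let S : Set G := Set.range fun x : Bool × Bool => cond x.1 (F.a f) 1 * cond x.2 z 1
      have hS : ∀ k : ρ.ker, (((k : K) : C) : G) ∈ S := by
        intro k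
        have hkQ : (((k : K) : C) : G) ∈ Q := (F.ker _).1 (MonoidHom.mem_ker.1 k.2)
        rcases F.fix_cases h ht ht2 huniq hkQ (Subgroup.mem_centralizer_singleton_iff.1
          (Subgroup.mem_subgroupOf.1 (k : K).2)).symm with (e | e) | (e | e)
        · exact ⟨(false, false), by simpa using e.symm⟩
        · exact ⟨(false, true), by simpa using e.symm⟩
        · exact ⟨(true, false), by simpa using e.symm⟩
        · exact ⟨(true, true), by simpa using e.symm⟩
      refine le_trans (Nat.card_le_card_of_injective (fun k => (⟨_, hS k⟩ : S)) fun a b e =>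
        Subtype.ext (Subtype.ext (Subtype.ext (congrArg (fun x : S => (x : G)) e)))) ?_
      refine (Finite.card_range_le _).trans ?_
      simp [Nat.card_eq_fintype_card]
    · have hsub : ∀ x : ρ.range, (x : alternatingGroup (Fin 5)) * F.p ht =
          F.p ht * (x : alternatingGroup (Fin 5)) := by
        rintro ⟨_, k, rfl⟩
        show F.π _ * F.π _ = F.π _ * F.π _
        rw [← map_mul, ← map_mul]
        refine congrArg F.π (Subtype.ext ?_)
        exact Subgroup.mem_centralizer_singleton_iff.1 (Subgroup.mem_subgroupOf.1 k.2)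
      refine le_trans (Nat.card_le_card_of_injective
        (fun x : ρ.range => (⟨x, hsub x⟩ : {g // g * F.p ht = F.p ht * g}))
        fun a b e => Subtype.ext (congrArg
          (fun x : {g // g * F.p ht = F.p ht * g} => (x : alternatingGroup (Fin 5))) e)) ?_
      rw [Nat.card_eq_fintype_card, Alt.inv_centralizer _ h1 h2]
  let S : Set G := {x | x * z = z * x ∧ x * x = 1 ∧ x ∉ Q}
  let orb : C ⧸ K → S := fun q => Quotient.liftOn' q
    (fun c => ⟨(c : G) * t * (c : G)⁻¹, by
      have hc := hmem.1 c.2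
      refine ⟨?_, ?_, fun hin => htQ ?_⟩
      · exact (((show Commute (c : G) z from hc).mul_left ht).mul_left
          ((show Commute (c : G) z from hc).inv_left)).eq
      · calc (c : G) * t * (c : G)⁻¹ * ((c : G) * t * (c : G)⁻¹)
            = (c : G) * (t * t) * (c : G)⁻¹ := by group
          _ = 1 := by rw [ht2]; group
      · have := h.hn (c : G)⁻¹ ((show Commute (c : G) z from hc).inv_left).eq _ hin
        rwa [show (c : G)⁻¹ * ((c : G) * t * (c : G)⁻¹) * (c : G)⁻¹⁻¹ = t by group] at this⟩)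
    (fun a b hab => by
      rw [QuotientGroup.leftRel_apply, Subgroup.mem_subgroupOf,
        Subgroup.mem_centralizer_singleton_iff] at hab
      refine Subtype.ext ?_
      show (a : G) * t * (a : G)⁻¹ = (b : G) * t * (b : G)⁻¹
      calc (a : G) * t * (a : G)⁻¹
          = (a : G) * (t * ((a⁻¹ * b : C) : G)) * ((a⁻¹ * b : C) : G)⁻¹ * (a : G)⁻¹ := by group
        _ = (b : G) * t * (b : G)⁻¹ := by
            rw [← hab, Subgroup.coe_mul, Subgroup.coe_inv]; group)
  have horb : Function.Injective orb := by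
    intro a b
    induction a using Quotient.inductionOn' with
    | h a =>
      induction b using Quotient.inductionOn' with
      | h b =>
        intro e
        apply Quotient.sound'
        rw [QuotientGroup.leftRel_apply, Subgroup.mem_subgroupOf,
          Subgroup.mem_centralizer_singleton_iff, Subgroup.coe_mul, Subgroup.coe_inv]
        have e' : (a : G) * t * (a : G)⁻¹ = (b : G) * t * (b : G)⁻¹ := congrArg Subtype.val e
        calc (a : G)⁻¹ * (b : G) * t = (a : G)⁻¹ * ((b : G) * t * (b : G)⁻¹) * (b : G) := by group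
          _ = t * ((a : G)⁻¹ * (b : G)) := by rw [← e']; group
  have hS120 : Nat.card S ≤ 120 := by
    let I := {k : alternatingGroup (Fin 5) // k ≠ 1 ∧ k * k = 1}
    let toI : S → I := fun x => ⟨F.p x.2.1, F.p_invol h x.2.1 x.2.2.1 x.2.2.2⟩
    have hfib : ∀ k : I, Nat.card {x : S // toI x = k} ≤ 8 := by
      intro k
      rcases isEmpty_or_nonempty {x : S // toI x = k} with he | ⟨⟨⟨b, hb⟩, hbk⟩⟩
      · simp
      refine le_trans ?_ (F.card_coset_le h hb.1 hb.2.1 hb.2.2)
      have hq : ∀ x : {x : S // toI x = k}, b * (x.1 : G) ∈ Q := by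
        intro x
        have e : toI x.1 = toI ⟨b, hb⟩ := x.2.trans hbk.symm
        have e' : F.p x.1.2.1 = F.p hb.1 := congrArg Subtype.val e
        refine (F.ker ⟨b * (x.1 : G), C.mul_mem (hmem.2 hb.1) (hmem.2 x.1.2.1)⟩).1 ?_
        calc F.π _ = F.p hb.1 * F.p x.1.2.1 := map_mul F.π ⟨b, hmem.2 hb.1⟩ ⟨_, hmem.2 x.1.2.1⟩
          _ = 1 := by rw [e', (F.p_invol h hb.1 hb.2.1 hb.2.2).2]
      refine Nat.card_le_card_of_injective (fun x => (⟨b * (x.1 : G), hq x, ?_⟩ :
        {q : G // q ∈ Q ∧ b * q * (b * q) = 1})) fun x y e => ?_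
      · rw [show b * (b * (x.1 : G)) = x.1 by rw [← mul_assoc, hb.2.1, one_mul], x.1.2.2.1]
      · exact Subtype.ext (Subtype.ext (mul_left_cancel (congrArg Subtype.val e)))
    rw [← Nat.card_congr (Equiv.sigmaFiberEquiv toI), Nat.card_sigma]
    refine (Finset.sum_le_sum fun k _ => hfib k).trans ?_
    rw [Finset.sum_const, Finset.card_univ, Alt.inv_count]
    norm_num
  have hle : Nat.card (C ⧸ K) ≤ Nat.card S := Nat.card_le_card_of_injective orb horb
  have hprod : Nat.card K * Nat.card (C ⧸ K) = 1920 := by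
    have e := Subgroup.card_mul_index K
    rwa [h.card_centralizer] at e
  have hq120 : Nat.card (C ⧸ K) = 120 ∧ Nat.card K = 16 := by
    have h1' : Nat.card K * Nat.card (C ⧸ K) ≤ Nat.card K * 120 :=
      Nat.mul_le_mul_left _ (hle.trans hS120)
    have h2' : 16 ≤ Nat.card K := by omega
    have h3' : Nat.card K = 16 := le_antisymm hK16 h2'
    rw [h3'] at hprod
    exact ⟨by omega, h3'⟩
  have hS : Nat.card S = 120 := le_antisymm hS120 (hq120.1 ▸ hle)
  refine ⟨hKcard ▸ hq120.2, hS, fun x hx hx2 hxQ => ?_⟩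
  have hbij := (Nat.bijective_iff_injective_and_card orb).2 ⟨horb, hq120.1.trans hS.symm⟩
  obtain ⟨q, hq⟩ := hbij.2 ⟨x, hx, hx2, hxQ⟩
  induction q using Quotient.inductionOn' with
  | h c => exact ⟨c, hmem.1 c.2, congrArg Subtype.val hq⟩

omit [Finite G] in
/-- An element of order 3 of `C(z)` centralising the pair of an involution. -/
theorem three_orbit {t : G} (ht : t * z = z * t) (ht2 : t * t = 1) (htQ : t ∉ Q) {f : Fin 5}
    (hf : (F.p ht : Equiv.Perm (Fin 5)) f = f) (htf : t * F.a f = F.a f * t)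
    {s : G} (hs : s * z = z * s) (h3 : orderOf s = 3) (hsf : s * F.a f = F.a f * s) :
    t * (s * t * s⁻¹) = s * t * s⁻¹ * t ∧
    Eqz z (t * (s * t * s⁻¹) * (s * (s * t * s⁻¹) * s⁻¹)) 1 ∨
    (t * (s * t * s⁻¹) = s * t * s⁻¹ * t ∧
    Eqz z (t * (s * t * s⁻¹) * (s * (s * t * s⁻¹) * s⁻¹)) (F.a f)) := by
  have hs3 : s * s * s = 1 := by
    have := pow_orderOf_eq_one s
    rwa [h3, pow_succ, pow_two] at this
  obtain ⟨h1, h2⟩ := F.p_invol h ht ht2 htQ
  have hr1 : F.p hs ≠ 1 := fun e => h.not_mem_of_three h3 ((F.ker_p h hs).1 e)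
  have hr3 : F.p hs * F.p hs * F.p hs = 1 := by
    rw [← map_mul, ← map_mul, ← map_one F.π]
    exact congrArg F.π (Subtype.ext hs3)
  have hrf := F.fix_of_commute h hs hsf
  obtain ⟨x, hx⟩ : ∃ x, x = t * (s * t * s⁻¹) * (s * (s * t * s⁻¹) * s⁻¹) := ⟨_, rfl⟩
  rw [← hx]
  have cz : ∀ {a b : G}, a * z = z * a → b * z = z * b → a * b * z = z * (a * b) :=
    fun {a b} ha hb => ((show Commute a z from ha).mul_left hb).eq
  have hsi : s⁻¹ * z = z * s⁻¹ := ((show Commute s z from hs).inv_left).eq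
  have ht' : s * t * s⁻¹ * z = z * (s * t * s⁻¹) := cz (cz hs ht) hsi
  have ht'' : s * (s * t * s⁻¹) * s⁻¹ * z = z * (s * (s * t * s⁻¹) * s⁻¹) := cz (cz hs ht') hsi
  have hxC : x * z = z * x := hx ▸ cz (cz ht ht') ht''
  have hxQ : x ∈ Q := by
    refine (F.ker ⟨x, Subgroup.mem_centralizer_singleton_iff.2 hxC⟩).1 ?_
    rw [← (Alt.three_orbit _ hr1 hr3 _ h1 h2 f hrf hf).1]
    simp only [← map_mul, ← map_inv]
    exact congrArg F.π (Subtype.ext hx)
  have hc1 : F.a f * (s * t * s⁻¹) = s * t * s⁻¹ * F.a f :=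
    (((show Commute (F.a f) s from hsf.symm).mul_right htf.symm).mul_right
      (show Commute (F.a f) s from hsf.symm).inv_right).eq
  have hc2 : F.a f * (s * (s * t * s⁻¹) * s⁻¹) = s * (s * t * s⁻¹) * s⁻¹ * F.a f :=
    (((show Commute (F.a f) s from hsf.symm).mul_right hc1).mul_right
      (show Commute (F.a f) s from hsf.symm).inv_right).eq
  have hxf : F.a f * x = x * F.a f :=
    hx ▸ (((show Commute (F.a f) t from htf.symm).mul_right hc1).mul_right hc2).eq
  have hcyc : s * x * s⁻¹ = t * x * t := by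
    rw [hx]
    calc s * (t * (s * t * s⁻¹) * (s * (s * t * s⁻¹) * s⁻¹)) * s⁻¹
        = (s * t * s⁻¹) * (s * (s * t * s⁻¹) * s⁻¹) * ((s * s * s) * t * (s * s * s)⁻¹) := by group
      _ = (s * t * s⁻¹) * (s * (s * t * s⁻¹) * s⁻¹) * t := by rw [hs3]; group
      _ = t * t * ((s * t * s⁻¹) * (s * (s * t * s⁻¹) * s⁻¹) * t) := by rw [ht2, one_mul]
      _ = _ := by group
  have hxE : Eqz z x 1 ∨ Eqz z x (F.a f) := by
    rcases F.centralizer_a h f hxQ hxf with e | e | ⟨i, j, hij, hif, hjf, e⟩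
    · exact Or.inl e
    · exact Or.inr e
    · exfalso
      have e1 := h.eqz_trans (h.eqz_conj (g := s) hs e) (F.act_mul h hs i j)
      have e2 := h.eqz_trans (h.eqz_conj (g := t) ht e) (F.act_mul h ht i j)
      rw [inv_eq_of_mul_eq_one_left ht2, ← hcyc] at e2
      have e3 := h.eqz_trans (h.eqz_symm e1) e2
      refine Alt.three_pairs _ hr1 hr3 _ h1 h2 f hrf hf i j hij hif hjf
        (F.pair _ _ _ _ (fun e' => hij (Equiv.injective _ e'))
          (fun e' => hij (Equiv.injective _ e')) e3)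
  obtain ⟨t', ht'def⟩ : ∃ t', t' = s * t * s⁻¹ := ⟨_, rfl⟩
  obtain ⟨t'', ht''def⟩ : ∃ t'', t'' = s * (s * t * s⁻¹) * s⁻¹ := ⟨_, rfl⟩
  rw [← ht''def] at ht'' hc2 hx
  rw [← ht'def] at ht' hx ⊢
  have ht'2 : t' * t' = 1 := by
    rw [ht'def, show s * t * s⁻¹ * (s * t * s⁻¹) = s * (t * t) * s⁻¹ by group, ht2, mul_one,
      mul_inv_cancel]
  have ht''2 : t'' * t'' = 1 := by
    rw [ht''def, show s * (s * t * s⁻¹) * s⁻¹ * (s * (s * t * s⁻¹) * s⁻¹) =
      s * s * (t * t) * (s * s)⁻¹ by group, ht2, mul_one, mul_inv_cancel]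
  have hx2 : x * x = 1 := by
    rcases hxE with e | e
    · rw [h.eqz_sq Q.one_mem e, one_mul]
    · rw [h.eqz_sq (F.mem f) e, F.sq]
  have hxc : Commute x t'' := by
    rcases hxE with (e | e) | (e | e) <;> rw [e]
    · exact Commute.one_left _
    · rw [one_mul]; exact ht''.symm
    · exact hc2
    · exact (show Commute (F.a f) t'' from hc2).mul_left ht''.symm
  have hcomm : t * t' = t' * t := by
    have e : t * t' = x * t'' := by rw [hx, mul_assoc _ t'' t'', ht''2, mul_one]
    have e2 : t * t' * (t * t') = 1 := by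
      rw [e, hxc.symm.mul_mul_mul_comm, hx2, ht''2, one_mul]
    calc t * t' = t * 1 * t' := by rw [mul_one]
      _ = t * (t * t' * (t * t')) * t' := by rw [e2]
      _ = t * t * t' * t * (t' * t') := by group
      _ = t' * t := by rw [ht2, ht'2, one_mul, mul_one]
  rcases hxE with e | e
  · exact Or.inl ⟨hcomm, e⟩
  · exact Or.inr ⟨hcomm, e⟩

/-- An element of order 3 of `C(z)` centralising a given pair. -/
theorem exists_three (f : Fin 5) :
    ∃ s : G, s * z = z * s ∧ orderOf s = 3 ∧ s * F.a f = F.a f * s := by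
  haveI := Fact.mk Nat.prime_three
  obtain ⟨r, hr1, hr3, hrf⟩ := Alt.exists_three_fix f
  obtain ⟨c, hc⟩ := F.surj r
  have hcz := Subgroup.mem_centralizer_singleton_iff.1 c.2
  have hc3 : (c : G) * c * c ∈ Q := by
    refine (F.ker (c * c * c)).1 ?_
    rw [map_mul, map_mul, hc, hr3]
  obtain ⟨s, hs⟩ : ∃ s : Subgroup.centralizer ({z} : Set G), s = c * c * (c * c) := ⟨_, rfl⟩
  have hps : F.π s = r := by
    rw [hs, map_mul, map_mul, hc, show r * r * (r * r) = r * r * r * r by group, hr3, one_mul]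
  have hs3 : (s : G) * s * s = 1 := by
    have e : (s : G) * s * s =
        (c : G) * c * c * ((c : G) * c * c) * ((c : G) * c * c * ((c : G) * c * c)) := by
      rw [hs]; simp only [Subgroup.coe_mul]; group
    rw [e]
    exact h.Q_sq_orderOf hc3
  have hsz := Subgroup.mem_centralizer_singleton_iff.1 s.2
  have hord : orderOf (s : G) = 3 := by
    refine orderOf_eq_prime (by rw [pow_succ, pow_two]; exact hs3) fun e => ?_
    rw [show s = 1 from Subtype.ext e, map_one] at hps
    exact hr1 hps.symm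
  refine ⟨s, hsz, hord, ?_⟩
  have e := F.act s f
  rw [hps, hrf] at e
  rcases e with e | e
  · calc (s : G) * F.a f = (s : G) * F.a f * (s : G)⁻¹ * s := by group
      _ = F.a f * s := by rw [e]
  · exfalso
    have hzs : Commute (z : G) (s : G)⁻¹ := (show Commute z (s : G) from hsz.symm).inv_right
    have e2 : (s : G) * ((s : G) * F.a f * (s : G)⁻¹) * (s : G)⁻¹ = F.a f := by
      rw [e, show (s : G) * (F.a f * z) * (s : G)⁻¹ = (s : G) * F.a f * (z * (s : G)⁻¹) by group,
        hzs.eq, ← mul_assoc, e, mul_assoc, h.zz, mul_one]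
    have e3 : (s : G) * ((s : G) * ((s : G) * F.a f * (s : G)⁻¹) * (s : G)⁻¹) * (s : G)⁻¹ =
        F.a f * z := by rw [e2, e]
    rw [show (s : G) * ((s : G) * ((s : G) * F.a f * (s : G)⁻¹) * (s : G)⁻¹) * (s : G)⁻¹ =
      ((s : G) * s * s) * F.a f * ((s : G) * s * s)⁻¹ by group, hs3, one_mul, inv_one, mul_one]
      at e3
    exact h.z_ne_one (mul_eq_left.1 e3.symm)

/-- The centraliser in `C(z)` of an involution outside `Q`. -/
theorem cent_outside {t : G} (ht : t * z = z * t) (ht2 : t * t = 1) (htQ : t ∉ Q) {f : Fin 5}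
    (hf : (F.p ht : Equiv.Perm (Fin 5)) f = f)
    (huniq : ∀ i, (F.p ht : Equiv.Perm (Fin 5)) i = i → i = f) (htf : t * F.a f = F.a f * t)
    {k : G} (hkz : k * z = z * k) (hkt : k * t = t * k) :
    k * k = 1 ∧ k * F.a f = F.a f * k ∧ (k ∈ Q → Eqz z k 1 ∨ Eqz z k (F.a f)) := by
  refine ⟨?_, ?_, fun hk => F.fix_cases h ht ht2 huniq hk hkt.symm⟩ <;>
  · obtain ⟨s, hs, h3, hsf⟩ := F.exists_three h f
    obtain ⟨h1, h2⟩ := F.p_invol h ht ht2 htQ
    have hr1 : F.p hs ≠ 1 := fun e => h.not_mem_of_three h3 ((F.ker_p h hs).1 e)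
    have hr3 : F.p hs * F.p hs * F.p hs = 1 := by
      rw [← map_mul, ← map_mul, ← map_one F.π]
      refine congrArg F.π (Subtype.ext ?_)
      have := pow_orderOf_eq_one s
      rwa [h3, pow_succ, pow_two] at this
    obtain ⟨-, hne⟩ := Alt.three_orbit _ hr1 hr3 _ h1 h2 f (F.fix_of_commute h hs hsf) hf
    have hcomm : t * (s * t * s⁻¹) = s * t * s⁻¹ * t :=
      (F.three_orbit h ht ht2 htQ hf htf hs h3 hsf).elim (·.1) (·.1)
    obtain ⟨t', ht'def⟩ : ∃ t', t' = s * t * s⁻¹ := ⟨_, rfl⟩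
    rw [← ht'def] at hcomm
    have hsi : Commute s⁻¹ z := (show Commute s z from hs).inv_left
    have ht'z : t' * z = z * t' :=
      ht'def ▸ (((show Commute s z from hs).mul_left ht).mul_left hsi).eq
    have ht'2 : t' * t' = 1 := by
      rw [ht'def, show s * t * s⁻¹ * (s * t * s⁻¹) = s * (t * t) * s⁻¹ by group, ht2, mul_one,
        mul_inv_cancel]
    have hp' : F.p ht'z = F.p hs * F.p ht * (F.p hs)⁻¹ := by
      rw [← map_inv, ← map_mul, ← map_mul]
      exact congrArg F.π (Subtype.ext ht'def)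
    have ht'f : t' * F.a f = F.a f * t' :=
      ht'def ▸ (((show Commute s (F.a f) from hsf).mul_left htf).mul_left
        (show Commute s (F.a f) from hsf).inv_left).eq
    have hp1 : F.p ht'z ≠ 1 := by rw [hp']; exact fun e => h1 (conj_eq_one_iff.1 e)
    have hp2 : F.p ht'z * F.p ht'z = 1 := by
      rw [← map_mul, ← map_one F.π]; exact congrArg F.π (Subtype.ext ht'2)
    have hpc : F.p ht * F.p ht'z = F.p ht'z * F.p ht := by
      rw [← map_mul, ← map_mul]; exact congrArg F.π (Subtype.ext hcomm)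
    have hkc : F.p hkz * F.p ht = F.p ht * F.p hkz := by
      rw [← map_mul, ← map_mul]; exact congrArg F.π (Subtype.ext hkt)
    obtain ⟨m, hmz, hm2, hmf, hmt, hmk⟩ : ∃ m : G, ∃ hmz : m * z = z * m, m * m = 1 ∧
        m * F.a f = F.a f * m ∧ m * t = t * m ∧ F.p hkz = F.p hmz := by
      rcases Alt.inv_four _ h1 h2 _ hp1 hp2 (hp' ▸ hne) hpc _ hkc with e | e | e | e
      · exact ⟨1, by simp, one_mul 1, by simp, by simp, e.trans (map_one F.π).symm⟩
      · exact ⟨t, ht, ht2, htf, rfl, e⟩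
      · exact ⟨t', ht'z, ht'2, ht'f, hcomm.symm, e⟩
      · refine ⟨t * t', ((show Commute t z from ht).mul_left ht'z).eq, ?_,
          ((show Commute t (F.a f) from htf).mul_left ht'f).eq,
          ((Commute.refl t).mul_left hcomm.symm).eq, e.trans (map_mul F.π _ _).symm⟩
        rw [(show Commute t' t from hcomm.symm).mul_mul_mul_comm, ht2, ht'2, one_mul]
    have hmi : m⁻¹ = m := inv_eq_of_mul_eq_one_left hm2
    have hkmz : k * m * z = z * (k * m) := ((show Commute k z from hkz).mul_left hmz).eq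
    have hkm : k * m ∈ Q := by
      refine (F.ker_p h hkmz).1 ?_
      calc F.p hkmz = F.p hkz * F.p hmz := map_mul F.π ⟨k, _⟩ ⟨m, _⟩
        _ = F.p hmz * F.p hmz := by rw [hmk]
        _ = 1 := by rw [← map_mul, ← map_one F.π]; exact congrArg F.π (Subtype.ext hm2)
    have hkme := F.fix_cases h ht ht2 huniq hkm
      ((show Commute t k from hkt.symm).mul_right hmt.symm).eq
    have hke : Commute (k * m) m ∧ Commute (k * m) (F.a f) ∧ k * m * (k * m) = 1 := by
      rcases hkme with e | e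
      · refine ⟨?_, ?_, by rw [h.eqz_sq Q.one_mem e, one_mul]⟩ <;>
        · rcases e with e | e <;> rw [e]
          · exact Commute.one_left _
          · rw [one_mul]
            first
              | exact hmz.symm
              | exact (h.hQC _ (F.mem f)).symm
      · refine ⟨?_, ?_, by rw [h.eqz_sq (F.mem f) e, F.sq]⟩
        · rcases e with e | e <;> rw [e]
          · exact hmf.symm
          · exact (show Commute (F.a f) m from hmf.symm).mul_left hmz.symm
        · rcases e with e | e <;> rw [e]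
          exact (Commute.refl (F.a f)).mul_left (h.hQC _ (F.mem f)).symm
    obtain ⟨hcm, hcf, hsq⟩ := hke
    have hk : k = k * m * m := by rw [mul_assoc, hm2, mul_one]
    rw [hk]
    first
      | rw [hcm.symm.mul_mul_mul_comm, hsq, hm2, one_mul]
      | exact (hcf.mul_left hmf).eq

end Frame

end CfsgLib.HallJanko
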