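import Cfsg.Agent.HallJanko.Sigma
import Cfsg.Agent.Components.FStar
import Cfsg.Agent.S0228

/-!
# The centraliser and normaliser of the four-group `V`
-/

set_option autoImplicit false
set_option linter.style.haveILetI false

namespace CfsgLib.HallJanko

variable {G : Type*} [Group G] [Finite G] {z : G} {Q : Subgroup G}

/-- The homomorphism from a group of order 2 given by an element squaring to one. -/
def invHom {H : Type*} [Monoid H] (v : H) (hv : v * v = 1) : Multiplicative (ZMod 2) →* H where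
  toFun a := v ^ (Multiplicative.toAdd a).val
  map_one' := by simp
  map_mul' a b := by
    rw [← pow_add, toAdd_mul]
    generalize Multiplicative.toAdd a = x
    generalize Multiplicative.toAdd b = y
    revert x y
    intro x y
    have hsq : v ^ 2 = 1 := by rw [pow_two]; exact hv
    have hd : ∀ x y : ZMod 2, (x + y).val = x.val + y.val ∨
        ((x + y).val = 0 ∧ x.val + y.val = 2) := by decide
    rcases hd x y with e | ⟨e, e'⟩
    · rw [e]
    · rw [e, e', pow_zero, hsq]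

theorem invHom_cases {H : Type*} [Monoid H] (v : H) (hv : v * v = 1) (a : Multiplicative (ZMod 2)) :
    (a = 1 ∧ invHom v hv a = 1) ∨ (a = Multiplicative.ofAdd 1 ∧ invHom v hv a = v) := by
  rcases (show ∀ x : ZMod 2, x = 0 ∨ x = 1 by decide) (Multiplicative.toAdd a) with e | e
  · exact Or.inl ⟨Multiplicative.toAdd.injective e, by simp [invHom, e]⟩
  · exact Or.inr ⟨Multiplicative.toAdd.injective e, by
      show v ^ (Multiplicative.toAdd a).val = v
      rw [e, show (1 : ZMod 2).val = 1 from rfl, pow_one]⟩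

namespace Loc

variable (h : Core z Q) (L : Loc z Q) {X0 : Subgroup G} (c : Comp h L X0)
include h c

theorem equiv_A5 : Nonempty (X0 ≃* alternatingGroup (Fin 5)) := (L.main h c).2.1

theorem scomm : ∀ y ∈ X0, L.s * y = y * L.s := c.scomm (L.equiv_A5 h c)

theorem card_X0 : Nat.card X0 = 60 := by
  obtain ⟨e⟩ := L.equiv_A5 h c
  rw [Nat.card_congr e.toEquiv, nat_card_alternatingGroup, Nat.card_fin]
  rfl

theorem eq_one_of_central {y : G} (hy : y ∈ X0) (hc : ∀ x ∈ X0, y * x = x * y) : y = 1 := by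
  obtain ⟨e⟩ := L.equiv_A5 h c
  haveI : IsSimpleGroup (alternatingGroup (Fin 5)) := alternatingGroup.isSimpleGroup (by simp)
  haveI : IsSimpleGroup X0 := e.isSimpleGroup
  rcases IsSimpleGroup.eq_bot_or_eq_top_of_normal (Subgroup.center X0) inferInstance with hb | ht
  · have : (⟨y, hy⟩ : X0) ∈ Subgroup.center X0 :=
      Subgroup.mem_center_iff.2 fun x => Subtype.ext (hc x x.2).symm
    rw [hb, Subgroup.mem_bot] at this
    exact congrArg Subtype.val this
  · exfalso
    have hr := congrArg Subtype.val (Subgroup.mem_center_iff.1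
      (ht ▸ Subgroup.mem_top (⟨z, c.memz⟩ : X0)) ⟨L.r, c.memr⟩)
    simp only [Subgroup.coe_mul] at hr
    have := L.hrz
    rw [hr, mul_inv_cancel_right] at this
    exact L.F.ne_z L.f this.symm

/-- An element centralising `t` centralises `V`. -/
theorem cent_V {g : G} (hg : g * L.t = L.t * g) {w : G} (hw : w ∈ L.V h) : g * w = w * g := by
  obtain ⟨v, hv, hvg⟩ := c.decomp g hg
  rw [show g = v * (v⁻¹ * g) by group]
  exact ((show Commute v w from L.V_mul_comm h hv hw).mul_left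
    (show Commute (v⁻¹ * g) w from (c.vcomm w hw _ hvg).symm)).eq

omit c in
theorem s_moves {v : G} (hv : v ∈ L.V h) (hc : L.s * v = v * L.s) : v = 1 := by
  have e : L.s * v * L.s⁻¹ = v := by rw [hc, mul_inv_cancel_right]
  rcases (L.mem_V h).1 hv with rfl | rfl | rfl | rfl
  · rfl
  · exact absurd e (L.t2_ne h).1
  · rw [(L.t_rel h).2] at e
    exact absurd (mul_eq_right.1 e) (fun e' => L.htQ (by rw [e']; exact Q.one_mem))
  · rw [show L.s * (L.t * L.t2) * L.s⁻¹ = L.t2 * (L.s * L.t2 * L.s⁻¹) by rw [t2]; group,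
      (L.t_rel h).2, ← mul_assoc, (L.t_rel h).1.symm, mul_assoc L.t L.t2 L.t2,
      (L.t2_facts h).2.1, mul_one] at e
    exact absurd (mul_eq_left.1 e.symm) (fun e' => (L.t2_facts h).2.2.1 (by rw [e']; exact Q.one_mem))

/-- The elements normalising `V`. -/
theorem norm_V {g : G} (hg : ∀ v ∈ L.V h, g * v * g⁻¹ ∈ L.V h) :
    ∃ i : ℕ, i < 3 ∧ ∃ v ∈ L.V h, ∃ y ∈ X0, g = L.s ^ i * (v * y) := by
  have key : ∀ i : ℕ, i < 3 → L.s ^ i * L.t * (L.s ^ i)⁻¹ = g * L.t * g⁻¹ →
      ∃ i : ℕ, i < 3 ∧ ∃ v ∈ L.V h, ∃ y ∈ X0, g = L.s ^ i * (v * y) := by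
    intro i hi e
    have hc : (L.s ^ i)⁻¹ * g * L.t = L.t * ((L.s ^ i)⁻¹ * g) := by
      calc (L.s ^ i)⁻¹ * g * L.t = (L.s ^ i)⁻¹ * (g * L.t * g⁻¹) * g := by group
        _ = L.t * ((L.s ^ i)⁻¹ * g) := by rw [← e]; group
    obtain ⟨v, hv, hy⟩ := c.decomp _ hc
    exact ⟨i, hi, v, hv, _, hy, by rw [mul_inv_cancel_left, mul_inv_cancel_left]⟩
  rcases (L.mem_V h).1 (hg _ (L.t_mem_V h)) with e | e | e | e
  · exact absurd (conj_eq_one_iff.1 e) (CfsgLib.Small.ne_one_of_orderOf_two (L.t_ord h))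
  · exact key 0 (by norm_num) (by rw [e]; simp)
  · exact key 1 (by norm_num) (by rw [e, pow_one]; rfl)
  · refine key 2 (by norm_num) ?_
    rw [e, pow_two, show L.s * L.s * L.t * (L.s * L.s)⁻¹ = L.s * L.t2 * L.s⁻¹ by rw [t2]; group]
    exact (L.t_rel h).2

omit c in
/-- The subgroup `V⟨s⟩`. -/
theorem exists_M : ∃ M : Subgroup G, L.V h ≤ M ∧ L.s ∈ M ∧
    Nat.card M = 12 ∧ ∀ m ∈ M, ∃ v ∈ L.V h, ∃ i : ℤ, m = v * L.s ^ i := by
  haveI := Fintype.ofFinite G
  refine ⟨L.V h ⊔ Subgroup.zpowers L.s, le_sup_left,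
    Subgroup.mem_sup_right (Subgroup.mem_zpowers _), ?_⟩
  have hn : Subgroup.zpowers L.s ≤ Subgroup.normalizer (L.V h : Set G) := by
    rw [Subgroup.zpowers_le, Subgroup.mem_normalizer_iff]
    intro v
    refine ⟨L.s_V h, fun hv => ?_⟩
    obtain ⟨⟨w, hw⟩, hwe⟩ := Finite.surjective_of_injective
      (f := fun w : L.V h => (⟨L.s * w * L.s⁻¹, L.s_V h w.2⟩ : L.V h))
      (fun a b e => Subtype.ext (mul_left_cancel (mul_right_cancel (congrArg Subtype.val e))))
      ⟨_, hv⟩
    have e : L.s * w * L.s⁻¹ = L.s * v * L.s⁻¹ := congrArg Subtype.val hwe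
    rw [← mul_left_cancel (mul_right_cancel e)]
    exact hw
  have hset := Subgroup.coe_mul_of_right_le_normalizer_left (L.V h) (Subgroup.zpowers L.s) hn
  have hdec : ∀ m ∈ L.V h ⊔ Subgroup.zpowers L.s, ∃ v ∈ L.V h, ∃ i : ℤ, m = v * L.s ^ i := by
    intro m hm
    rw [← SetLike.mem_coe, hset] at hm
    obtain ⟨v, hv, w, hw, rfl⟩ := hm
    obtain ⟨i, rfl⟩ := Subgroup.mem_zpowers_iff.1 hw
    exact ⟨v, hv, i, rfl⟩
  refine ⟨?_, hdec⟩
  let f : L.V h × Subgroup.zpowers L.s → (L.V h ⊔ Subgroup.zpowers L.s : Subgroup G) :=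
    fun p => ⟨(p.1 : G) * p.2,
      Subgroup.mul_mem _ (Subgroup.mem_sup_left p.1.2) (Subgroup.mem_sup_right p.2.2)⟩
  have hf : Function.Bijective f := by
    constructor
    · rintro ⟨⟨v, hv⟩, ⟨w, hw⟩⟩ ⟨⟨v', hv'⟩, ⟨w', hw'⟩⟩ e
      have e' : v * w = v' * w' := congrArg Subtype.val e
      have e2 : v'⁻¹ * v = w' * w⁻¹ := by
        calc v'⁻¹ * v = v'⁻¹ * (v * w) * w⁻¹ := by group
          _ = w' * w⁻¹ := by rw [e']; group
      have e3 : v'⁻¹ * v = 1 := by
        obtain ⟨i, hi⟩ := Subgroup.mem_zpowers_iff.1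
          (e2 ▸ (Subgroup.zpowers L.s).mul_mem hw' ((Subgroup.zpowers L.s).inv_mem hw))
        have hsq := (L.V_comm h ((L.V h).mul_mem ((L.V h).inv_mem hv') hv)).2.2.2.2
        rw [← hi] at hsq ⊢
        exact L.s_pow_eq_one h hsq
      obtain rfl : v' = v := inv_mul_eq_one.1 e3
      exact Prod.ext rfl (Subtype.ext (mul_left_cancel e'))
    · rintro ⟨m, hm⟩
      obtain ⟨v, hv, i, rfl⟩ := hdec m hm
      exact ⟨(⟨v, hv⟩, ⟨L.s ^ i, Subgroup.zpow_mem_zpowers _ _⟩), rfl⟩
  rw [← Nat.card_eq_of_bijective f hf, Nat.card_prod, L.card_V h, Nat.card_zpowers, L.hs3]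

theorem M_comm {M : Subgroup G} (hM : ∀ m ∈ M, ∃ v ∈ L.V h, ∃ i : ℤ, m = v * L.s ^ i) :
    ∀ m ∈ M, ∀ y ∈ X0, m * y = y * m := by
  intro m hm y hy
  obtain ⟨v, hv, i, rfl⟩ := hM m hm
  exact ((show Commute v y from c.vcomm v hv y hy).mul_left
    ((show Commute L.s y from L.scomm h c y hy).zpow_left i)).eq

omit h c in
/-- An internal direct product as a product. -/
theorem prod_equiv {H A B : Subgroup G} (hA : A ≤ H) (hB : B ≤ H)
    (hcomm : ∀ a ∈ A, ∀ b ∈ B, a * b = b * a) (hinter : ∀ a ∈ A, a ∈ B → a = 1)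
    (hdec : ∀ g ∈ H, ∃ a ∈ A, a⁻¹ * g ∈ B) : Nonempty (H ≃* A × B) := by
  let f : A × B →* H :=
    { toFun := fun p => ⟨(p.1 : G) * p.2, H.mul_mem (hA p.1.2) (hB p.2.2)⟩
      map_one' := Subtype.ext (one_mul 1)
      map_mul' := fun p q => Subtype.ext (by
        show ((p.1 : G) * q.1) * ((p.2 : G) * q.2) = (p.1 : G) * p.2 * ((q.1 : G) * q.2)
        exact ((show Commute (p.2 : G) (q.1 : G) from
          (hcomm _ q.1.2 _ p.2.2).symm).mul_mul_mul_comm _ _).symm) }
  have hf : Function.Bijective f := by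
    refine ⟨(injective_iff_map_eq_one f).2 ?_, fun g => ?_⟩
    · rintro ⟨a, b⟩ e
      have e' : (a : G) * b = 1 := congrArg Subtype.val e
      have ha1 : (a : G) = 1 :=
        hinter a a.2 (by rw [eq_inv_of_mul_eq_one_left e']; exact B.inv_mem b.2)
      rw [ha1, one_mul] at e'
      exact Prod.ext (Subtype.ext ha1) (Subtype.ext e')
    · obtain ⟨a, ha, hb⟩ := hdec g g.2
      exact ⟨(⟨a, ha⟩, ⟨_, hb⟩), Subtype.ext (mul_inv_cancel_left a (g : G))⟩
  exact ⟨(MulEquiv.ofBijective f hf).symm⟩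

/-- `V ≅ 2²`. -/
theorem equiv_V : Nonempty (L.V h ≃* Multiplicative (ZMod 2) × Multiplicative (ZMod 2)) := by
  obtain ⟨a, ha⟩ : ∃ a : L.V h, a = ⟨L.t, L.t_mem_V h⟩ := ⟨_, rfl⟩
  obtain ⟨b, hb⟩ : ∃ b : L.V h, b = ⟨L.t2, L.t2_mem_V h⟩ := ⟨_, rfl⟩
  have hcc : ∀ x y : L.V h, x * y = y * x := fun x y => Subtype.ext (L.V_mul_comm h x.2 y.2)
  have haa : a * a = 1 := Subtype.ext (L.V_comm h a.2).2.2.2.2
  have hbb : b * b = 1 := Subtype.ext (L.V_comm h b.2).2.2.2.2
  let f : Multiplicative (ZMod 2) × Multiplicative (ZMod 2) →* L.V h :=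
    MonoidHom.mk' (fun p => invHom a haa p.1 * invHom b hbb p.2) fun p q => by
      rw [Prod.fst_mul, Prod.snd_mul, map_mul, map_mul]
      exact ((show Commute (invHom b hbb p.2) (invHom a haa q.1) from
        hcc _ _).mul_mul_mul_comm _ _).symm
  have hf : Function.Bijective f := by
    refine (Nat.bijective_iff_injective_and_card f).2 ⟨(injective_iff_map_eq_one f).2 ?_, ?_⟩
    · rintro ⟨p, q⟩ e
      have e' : ((invHom a haa p * invHom b hbb q : L.V h) : G) = 1 := congrArg Subtype.val e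
      rw [Subgroup.coe_mul] at e'
      rcases invHom_cases a haa p with ⟨hp, h1⟩ | ⟨hp, h1⟩ <;>
        rcases invHom_cases b hbb q with ⟨hq, h2⟩ | ⟨hq, h2⟩ <;> rw [h1, h2] at e' <;>
        simp only [ha, hb, Subgroup.coe_one, one_mul, mul_one] at e'
      · rw [hp, hq]; rfl
      · exact absurd (by rw [e']; exact Q.one_mem) (L.t2_facts h).2.2.1
      · exact absurd (by rw [e']; exact Q.one_mem) L.htQ
      · exact absurd (by rw [e']; exact Q.one_mem) (L.t2_ne h).2
    · rw [L.card_V h]; simp [Nat.card_eq_fintype_card]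
  exact ⟨(MulEquiv.ofBijective f hf).symm⟩

/-- The structure of `C(t)` and of `N(V)` for the distinguished involution. -/
theorem centralizer_structure :
    Nonempty (↥(Subgroup.centralizer ({L.t} : Set G)) ≃*
      (Multiplicative (ZMod 2) × Multiplicative (ZMod 2)) × alternatingGroup (Fin 5)) ∧
    (Cfsg.pCore 2 ↥(Subgroup.centralizer ({L.t} : Set G))).map
      (Subgroup.centralizer ({L.t} : Set G)).subtype = L.V h ∧
    Nonempty (↥(Subgroup.normalizer (L.V h : Set G)) ≃*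
      alternatingGroup (Fin 4) × alternatingGroup (Fin 5)) := by
  classical
  haveI := Fintype.ofFinite G
  haveI := Fact.mk Nat.prime_two
  set X := Subgroup.centralizer ({L.t} : Set G) with hX
  have hmem : ∀ {g : G}, g ∈ X ↔ g * L.t = L.t * g := Subgroup.mem_centralizer_singleton_iff
  obtain ⟨eA⟩ := L.equiv_A5 h c
  obtain ⟨eV⟩ := L.equiv_V h c
  have hVX : L.V h ≤ X := fun v hv => hmem.2 (L.V_comm h hv).2.2.2.1
  have hX0X : X0 ≤ X := fun y hy => hmem.2 (c.le y hy)
  obtain ⟨eX⟩ := prod_equiv (H := X) hVX hX0X c.vcomm c.inter fun g hg => c.decomp g (hmem.1 hg)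
  refine ⟨⟨eX.trans (eV.prodCongr eA)⟩, ?_, ?_⟩
  · apply le_antisymm
    · rintro _ ⟨g, hg, rfl⟩
      have hP : IsPGroup 2 (Cfsg.pCore 2 X) := CfsgLib.Components.isPGroup_pCore 2
      haveI hPn : (Cfsg.pCore 2 X).Normal := Subgroup.sSup_normal _ fun _ hN => hN.1
      -- the core meets `X0` trivially
      let X0' : Subgroup X := X0.subgroupOf X
      have e' : X0' ≃* X0 := Subgroup.subgroupOfEquivOfLe hX0X
      haveI : IsSimpleGroup (alternatingGroup (Fin 5)) := alternatingGroup.isSimpleGroup (by simp)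
      haveI : IsSimpleGroup X0' := (e'.trans eA).isSimpleGroup
      have hX0n : ∀ x : X, ∀ y ∈ X0', x * y * x⁻¹ ∈ X0' := fun x y hy =>
        Subgroup.mem_subgroupOf.2 (c.nrm x (hmem.1 x.2) y (Subgroup.mem_subgroupOf.1 hy))
      haveI : ((Cfsg.pCore 2 X).subgroupOf X0').Normal := hPn.comap X0'.subtype
      have hinter : ∀ x ∈ Cfsg.pCore 2 X, x ∈ X0' → x = 1 := by
        intro x hx hx0
        rcases IsSimpleGroup.eq_bot_or_eq_top_of_normal
          ((Cfsg.pCore 2 X).subgroupOf X0') inferInstance with hb | ht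
        · have : (⟨x, hx0⟩ : X0') ∈ (Cfsg.pCore 2 X).subgroupOf X0' := Subgroup.mem_subgroupOf.2 hx
          rw [hb, Subgroup.mem_bot] at this
          exact congrArg Subtype.val this
        · exfalso
          obtain ⟨n, hn⟩ := hP.exists_card_eq
          have hle : X0' ≤ Cfsg.pCore 2 X := fun w hw => Subgroup.mem_subgroupOf.1
            (ht ▸ Subgroup.mem_top (⟨w, hw⟩ : X0'))
          have hd := Subgroup.card_dvd_of_le hle
          rw [hn, Nat.card_congr e'.toEquiv, L.card_X0 h c] at hd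
          have := Nat.prime_three.dvd_of_dvd_pow ((show (3 : ℕ) ∣ 60 by norm_num).trans hd)
          norm_num at this
      obtain ⟨v, hv, hvg⟩ := c.decomp g (hmem.1 g.2)
      have hy1 : v⁻¹ * (g : G) = 1 := by
        refine L.eq_one_of_central h c hvg fun x hx => ?_
        have hxm : (⟨x, hX0X hx⟩ : X) ∈ X0' := Subgroup.mem_subgroupOf.2 hx
        have e1 : g * ⟨x, hX0X hx⟩ * g⁻¹ * (⟨x, hX0X hx⟩ : X)⁻¹ = 1 := by
          refine hinter _ ?_ (X0'.mul_mem (hX0n g _ hxm) (X0'.inv_mem hxm))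
          rw [mul_assoc, mul_assoc, ← mul_assoc (⟨x, hX0X hx⟩ : X)]
          exact (Cfsg.pCore 2 X).mul_mem hg
            (hPn.conj_mem _ ((Cfsg.pCore 2 X).inv_mem hg) _)
        have hgx : (g : G) * x = x * g :=
          congrArg Subtype.val (mul_inv_eq_iff_eq_mul.1 (mul_inv_eq_one.1 e1))
        exact ((show Commute v x from c.vcomm v hv x hx).inv_left.mul_left hgx).eq
      rw [Subgroup.coe_subtype, ← inv_mul_eq_one.1 hy1]
      exact hv
    · intro v hv
      haveI : ((L.V h).subgroupOf X).Normal := ⟨fun w hw g => by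
        rw [Subgroup.mem_subgroupOf] at hw ⊢
        rw [Subgroup.coe_mul, Subgroup.coe_mul, Subgroup.coe_inv,
          L.cent_V h c (hmem.1 g.2) hw, mul_inv_cancel_right]
        exact hw⟩
      refine ⟨⟨v, hVX hv⟩, CfsgLib.Components.le_pCore ?_ (Subgroup.mem_subgroupOf.2 hv), rfl⟩
      exact IsPGroup.of_card (n := 2) (by
        rw [Nat.card_congr (Subgroup.subgroupOfEquivOfLe hVX).toEquiv, L.card_V h]
        rfl)
  · obtain ⟨M, hVM, hsM, hMcard, hMdec⟩ := L.exists_M h
    have hcomm := L.M_comm h c hMdec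
    have hN : ∀ {g : G}, (∀ v ∈ L.V h, g * v * g⁻¹ ∈ L.V h) →
        g ∈ Subgroup.normalizer (L.V h : Set G) := by
      intro g hg
      rw [Subgroup.mem_normalizer_iff]
      refine fun x => ⟨hg x, fun hx => ?_⟩
      obtain ⟨⟨w, hw⟩, hwe⟩ := Finite.surjective_of_injective
        (f := fun w : L.V h => (⟨g * w * g⁻¹, hg w w.2⟩ : L.V h))
        (fun a b e => Subtype.ext (mul_left_cancel (mul_right_cancel (congrArg Subtype.val e))))
        ⟨_, hx⟩
      have e : g * w * g⁻¹ = g * x * g⁻¹ := congrArg Subtype.val hwe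
      rw [← mul_left_cancel (mul_right_cancel e)]
      exact hw
    have hsN : L.s ∈ Subgroup.normalizer (L.V h : Set G) := hN fun v hv => L.s_V h hv
    have hMN : M ≤ Subgroup.normalizer (L.V h : Set G) := by
      intro m hm
      obtain ⟨v, hv, i, rfl⟩ := hMdec m hm
      exact Subgroup.mul_mem _ (Subgroup.le_normalizer hv) (Subgroup.zpow_mem _ hsN i)
    have hX0N : X0 ≤ Subgroup.normalizer (L.V h : Set G) := fun y hy => hN fun v hv => by
      rw [← c.vcomm v hv y hy, mul_inv_cancel_right]; exact hv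
    obtain ⟨eN⟩ := prod_equiv (H := Subgroup.normalizer (L.V h : Set G)) hMN hX0N hcomm
      (fun m hm hm0 => L.eq_one_of_central h c hm0 fun x hx => hcomm m hm x hx) fun g hg => by
        obtain ⟨i, -, v, hv, y, hy, rfl⟩ :=
          L.norm_V h c fun v hv => (Subgroup.mem_normalizer_iff.1 hg v).1 hv
        exact ⟨L.s ^ i * v, M.mul_mem (M.pow_mem hsM i) (hVM hv), by
          rw [show (L.s ^ i * v)⁻¹ * (L.s ^ i * (v * y)) = y by group]; exact hy⟩
    obtain ⟨eM⟩ := Cfsg.Agent.S0228.result (G := M) hMcard (by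
      intro w hw hcen
      obtain ⟨v, hv, i, e⟩ := hMdec w w.2
      have hws := congrArg Subtype.val (Subgroup.mem_center_iff.1 hcen ⟨L.s, hsM⟩)
      simp only [Subgroup.coe_mul, e] at hws
      have hv1 : v = 1 := L.s_moves h hv (by
        have e3 : L.s * v * L.s ^ i = v * L.s * L.s ^ i := by
          calc L.s * v * L.s ^ i = v * L.s ^ i * L.s := by rw [mul_assoc, hws]
            _ = v * L.s * L.s ^ i := by group
        exact mul_right_cancel e3)
      have hww : (w : G) * w = 1 := CfsgLib.Small.mul_self_of_orderOf_two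
        (by rw [Subgroup.orderOf_coe, hw])
      rw [e, hv1, one_mul] at hww
      have : w = 1 := Subtype.ext (by rw [e, hv1, L.s_pow_eq_one h hww, one_mul]; rfl)
      rw [this, orderOf_one] at hw
      norm_num at hw)
    exact ⟨eN.trans (eM.prodCongr eA)⟩

end Loc

end CfsgLib.HallJanko
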