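import Cfsg.Agent.HallJanko.Invol
import Cfsg.Agent.ZStar.Theorem

/-!
# In a simple group the central involution is not weakly closed in `Q`
-/

set_option autoImplicit false
set_option linter.style.haveILetI false

namespace CfsgLib.HallJanko

variable {G : Type*} [Group G] [Finite G] {z : G} {Q : Subgroup G}

namespace PreCore

variable (h : PreCore z Q)
include h

/-- For a conjugate `x` of `z` in `C(z)`, the involutions centralising both that are not
conjugate to `z` form a pair with product `z`, if `z` is weakly closed in `Q`. -/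
theorem weak_pair (hw : ∀ u ∈ Q, IsConj z u → u = z) {x : G} (hx : x * z = z * x)
    (hzx : IsConj z x) (hne : x ≠ z) :
    ∃ u : G, u ≠ 1 ∧ u * u = 1 ∧ u * z = z * u ∧ u * x = x * u ∧ ¬ IsConj z u ∧
      ¬ IsConj z (u * z) ∧
      ∀ k : G, k ≠ 1 → k * k = 1 → k * z = z * k → k * x = x * k → ¬ IsConj z k →
        k = u ∨ k = u * z := by
  obtain ⟨F⟩ := h.exists_frame
  have hxQ : x ∉ Q := fun hq => hne (hw x hq hzx)
  have hx2 : x * x = 1 := by
    obtain ⟨c, hc⟩ := isConj_iff.1 hzx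
    rw [← hc, show c * z * c⁻¹ * (c * z * c⁻¹) = c * (z * z) * c⁻¹ by group, h.zz, mul_one,
      mul_inv_cancel]
  obtain ⟨f, -, huniq, hxf⟩ := F.exists_fixed h hx hx2 hxQ
  refine ⟨F.a f, F.ne_one f, F.sq f, h.hQC _ (F.mem f), hxf.symm,
    fun e => F.ne_z f (hw _ (F.mem f) e),
    fun e => F.ne_one f (mul_eq_right.1 (hw _ (Q.mul_mem (F.mem f) h.hzQ) e)), ?_⟩
  intro k hk1 hk2 hkz hkx hnz
  have hkQ : k ∈ Q := by
    by_contra hkQ
    obtain ⟨c, -, hc⟩ := (F.outside_main h hx hx2 hxQ).2.2 k hkz hk2 hkQ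
    exact hnz (hzx.trans (isConj_iff.2 ⟨c, hc⟩))
  rcases F.fix_cases h hx hx2 huniq hkQ hkx.symm with (e | e) | (e | e)
  · exact absurd e hk1
  · exact absurd (by rw [e, one_mul]) hnz
  · exact Or.inl e
  · exact Or.inr e

/-- In a simple group some other conjugate of `z` lies in `Q`. -/
theorem exists_conj_mem [IsSimpleGroup G] : ∃ u ∈ Q, u ≠ z ∧ IsConj z u := by
  by_contra! hw'
  have hw : ∀ u ∈ Q, IsConj z u → u = z := fun u hu hc => by_contra fun hne => hw' u hu hne hc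
  have hO : ∀ N : Subgroup G, N.Normal → Odd (Nat.card N) → N = ⊥ := fun N hN hodd => by
    refine (IsSimpleGroup.eq_bot_or_eq_top_of_normal N hN).resolve_right fun e => ?_
    have h2 : 2 ∣ Nat.card N := by
      rw [e, Subgroup.card_top, ← h.hz]
      exact orderOf_dvd_natCard z
    exact Nat.not_even_iff_odd.2 hodd (even_iff_two_dvd.2 h2)
  have hnc : z ∉ Subgroup.center G := by
    intro hc
    have htop : Subgroup.centralizer ({z} : Set G) = ⊤ := by
      rw [eq_top_iff]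
      intro g _
      exact Subgroup.mem_centralizer_singleton_iff.2 (Subgroup.mem_center_iff.1 hc g)
    have hcard := h.card_centralizer
    rw [htop, Subgroup.card_top] at hcard
    haveI hn : (Subgroup.zpowers z).Normal := ⟨fun y hy g => by
      obtain ⟨k, rfl⟩ := hy
      have : g * z ^ k = z ^ k * g :=
        ((show Commute g z from Subgroup.mem_center_iff.1 hc g).zpow_right k).eq
      rw [this, mul_inv_cancel_right]
      exact ⟨k, rfl⟩⟩
    rcases IsSimpleGroup.eq_bot_or_eq_top_of_normal _ hn with e | e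
    · exact h.z_ne_one (Subgroup.zpowers_eq_bot.1 e)
    · have := Nat.card_zpowers z
      rw [e, Subgroup.card_top, hcard, h.hz] at this
      norm_num at this
  obtain ⟨g, hgc, hgne⟩ : ∃ g : G, Commute z (g * z * g⁻¹) ∧ g * z * g⁻¹ ≠ z := by
    by_contra! hiso
    exact hnc (CfsgLib.ZStar.mem_center_of_isolated ⟨h.hz, hiso⟩ hO)
  obtain ⟨x, hxdef⟩ : ∃ x, x = g * z * g⁻¹ := ⟨_, rfl⟩
  rw [← hxdef] at hgc hgne
  obtain ⟨w, hwdef⟩ : ∃ w, w = g⁻¹ * z * g := ⟨_, rfl⟩
  have hgw : g * w * g⁻¹ = z := by rw [hwdef]; group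
  have hwne : w ≠ z := fun e => hgne (by rw [hxdef, ← e, hgw]; exact e.symm)
  have hwz : w * z = z * w := by
    have e : g * (w * z) * g⁻¹ = g * (z * w) * g⁻¹ := by
      rw [show g * (w * z) * g⁻¹ = (g * w * g⁻¹) * (g * z * g⁻¹) by group,
        show g * (z * w) * g⁻¹ = (g * z * g⁻¹) * (g * w * g⁻¹) by group, hgw, ← hxdef, hgc.eq]
    exact mul_left_cancel (mul_right_cancel e)
  obtain ⟨u, -, hu2, huz, hux, -, -, hu⟩ :=
    h.weak_pair hw hgc.eq.symm (isConj_iff.2 ⟨g, hxdef.symm⟩) hgne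
  obtain ⟨v, hv1, hv2, hvz, hvw, hvn, hvzn, -⟩ := h.weak_pair hw hwz
    (isConj_iff.2 ⟨g⁻¹, by rw [hwdef, inv_inv]⟩) hwne
  have key : ∀ k : G, k ≠ 1 → k * k = 1 → k * z = z * k → k * w = w * k → ¬ IsConj z k →
      g * k * g⁻¹ = u ∨ g * k * g⁻¹ = u * z := by
    intro k h1 h2 h3 h4 h5
    refine hu _ (fun e => h1 (conj_eq_one_iff.1 e)) ?_ ?_ ?_
      fun e => h5 (e.trans (isConj_iff.2 ⟨g, rfl⟩).symm)
    · rw [show g * k * g⁻¹ * (g * k * g⁻¹) = g * (k * k) * g⁻¹ by group, h2, mul_one,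
        mul_inv_cancel]
    · rw [← hgw, show g * k * g⁻¹ * (g * w * g⁻¹) = g * (k * w) * g⁻¹ by group, h4]
      group
    · rw [hxdef, show g * k * g⁻¹ * (g * z * g⁻¹) = g * (k * z) * g⁻¹ by group, h3]
      group
  have e1 := key v hv1 hv2 hvz hvw hvn
  have e2 := key (v * z) (fun e => hvn (by
      rw [show v = z by rw [← mul_one v, ← h.zz, ← mul_assoc, e, one_mul]]))
    (by rw [mul_assoc, ← mul_assoc z v z, ← hvz, mul_assoc v z z, h.zz, mul_one, hv2])
    (by rw [mul_assoc, h.zz, mul_one, ← mul_assoc, ← hvz, mul_assoc, h.zz, mul_one])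
    (((show Commute v w from hvw).mul_left (show Commute z w from hwz.symm))).eq hvzn
  have hprod : g * v * g⁻¹ * (g * (v * z) * g⁻¹) = x := by
    rw [hxdef, show g * v * g⁻¹ * (g * (v * z) * g⁻¹) = g * (v * v) * z * g⁻¹ by group, hv2,
      mul_one]
  rcases e1 with e1 | e1 <;> rcases e2 with e2 | e2 <;> rw [e1, e2] at hprod
  · rw [hu2] at hprod
    exact h.z_ne_one (conj_eq_one_iff.1 (hxdef.symm.trans hprod.symm))
  · rw [← mul_assoc, hu2, one_mul] at hprod
    exact hgne hprod.symm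
  · rw [mul_assoc, ← huz, ← mul_assoc, hu2, one_mul] at hprod
    exact hgne hprod.symm
  · rw [mul_assoc, ← mul_assoc z u z, ← huz, mul_assoc u z z, h.zz, mul_one, hu2] at hprod
    exact h.z_ne_one (conj_eq_one_iff.1 (hxdef.symm.trans hprod.symm))

end PreCore

end CfsgLib.HallJanko
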