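import Cfsg.Agent.HallJanko.Comp
import Cfsg.Agent.Small.ThompsonOrder
import Cfsg.Agent.Inv54.AltFive
import Cfsg.Agent.S0228

/-!
# The order formula
-/

set_option autoImplicit false
set_option linter.style.haveILetI false

namespace CfsgLib.HallJanko

theorem pairs_A4 : Fintype.card {p : alternatingGroup (Fin 4) × alternatingGroup (Fin 4) //
    (p.1 ≠ 1 ∧ p.1 * p.1 = 1) ∧ (p.2 * p.2 = 1 ∧ (p.1 * p.2) ^ 15 = 1)} = 3 := by decide +kernel

theorem exp_A4 : ∀ g : alternatingGroup (Fin 4), g ^ 15 = 1 ∨ g * g = 1 := by decide +kernel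

variable {G : Type*} [Group G] [Finite G] {z : G} {Q : Subgroup G}

namespace Core

variable (h : Core z Q)
include h

theorem exists_locdata : Nonempty (Loc z Q) := by
  obtain ⟨F⟩ := h.exists_frame
  obtain ⟨s, hs, hs3, hsu⟩ := F.exists_three h 0
  obtain ⟨L, -⟩ := F.exists_loc h 0 hs hs3 hsu
  exact ⟨L⟩

/-- Two involutions with `w` in the group generated by their product commute with `w`. -/
theorem invol_commute {x y w : G} (hx : orderOf x = 2) (hy : orderOf y = 2) (hw : orderOf w = 2)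
    (hwm : w ∈ Subgroup.zpowers (x * y)) : x * w = w * x ∧ y * w = w * y := by
  have hev : Even (orderOf (x * y)) := by
    rw [even_iff_two_dvd, ← hw]
    exact orderOf_dvd_of_mem_zpowers hwm
  obtain ⟨-, h1, h2⟩ := CfsgLib.Small.half_pow_spec hx hy hev
  rw [← CfsgLib.Small.invol_mem_zpowers_eq hw hwm] at h1 h2
  exact ⟨h1.eq.symm, h2.eq.symm⟩

theorem card_pairs_z {t : G} (ht : t * z = z * t) (ht2 : t * t = 1) (htQ : t ∉ Q) :
    Nat.card {p : G × G // IsConj z p.1 ∧ IsConj t p.2 ∧ z ∈ Subgroup.zpowers (p.1 * p.2)} = 960 := by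
  classical
  haveI := Fintype.ofFinite G
  obtain ⟨F⟩ := h.exists_frame
  let A : Set G := Set.range fun p : Fin 5 × Bool => F.a p.1 * cond p.2 z 1
  have hA : ∀ x, x ∈ A ↔ ∃ i, Eqz z x (F.a i) := by
    intro x
    constructor
    · rintro ⟨⟨i, b⟩, rfl⟩
      cases b
      · exact ⟨i, Or.inl (mul_one _)⟩
      · exact ⟨i, Or.inr rfl⟩
    · rintro ⟨i, rfl | rfl⟩
      · exact ⟨(i, false), mul_one _⟩
      · exact ⟨(i, true), rfl⟩
  have hA10 : A.ncard = 10 := by
    rw [Set.ncard_range_of_injective]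
    · simp [Nat.card_eq_fintype_card]
    rintro ⟨i, b⟩ ⟨j, c⟩ e
    have hij : i = j := by
      refine F.dist i j ?_
      cases b <;> cases c <;> simp only [cond_true, cond_false, mul_one] at e
      · exact Or.inl e
      · exact Or.inr e
      · exact h.eqz_symm (Or.inr e.symm)
      · exact Or.inl (mul_right_cancel e)
    subst hij
    have e' := mul_left_cancel e
    cases b <;> cases c
    · rfl
    · exact absurd e'.symm h.z_ne_one
    · exact absurd e' h.z_ne_one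
    · rfl
  have hAprop : ∀ x ∈ A, x ∈ Q ∧ x * x = 1 ∧ x ≠ 1 ∧ x ≠ z := by
    intro x hx
    obtain ⟨i, e⟩ := (hA x).1 hx
    refine ⟨h.eqz_mem (F.mem i) e, by rw [h.eqz_sq (F.mem i) e, F.sq], fun hx1 => ?_, fun hxz => ?_⟩
    · rcases h.eqz_symm e with e' | e' <;> rw [hx1] at e'
      · exact F.ne_one i e'
      · exact F.ne_z i (e'.trans (one_mul z))
    · rcases h.eqz_symm e with e' | e' <;> rw [hxz] at e'
      · exact F.ne_z i e'
      · exact F.ne_one i (e'.trans h.zz)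
  let S := {y : G // y * z = z * y ∧ y * y = 1 ∧ y ∉ Q}
  have hfib : ∀ y : S, Nat.card {x : G // x ∈ A ∧ x * y.1 ≠ y.1 * x} = 8 := by
    intro y
    obtain ⟨f, -, huniq, hyf⟩ := F.exists_fixed h y.2.1 y.2.2.1 y.2.2.2
    have hset : {x : G | x ∈ A ∧ x * y.1 ≠ y.1 * x} = A \ {F.a f, F.a f * z} := by
      ext x
      simp only [Set.mem_setOf_eq, Set.mem_sdiff, Set.mem_insert_iff, Set.mem_singleton_iff]
      refine and_congr_right fun hx => ⟨fun hne => ?_, fun hn hc => ?_⟩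
      · rintro (rfl | rfl)
        · exact hne hyf.symm
        · exact hne ((show Commute (F.a f) y.1 from hyf.symm).mul_left y.2.1.symm).eq
      · obtain ⟨i, e⟩ := (hA x).1 hx
        have e2 := h.eqz_conj (g := y.1) y.2.1 e
        rw [← hc, mul_inv_cancel_right] at e2
        have hi : i = f := huniq i (F.dist _ _
          (h.eqz_trans (h.eqz_symm (h.eqz_trans e2
            (F.act ⟨y.1, Subgroup.mem_centralizer_singleton_iff.2 y.2.1⟩ i))) e))
        subst hi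
        exact hn e
    show Nat.card ↥{x : G | x ∈ A ∧ x * y.1 ≠ y.1 * x} = 8
    rw [Nat.card_coe_set_eq, hset, Set.ncard_diff ?_ (Set.toFinite _), hA10, Set.ncard_pair ?_]
    · intro e; exact h.z_ne_one (mul_eq_left.1 e.symm)
    · intro x hx
      rcases hx with rfl | rfl
      exacts [(hA _).2 ⟨f, Or.inl rfl⟩, (hA _).2 ⟨f, Or.inr rfl⟩]
  let P := Σ y : S, {x : G // x ∈ A ∧ x * y.1 ≠ y.1 * x}
  have hP : Nat.card P = 960 := by
    rw [Nat.card_sigma, Finset.sum_congr rfl fun y _ => hfib y, Finset.sum_const, Finset.card_univ,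
      ← Nat.card_eq_fintype_card, (F.outside_main h ht ht2 htQ).2.1]
    rfl
  rw [← hP]
  have hspec : ∀ p : P, IsConj z p.2.1 ∧ IsConj t p.1.1 ∧ z ∈ Subgroup.zpowers (p.2.1 * p.1.1) := by
    rintro ⟨⟨y, hy, hy2, hyQ⟩, x, hx, hne⟩
    dsimp only at hne ⊢
    obtain ⟨hxQ, hx2, hx1, -⟩ := hAprop x hx
    refine ⟨h.isConj_of_mem hxQ (CfsgLib.Small.orderOf_eq_two_iff_sq.2 ⟨hx1, hx2⟩),
      h.outside_conj ht ht2 htQ hy hy2 hyQ, ?_⟩
    obtain ⟨i, e⟩ := (hA x).1 hx
    obtain ⟨f, -, huniq, hyf⟩ := F.exists_fixed h hy hy2 hyQ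
    have hyi : y⁻¹ = y := inv_eq_of_mul_eq_one_left hy2
    have e2 : Eqz z (y * x * y) (F.a ((F.p hy : Equiv.Perm (Fin 5)) i)) := by
      have := h.eqz_trans (h.eqz_conj (g := y) hy e)
        (F.act ⟨y, Subgroup.mem_centralizer_singleton_iff.2 hy⟩ i)
      rwa [hyi] at this
    have hnf : (F.p hy : Equiv.Perm (Fin 5)) i ≠ i := by
      intro e'
      obtain rfl := huniq i e'
      rcases e with e | e <;> rw [e] at hne
      · exact hne hyf.symm
      · exact hne ((show Commute (F.a i) y from hyf.symm).mul_left hy.symm).eq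
    have hw2 : y * x * y * (y * x * y) = 1 := by
      calc y * x * y * (y * x * y) = y * x * (y * y) * x * y := by group
        _ = y * (x * x) * y := by rw [hy2]; group
        _ = 1 := by rw [hx2, mul_one, hy2]
    have hnc : x * (y * x * y) = y * x * y * x * z := by
      refine (h.hcomm x hxQ _ (h.eqz_mem (F.mem _) e2)).resolve_left fun hc => ?_
      have h1 := (h.eqz_comm hxQ e2).1 hc
      have h2 := (h.eqz_comm (F.mem _) e).1 h1.symm
      rw [F.nc _ _ hnf] at h2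
      exact h.z_ne_one (mul_eq_left.1 h2)
    refine Subgroup.mem_zpowers_iff.2 ⟨4, ?_⟩
    rw [show ((4 : ℤ)) = ((4 : ℕ) : ℤ) by rfl, zpow_natCast,
      ← h.mul_sq (h.eqz_mem (F.mem _) e2) hx2 hw2 hnc]
    simp only [pow_succ, pow_zero, one_mul, mul_assoc]
  symm
  refine Nat.card_congr (Equiv.ofBijective (fun p => ⟨(p.2.1, p.1.1), hspec p⟩) ⟨?_, ?_⟩)
  · rintro ⟨⟨y, hy⟩, ⟨x, hx⟩⟩ ⟨⟨y', hy'⟩, ⟨x', hx'⟩⟩ e
    have h1 := congrArg (fun r : {p : G × G // IsConj z p.1 ∧ IsConj t p.2 ∧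
      z ∈ Subgroup.zpowers (p.1 * p.2)} => r.1) e
    simp only [Prod.mk.injEq] at h1
    obtain ⟨rfl, rfl⟩ := h1
    rfl
  · rintro ⟨⟨x, y⟩, hx, hy, hw⟩
    dsimp only at hx hy hw
    have hxo := h.orderOf_two hx
    have hyo : orderOf y = 2 := by
      obtain ⟨c, rfl⟩ := isConj_iff.1 hy
      rw [CfsgLib.Small.orderOf_conj_eq]
      exact CfsgLib.Small.orderOf_eq_two_iff_sq.2 ⟨fun e => htQ (e ▸ Q.one_mem), ht2⟩
    obtain ⟨hxz, hyz⟩ := h.invol_commute hxo hyo h.hz hw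
    have hxQ := h.mem_of_isConj hxz hx
    have hyQ : y ∉ Q := h.not_mem_of_not_isConj hyo fun e =>
      h.not_isConj_outside ht ht2 htQ (e.trans hy.symm)
    have hncomm : x * y ≠ y * x := fun hc => by
      have hz2 : (x * y) * (x * y) = 1 := by
        rw [(show Commute y x from hc.symm).mul_mul_mul_comm,
          CfsgLib.Small.mul_self_of_orderOf_two hxo, CfsgLib.Small.mul_self_of_orderOf_two hyo,
          one_mul]
      have e := CfsgLib.Small.invol_mem_zpowers_eq h.hz hw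
      have hxy1 : x * y ≠ 1 := fun h1 => hyQ (by
        rw [eq_inv_of_mul_eq_one_right h1]
        exact Q.inv_mem hxQ)
      rw [orderOf_eq_prime (by rw [pow_two]; exact hz2) hxy1, show 2 / 2 = 1 from rfl, pow_one] at e
      exact hyQ (by
        rw [show y = x⁻¹ * z by rw [e]; group]
        exact Q.mul_mem (Q.inv_mem hxQ) h.hzQ)
    refine ⟨⟨⟨y, hyz, CfsgLib.Small.mul_self_of_orderOf_two hyo, hyQ⟩, x, (hA x).2 ?_, hncomm⟩, rfl⟩
    obtain ⟨hx1, hx2⟩ := CfsgLib.Small.orderOf_eq_two_iff_sq.1 hxo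
    rcases F.cover x hxQ with e | e | ⟨i, j, hij, e⟩
    · exfalso
      rcases e with e | e
      · exact hx1 e
      · rw [e, one_mul] at hncomm
        exact hncomm hyz.symm
    · exact e
    · exfalso
      have := h.eqz_sq (Q.mul_mem (F.mem i) (F.mem j)) e
      rw [hx2, F.sq4 h i j hij] at this
      exact h.z_ne_one this.symm

end Core

namespace Loc

variable (h : Core z Q) (L : Loc z Q) {X0 : Subgroup G} (c : Comp h L X0)
include h c

theorem card_X : Nat.card (Subgroup.centralizer ({L.t} : Set G)) = 4 * Nat.card X0 := by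
  rw [← L.card_V h, ← Nat.card_prod]
  refine (Nat.card_congr (Equiv.ofBijective (fun p : L.V h × X0 =>
    (⟨(p.1 : G) * p.2, Subgroup.mem_centralizer_singleton_iff.2
      ((show Commute (p.1 : G) L.t from (L.V_comm h p.1.2).2.2.2.1).mul_left
        (c.le _ p.2.2)).eq⟩ : Subgroup.centralizer ({L.t} : Set G))) ⟨?_, ?_⟩)).symm
  · rintro ⟨⟨v, hv⟩, ⟨y, hy⟩⟩ ⟨⟨v', hv'⟩, ⟨y', hy'⟩⟩ e
    have e' : v * y = v' * y' := congrArg Subtype.val e
    have e2 : v'⁻¹ * v = y' * y⁻¹ := by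
      calc v'⁻¹ * v = v'⁻¹ * (v * y) * y⁻¹ := by group
        _ = y' * y⁻¹ := by rw [e']; group
    have e3 := c.inter _ ((L.V h).mul_mem ((L.V h).inv_mem hv') hv)
      (e2 ▸ X0.mul_mem hy' (X0.inv_mem hy))
    obtain rfl : v' = v := inv_mul_eq_one.1 e3
    exact Prod.ext rfl (Subtype.ext (mul_left_cancel e'))
  · rintro ⟨g, hg⟩
    obtain ⟨v, hv, hvg⟩ := c.decomp g (Subgroup.mem_centralizer_singleton_iff.1 hg)
    exact ⟨(⟨v, hv⟩, ⟨_, hvg⟩), Subtype.ext (mul_inv_cancel_left v g)⟩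

theorem conj_z_mem {u : G} (hut : u * L.t = L.t * u) (hu : IsConj z u) : u ∈ X0 := by
  obtain ⟨v, hv, hvg⟩ := c.decomp u hut
  obtain ⟨y, hy⟩ : ∃ y, y = v⁻¹ * u := ⟨_, rfl⟩
  rw [← hy] at hvg
  have hu' : u = v * y := by rw [hy, mul_inv_cancel_left]
  by_contra hnot
  have hv1 : v ≠ 1 := fun e => hnot (by rw [hu', e, one_mul]; exact hvg)
  have huu := CfsgLib.Small.mul_self_of_orderOf_two (h.orderOf_two hu)
  have hvv := (L.V_comm h hv).2.2.2.2
  rw [hu', (show Commute y v from (c.vcomm v hv y hvg).symm).mul_mul_mul_comm, hvv, one_mul] at huu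
  by_cases hy1 : y = 1
  · rw [hy1, mul_one] at hu'
    exact (L.ne_one_V h hv hv1).2 (hu' ▸ hu)
  · obtain ⟨g, hg, hgz⟩ :=
      c.inv_conj y hvg (CfsgLib.Small.orderOf_eq_two_iff_sq.2 ⟨hy1, huu⟩)
    have hvzQ : v * z ∉ Q := fun hm => hv1 (L.V_eq_one h hv (by
      have := Q.mul_mem hm h.hzQ
      rwa [mul_assoc, h.zz, mul_one] at this))
    refine h.not_isConj_outside (((show Commute v z from (L.V_comm h hv).1).mul_left
      (Commute.refl z)).eq) ?_ hvzQ (hu.trans (isConj_iff.2 ⟨g⁻¹, ?_⟩))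
    · rw [(show Commute z v from (L.V_comm h hv).1.symm).mul_mul_mul_comm, hvv, h.zz, one_mul]
    · rw [hu', ← hgz]
      calc g⁻¹ * (v * (g * z * g⁻¹)) * g⁻¹⁻¹ = g⁻¹ * (v * g) * z := by group
        _ = v * z := by rw [c.vcomm v hv g hg, inv_mul_cancel_left]

theorem card_pairs_t {H : Type*} [Group H] [Fintype H] [DecidableEq H] (e : X0 ≃* H)
    (hexp : ∀ g : H, g ^ 15 = 1 ∨ g * g = 1) :
    Nat.card {p : G × G // IsConj z p.1 ∧ IsConj L.t p.2 ∧
      L.t ∈ Subgroup.zpowers (p.1 * p.2)} =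
    Fintype.card {p : H × H // (p.1 ≠ 1 ∧ p.1 * p.1 = 1) ∧
      (p.2 * p.2 = 1 ∧ (p.1 * p.2) ^ 15 = 1)} := by
  classical
  have htV := L.t_mem_V h
  have htc : ∀ w : X0, Commute L.t (w : G) := fun w => c.vcomm _ htV w w.2
  let P := {p : X0 × X0 // (p.1 ≠ 1 ∧ p.1 * p.1 = 1) ∧ (p.2 * p.2 = 1 ∧ (p.1 * p.2) ^ 15 = 1)}
  rw [← Nat.card_eq_fintype_card]
  trans Nat.card P
  swap
  · refine Nat.card_congr ((Equiv.prodCongr e.toEquiv e.toEquiv).subtypeEquiv fun p => ?_)
    show _ ↔ ((e p.1 ≠ 1 ∧ e p.1 * e p.1 = 1) ∧ (e p.2 * e p.2 = 1 ∧ (e p.1 * e p.2) ^ 15 = 1))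
    rw [← map_mul, ← map_mul, ← map_mul, ← map_pow, ne_eq, ne_eq, e.map_eq_one_iff,
      e.map_eq_one_iff, e.map_eq_one_iff, e.map_eq_one_iff]
  have hspec : ∀ p : P, IsConj z (p.1.1 : G) ∧ IsConj L.t (L.t * (p.1.2 : G)) ∧
      L.t ∈ Subgroup.zpowers ((p.1.1 : G) * (L.t * (p.1.2 : G))) := by
    rintro ⟨⟨x, b⟩, ⟨hx1, hx2⟩, hb2, hxb⟩
    dsimp only at *
    obtain ⟨g, -, hg⟩ := c.inv_conj x x.2 (CfsgLib.Small.orderOf_eq_two_iff_sq.2
      ⟨fun e => hx1 (Subtype.ext e), congrArg Subtype.val hx2⟩)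
    refine ⟨isConj_iff.2 ⟨g, hg⟩, ?_, Subgroup.mem_zpowers_iff.2 ⟨15, ?_⟩⟩
    · by_cases hb1 : b = 1
      · rw [hb1, Subgroup.coe_one, mul_one]
      · obtain ⟨g', hg', hgb⟩ := c.inv_conj b b.2 (CfsgLib.Small.orderOf_eq_two_iff_sq.2
          ⟨fun e => hb1 (Subtype.ext e), congrArg Subtype.val hb2⟩)
        have htzQ : L.t * z ∉ Q := fun hm => L.htQ (by
          have := Q.mul_mem hm h.hzQ
          rwa [mul_assoc, h.zz, mul_one] at this)
        refine (h.outside_conj L.ht L.ht2 L.htQ ((show Commute L.t z from L.ht).mul_left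
          (Commute.refl z)).eq ?_ htzQ).trans (isConj_iff.2 ⟨g', ?_⟩)
        · rw [(show Commute z L.t from L.ht.symm).mul_mul_mul_comm, L.ht2, h.zz, one_mul]
        · rw [← hgb, show g' * (L.t * z) * g'⁻¹ = g' * L.t * (z * g'⁻¹) by group, c.le g' hg']
          group
    · rw [show (15 : ℤ) = ((15 : ℕ) : ℤ) by rfl, zpow_natCast, ← mul_assoc, ← (htc x).eq,
        mul_assoc, (show Commute L.t ((x : G) * b) from (htc x).mul_right (htc b)).mul_pow,
        ← Subgroup.coe_mul, ← Subgroup.coe_pow, hxb, Subgroup.coe_one, mul_one,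
        show (15 : ℕ) = 2 * 7 + 1 from rfl, pow_succ, pow_mul, pow_two, L.ht2, one_pow, one_mul]
  symm
  refine Nat.card_congr (Equiv.ofBijective
    (fun p => ⟨((p.1.1 : G), L.t * (p.1.2 : G)), hspec p⟩) ⟨?_, ?_⟩)
  · rintro ⟨⟨x, b⟩, hp⟩ ⟨⟨x', b'⟩, hp'⟩ e'
    have h1 := congrArg (fun r : {p : G × G // IsConj z p.1 ∧ IsConj L.t p.2 ∧
      L.t ∈ Subgroup.zpowers (p.1 * p.2)} => r.1) e'
    simp only [Prod.mk.injEq] at h1
    obtain rfl : x = x' := Subtype.ext h1.1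
    obtain rfl : b = b' := Subtype.ext (mul_left_cancel h1.2)
    rfl
  · rintro ⟨⟨u, w⟩, hu, hw, hmem⟩
    dsimp only at hu hw hmem
    have huo := h.orderOf_two hu
    have hwo : orderOf w = 2 := by
      obtain ⟨d, rfl⟩ := isConj_iff.1 hw
      rw [CfsgLib.Small.orderOf_conj_eq, L.t_ord h]
    obtain ⟨hut, hwt⟩ := h.invol_commute huo hwo (L.t_ord h) hmem
    have huX := L.conj_z_mem h c hut hu
    obtain ⟨v, hv, hvw⟩ := c.decomp w hwt
    obtain ⟨b, hb⟩ : ∃ b, b = v⁻¹ * w := ⟨_, rfl⟩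
    rw [← hb] at hvw
    obtain rfl : w = v * b := by rw [hb, mul_inv_cancel_left]
    have hvv := (L.V_comm h hv).2.2.2.2
    have hbb : b * b = 1 := by
      have h1 := CfsgLib.Small.mul_self_of_orderOf_two hwo
      rwa [(show Commute b v from (c.vcomm v hv b hvw).symm).mul_mul_mul_comm, hvv, one_mul] at h1
    obtain ⟨n, hn⟩ : ∃ n : ℕ, (u * (v * b)) ^ n = L.t :=
      ⟨_, (CfsgLib.Small.invol_mem_zpowers_eq (L.t_ord h) hmem).symm⟩
    rw [← mul_assoc, ← c.vcomm v hv u huX, mul_assoc,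
      (show Commute v (u * b) from c.vcomm v hv _ (X0.mul_mem huX hvw)).mul_pow] at hn
    have hmem' : (v ^ n)⁻¹ * L.t ∈ X0 := by
      rw [← hn, inv_mul_cancel_left]
      exact X0.pow_mem (X0.mul_mem huX hvw) n
    have hvn : v ^ n = L.t := inv_mul_eq_one.1
      (c.inter _ ((L.V h).mul_mem ((L.V h).inv_mem ((L.V h).pow_mem hv n)) htV) hmem')
    have hn1 : (u * b) ^ n = 1 := by rw [hvn] at hn; exact mul_eq_left.1 hn
    obtain ⟨m, rfl⟩ : Odd n := by
      by_contra hev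
      obtain ⟨m, rfl⟩ := Nat.not_odd_iff_even.1 hev
      rw [← two_mul, pow_mul, pow_two, hvv, one_pow] at hvn
      exact CfsgLib.Small.ne_one_of_orderOf_two (L.t_ord h) hvn.symm
    obtain rfl : v = L.t := by rwa [pow_succ, pow_mul, pow_two, hvv, one_pow, one_mul] at hvn
    have h15 : (u * b) ^ 15 = 1 := by
      rcases hexp (e ⟨u * b, X0.mul_mem huX hvw⟩) with h' | h'
      · rw [← map_pow, e.map_eq_one_iff] at h'
        exact congrArg Subtype.val h'
      · rw [← map_mul, e.map_eq_one_iff] at h'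
        have h2 : u * b * (u * b) = 1 := congrArg Subtype.val h'
        rw [pow_succ, pow_mul, pow_two, h2, one_pow, one_mul] at hn1
        rw [hn1, one_pow]
    exact ⟨⟨(⟨u, huX⟩, ⟨b, hvw⟩), ⟨fun e' => CfsgLib.Small.ne_one_of_orderOf_two huo
      (congrArg Subtype.val e'), Subtype.ext (CfsgLib.Small.mul_self_of_orderOf_two huo)⟩,
      Subtype.ext hbb, Subtype.ext h15⟩, rfl⟩

/-- The two possible orders. -/
theorem order_cases :
    (Nat.card X0 = 12 ∧ Nat.card G = 51840) ∨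
    (Nonempty (X0 ≃* alternatingGroup (Fin 5)) ∧ Nat.card G = 604800) := by
  classical
  have hform := CfsgLib.Small.thompson_order z L.t h.hz (L.t_ord h) (L.nz h)
    fun x hx => h.classes L.ht L.ht2 L.htQ hx
  rw [h.card_pairs_z L.ht L.ht2 L.htQ, L.card_X h c, h.card_centralizer] at hform
  rcases c.dich with h12 | hA
  · obtain ⟨e⟩ := Cfsg.Agent.S0228.result (G := X0) h12 (by
      intro w hw hcen
      obtain ⟨g, hg, hgz⟩ := c.inv_conj w w.2 (by rw [Subgroup.orderOf_coe, hw])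
      -- a central conjugate of `z` would make `z` central
      have hwg := congrArg (fun x : X0 => (x : G))
        (Subgroup.mem_center_iff.1 hcen ⟨g, hg⟩)
      simp only [Subgroup.coe_mul] at hwg
      rw [← hgz] at hwg
      have hzw : (w : G) = z := by
        calc (w : G) = g * z * g⁻¹ := hgz.symm
          _ = g⁻¹ * (g * (g * z * g⁻¹)) := by group
          _ = z := by rw [hwg]; group
      have hr := congrArg (fun x : X0 => (x : G))
        (Subgroup.mem_center_iff.1 hcen ⟨L.r, c.memr⟩)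
      simp only [Subgroup.coe_mul] at hr
      rw [hzw] at hr
      have := L.hrz
      rw [hr, mul_inv_cancel_right] at this
      exact L.F.ne_z L.f this.symm)
    refine Or.inl ⟨h12, ?_⟩
    rw [hform, h12, L.card_pairs_t h c e exp_A4, pairs_A4]
  · obtain ⟨e⟩ := hA
    refine Or.inr ⟨⟨e⟩, ?_⟩
    rw [hform, L.card_pairs_t h c e CfsgLib.Inv54.ExtraAlt.odd_exp_alt,
      CfsgLib.Inv54.ExtraAlt.pairs_alt, Nat.card_congr e.toEquiv, nat_card_alternatingGroup,
      Nat.card_fin]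
    rfl

end Loc

end CfsgLib.HallJanko
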