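import Cfsg.Agent.HallJanko.Cert

/-!
# Local relations determining the Hall–Janko group
-/

set_option autoImplicit false
set_option linter.style.haveILetI false
set_option maxRecDepth 100000

namespace CfsgLib.HallJanko

open CfsgLib.CosetEnum

/-- Relations among five involutions coming from `3.A₆` and `A₄ × A₅`. -/
structure Gen {G : Type*} [Group G] (u z y a t : G) : Prop where
  uu : u * u = 1
  zz : z * z = 1
  yy : y * y = 1
  aa : a * a = 1
  tt : t * t = 1
  uy : (u * y) ^ 5 = 1
  zy : (z * y) ^ 3 = 1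
  uzy : (u * z * y) ^ 5 = 1
  uz : (u * z) ^ 2 = 1
  za : (z * a) ^ 2 = 1
  uau : u * a * u * a * z = 1
  ya : (y * a) ^ 3 = 1
  uyzay : (u * y * z * a * y) ^ 3 = 1
  tu : (t * u) ^ 2 = 1
  tz : (t * z) ^ 2 = 1
  ty : (t * y) ^ 2 = 1
  ta : (t * a) ^ 4 * z = 1
  w3 : ((u * z * y * a) ^ 4) ^ 3 = 1
  wt : ((u * z * y * a) ^ 4 * t) ^ 3 = 1

theorem enum_bound {G : Type*} [Group G] (g : ℕ → G) (H : Subgroup G) [Finite H] {k n : ℕ}
    (tb : ℕ → ℕ) (parN parX steps : ℕ) (words : List (List ℕ)) (nR : ℕ) {dt ds : ℕ}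
    (hk : k ≤ 16) (hd : n ≤ 2 ^ dt) (hn : 0 < n) (hg : ∀ x, x < k → g x * g x = 1)
    (hnR : nR ≤ words.length)
    (hrel : ∀ r, r < nR → prodw g (words.getD r []) = 1)
    (hsub : ∀ r, nR ≤ r → r < words.length → prodw g (words.getD r []) ∈ H)
    (hfull : runDed k tb id (fun r => words.getD r []) nR words.length ds steps
      (runTree k tb id parN parX dt) = 2 ^ (n * k) - 1)
    (hv : allR (validEntry n k tb id) dt 0 = true) :
    Finite (Subgroup.closure (g '' {x | x < k})) ∧
      Nat.card (Subgroup.closure (g '' {x | x < k})) ≤ n * Nat.card H := by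
  have hiv : ∀ x, x < k → g x = (g x)⁻¹ := fun x hx => eq_inv_of_mul_eq_one_left (hg x hx)
  have hiv' : ∀ x, x < k → id x < k → g (id x) = (g x)⁻¹ := fun x hx _ => hiv x hx
  have h0 : crOf g parN parX 0 = 1 := crOf_zero _ _ _
  refine finite_and_card_le hk hd hn hiv h0 hv rfl (hfull ▸ ?_)
  exact runDed_sound hiv' h0 hrel
    (fun r hr => by
      by_cases h : r < nR
      · rw [hrel r h]; exact H.one_mem
      · exact hsub r (not_lt.1 h) hr)
    (runTree_sound hiv' (crOf_step _ parN parX) dt)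

theorem forall_lt_words {P : List ℕ → Prop} {words : List (List ℕ)} {m : ℕ}
    (h : ∀ w ∈ words.take m, P w) (hm : m ≤ words.length) : ∀ r, r < m → P (words.getD r []) := by
  intro r hr
  rw [List.getD_eq_getElem _ _ (lt_of_lt_of_le hr hm)]
  exact h _ (List.mem_take_iff_getElem.2 ⟨r, by omega, rfl⟩)

/-- The group generated by such elements has order at most `604800`. -/
theorem Gen.card_le {G : Type*} [Group G] {u z y a t : G} (h : Gen u z y a t) :
    Finite (Subgroup.closure ({u, z, y, a, t} : Set G)) ∧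
      Nat.card (Subgroup.closure ({u, z, y, a, t} : Set G)) ≤ 604800 := by
  obtain ⟨g, hgdef⟩ : ∃ g : ℕ → G, g = fun x => [u, z, y, a, t].getD x 1 := ⟨_, rfl⟩
  have g0 : g 0 = u := by rw [hgdef]; rfl
  have g1 : g 1 = z := by rw [hgdef]; rfl
  have g2 : g 2 = y := by rw [hgdef]; rfl
  have g3 : g 3 = a := by rw [hgdef]; rfl
  have g4 : g 4 = t := by rw [hgdef]; rfl
  have hg : ∀ x, x < 5 → g x * g x = 1 := by
    intro x hx
    interval_cases x
    exacts [g0.symm ▸ h.uu, g1.symm ▸ h.zz, g2.symm ▸ h.yy, g3.symm ▸ h.aa, g4.symm ▸ h.tt]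
  have r1 := h.uy
  have r2 := h.zy
  have r3 := h.uzy
  have r4 := h.uz
  have r5 := h.za
  have r6 := h.uau
  have r7 := h.ya
  have r8 := h.uyzay
  have r9 := h.tu
  have r10 := h.tz
  have r11 := h.ty
  have r12 := h.ta
  have r13 := h.w3
  have r14 := h.wt
  simp only [pow_succ, pow_zero, one_mul, mul_assoc] at r1 r2 r3 r4 r5 r6 r7 r8 r9 r10 r11 r12 r13 r14
  have hA : ∀ r, r < 4 → prodw g (Cert.aWords.getD r []) = 1 := by
    refine forall_lt_words (P := fun w => prodw g w = 1) (words := Cert.aWords) ?_ (by decide)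
    simp only [Cert.aWords, List.take, List.forall_mem_cons, List.not_mem_nil, IsEmpty.forall_iff,
      implies_true, prodw_cons, prodw_nil, g0, g1, g2, mul_one]
    exact ⟨r1, r2, r3, r4, trivial⟩
  have hK : ∀ r, r < 8 → prodw g (Cert.kWords.getD r []) = 1 := by
    refine forall_lt_words (P := fun w => prodw g w = 1) (words := Cert.kWords) ?_ (by decide)
    simp only [Cert.kWords, List.take, List.forall_mem_cons, List.not_mem_nil, IsEmpty.forall_iff,
      implies_true, prodw_cons, prodw_nil, g0, g1, g2, g3, mul_one]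
    exact ⟨r1, r2, r3, r4, r5, r6, r7, r8, trivial⟩
  have hP : ∀ r, r < 14 → prodw g (Cert.pWords.getD r []) = 1 := by
    refine forall_lt_words (P := fun w => prodw g w = 1) (words := Cert.pWords) ?_ (by decide)
    simp only [Cert.pWords, List.take, List.forall_mem_cons, List.not_mem_nil, IsEmpty.forall_iff,
      implies_true, prodw_cons, prodw_nil, g0, g1, g2, g3, g4, mul_one]
    exact ⟨r1, r2, r3, r4, r5, r6, r7, r8, r9, r10, r11, r12, r13, r14, trivial⟩
  have hmem : ∀ {k x : ℕ}, x < k → prodw g [x] ∈ Subgroup.closure (g '' {x | x < k}) := by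
    intro k x hx
    rw [prodw_cons, prodw_nil, mul_one]
    exact Subgroup.subset_closure ⟨x, hx, rfl⟩
  obtain ⟨f3, c3⟩ := enum_bound g (⊥ : Subgroup G) (k := 3) (n := 60) Cert.aTb Cert.aParN
    Cert.aParX Cert.aSteps Cert.aWords 4 (by norm_num) (dt := 6) (by norm_num) (by norm_num)
    (fun x hx => hg x (by omega)) (by decide) hA
    (fun r h1 h2 => absurd h2 (not_lt.2 ((by decide : Cert.aWords.length ≤ 4).trans h1)))
    Cert.a_full Cert.a_valid
  haveI := f3
  obtain ⟨f4, c4⟩ := enum_bound g (Subgroup.closure (g '' {x | x < 3})) (k := 4) (n := 18)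
    Cert.kTb Cert.kParN Cert.kParX Cert.kSteps Cert.kWords 8 (by norm_num) (dt := 5) (by norm_num)
    (by norm_num) (fun x hx => hg x (by omega)) (by decide) hK
    (fun r h1 h2 => by
      have h2' : r < 11 := lt_of_lt_of_le h2 (by decide)
      interval_cases r <;> exact hmem (by norm_num))
    Cert.k_full Cert.k_valid
  haveI := f4
  obtain ⟨f5, c5⟩ := enum_bound g (Subgroup.closure (g '' {x | x < 4})) (k := 5) (n := 560)
    Cert.pTb Cert.pParN Cert.pParX Cert.pSteps Cert.pWords 14 (by norm_num) (dt := 10) (by norm_num)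
    (by norm_num) (fun x hx => hg x (by omega)) (by decide) hP
    (fun r h1 h2 => by
      have h2' : r < 18 := lt_of_lt_of_le h2 (by decide)
      interval_cases r <;> exact hmem (by norm_num))
    Cert.p_full Cert.p_valid
  have himg : g '' {x | x < 5} = ({u, z, y, a, t} : Set G) := by
    ext x
    simp only [Set.mem_image, Set.mem_insert_iff, Set.mem_singleton_iff]
    constructor
    · rintro ⟨i, hi, rfl⟩
      have hi' : i < 5 := hi
      interval_cases i <;> simp [g0, g1, g2, g3, g4]
    · rintro (rfl | rfl | rfl | rfl | rfl)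
      exacts [⟨0, (by norm_num : (0 : ℕ) < 5), g0⟩, ⟨1, (by norm_num : (1 : ℕ) < 5), g1⟩,
        ⟨2, (by norm_num : (2 : ℕ) < 5), g2⟩, ⟨3, (by norm_num : (3 : ℕ) < 5), g3⟩,
        ⟨4, (by norm_num : (4 : ℕ) < 5), g4⟩]
  rw [himg] at f5 c5
  refine ⟨f5, ?_⟩
  rw [Subgroup.card_bot] at c3
  omega

/-- A group of order `604800` generated by such elements maps onto every group containing such
elements, onto the subgroup they generate. -/
theorem Gen.exists_hom {J G : Type*} [Group J] [Group G] {u' z' y' a' t' : J} {u z y a t : G}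
    (hJ : Nat.card J = 604800) (hgen : Subgroup.closure ({u', z', y', a', t'} : Set J) = ⊤)
    (h' : Gen u' z' y' a' t') (h : Gen u z y a t) :
    ∃ f : J →* G, f u' = u ∧ f z' = z ∧ f y' = y ∧ f a' = a ∧ f t' = t := by
  have hp : Gen ((u', u) : J × G) (z', z) (y', y) (a', a) (t', t) := by
    constructor <;>
      simp only [Prod.ext_iff, Prod.fst_mul, Prod.snd_mul, Prod.pow_fst, Prod.pow_snd, Prod.fst_one,
        Prod.snd_one, h.uu, h.zz, h.yy, h.aa, h.tt, h.uy, h.zy, h.uzy, h.uz, h.za, h.uau, h.ya,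
        h.uyzay, h.tu, h.tz, h.ty, h.ta, h.w3, h.wt, h'.uu, h'.zz, h'.yy, h'.aa, h'.tt, h'.uy,
        h'.zy, h'.uzy, h'.uz, h'.za, h'.uau, h'.ya, h'.uyzay, h'.tu, h'.tz, h'.ty, h'.ta, h'.w3,
        h'.wt, and_self]
  obtain ⟨hfin, hcard⟩ := hp.card_le
  set D := Subgroup.closure ({(u', u), (z', z), (y', y), (a', a), (t', t)} : Set (J × G)) with hD
  haveI := hfin
  haveI : Finite J := Nat.finite_of_card_ne_zero (by omega)
  let π : D →* J := (MonoidHom.fst J G).comp D.subtype
  have hsurj : Function.Surjective π := by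
    rw [← MonoidHom.range_eq_top, eq_top_iff, ← hgen, Subgroup.closure_le]
    rintro x (rfl | rfl | rfl | rfl | rfl)
    all_goals exact ⟨⟨(_, _), Subgroup.subset_closure (by
      first
        | exact Or.inl rfl
        | exact Or.inr (Or.inl rfl)
        | exact Or.inr (Or.inr (Or.inl rfl))
        | exact Or.inr (Or.inr (Or.inr (Or.inl rfl)))
        | exact Or.inr (Or.inr (Or.inr (Or.inr rfl))))⟩, rfl⟩
  have hbij : Function.Bijective π :=
    (Nat.bijective_iff_surjective_and_card π).2 ⟨hsurj,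
      le_antisymm (hJ ▸ hcard) (Nat.card_le_card_of_surjective π hsurj)⟩
  let e := MulEquiv.ofBijective π hbij
  let f : J →* G := ((MonoidHom.snd J G).comp D.subtype).comp e.symm.toMonoidHom
  have hf : ∀ (x : J) (y : G), (x, y) ∈ D → f x = y := by
    intro x y hxy
    have : e.symm x = ⟨(x, y), hxy⟩ := e.injective (by rw [e.apply_symm_apply]; rfl)
    show ((e.symm x : D) : J × G).2 = y
    rw [this]
  exact ⟨f, hf _ _ (Subgroup.subset_closure (by simp)), hf _ _ (Subgroup.subset_closure (by simp)),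
    hf _ _ (Subgroup.subset_closure (by simp)), hf _ _ (Subgroup.subset_closure (by simp)),
    hf _ _ (Subgroup.subset_closure (by simp))⟩

end CfsgLib.HallJanko
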