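import Cfsg.Agent.HallJanko.Classes
import Mathlib.GroupTheory.PGroup

/-!
# An element of order 3 permuting the involutions of a four-group of `Q`
-/

set_option autoImplicit false
set_option linter.style.haveILetI false

namespace CfsgLib.HallJanko

variable {G : Type*} [Group G] [Finite G] {z : G} {Q : Subgroup G}

/-- Local data: a pair `u`, an element `s` of order 3 centralising `z` and `u`, an involution `t`
outside `Q` centralising `u`, and `r` of order 3 centralising `s` and `t` and moving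
`z ↦ u ↦ u z ↦ z`. -/
structure Loc (z : G) (Q : Subgroup G) where
  F : Frame z Q
  f : Fin 5
  s : G
  t : G
  r : G
  hs : s * z = z * s
  hs3 : orderOf s = 3
  hsu : s * F.a f = F.a f * s
  ht : t * z = z * t
  ht2 : t * t = 1
  htQ : t ∉ Q
  htu : t * F.a f = F.a f * t
  hr3 : orderOf r = 3
  hrs : r * s = s * r
  hrt : r * t = t * r
  hrz : r * z * r⁻¹ = F.a f
  hru : r * F.a f * r⁻¹ = F.a f * z

namespace Frame

variable (h : Core z Q) (F : Frame z Q)
include h F

/-- The involutions outside `Q` centralising a given pair. -/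
theorem card_J {t₀ : G} (ht : t₀ * z = z * t₀) (ht2 : t₀ * t₀ = 1) (htQ : t₀ ∉ Q) (i : Fin 5) :
    Nat.card {x : G // (x * z = z * x ∧ x * x = 1 ∧ x ∉ Q) ∧ x * F.a i = F.a i * x} = 24 := by
  classical
  haveI := Fintype.ofFinite G
  let S := {x : G // x * z = z * x ∧ x * x = 1 ∧ x ∉ Q}
  let J := fun j => {x : G // (x * z = z * x ∧ x * x = 1 ∧ x ∉ Q) ∧ x * F.a j = F.a j * x}
  let fp : S → Fin 5 := fun x => (F.exists_fixed h x.2.1 x.2.2.1 x.2.2.2).choose
  have hfp : ∀ (x : S) j, fp x = j ↔ (x : G) * F.a j = F.a j * x := by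
    intro x j
    obtain ⟨-, hu, hc⟩ := (F.exists_fixed h x.2.1 x.2.2.1 x.2.2.2).choose_spec
    exact ⟨fun e => e ▸ hc, fun e => (hu j (F.fix_of_commute h x.2.1 e)).symm⟩
  let fib : ∀ j, {x : S // fp x = j} ≃ J j := fun j =>
    ⟨fun x => ⟨x.1.1, x.1.2, (hfp _ _).1 x.2⟩, fun x => ⟨⟨x.1, x.2.1⟩, (hfp _ _).2 x.2.2⟩,
      fun x => rfl, fun x => rfl⟩
  have hsum : ∑ j, Nat.card (J j) = 120 := by
    rw [← (F.outside_main h ht ht2 htQ).2.1, ← Nat.card_congr (Equiv.sigmaFiberEquiv fp),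
      Nat.card_sigma]
    exact Finset.sum_congr rfl fun j _ => (Nat.card_congr (fib j)).symm
  have hall : ∀ j k, Nat.card (J j) = Nat.card (J k) := by
    intro j k
    have hle : ∀ a b : Fin 5, Nat.card (J a) ≤ Nat.card (J b) := by
      intro a b
      obtain ⟨g, hg⟩ := Alt.transitive a b
      obtain ⟨c, hc⟩ := F.surj g
      have hcz := Subgroup.mem_centralizer_singleton_iff.1 c.2
      have he : Eqz z (F.a b) ((c : G) * F.a a * (c : G)⁻¹) := by
        have := F.act c a
        rw [hc, hg] at this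
        exact h.eqz_symm this
      refine Nat.card_le_card_of_injective
        (fun x : J a => (⟨(c : G) * x * (c : G)⁻¹, ?_, ?_⟩ : J b))
        fun a b e => Subtype.ext (mul_left_cancel (mul_right_cancel (congrArg Subtype.val e)))
      · obtain ⟨⟨x1, x2, x3⟩, -⟩ := x.2
        refine ⟨?_, ?_, fun hm => x3 ?_⟩
        · exact (((show Commute (c : G) z from hcz).mul_left x1).mul_left
            (show Commute (c : G) z from hcz).inv_left).eq
        · rw [show (c : G) * x * (c : G)⁻¹ * ((c : G) * x * (c : G)⁻¹) =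
            (c : G) * ((x : G) * x) * (c : G)⁻¹ by group, x2, mul_one, mul_inv_cancel]
        · have := h.hn (c : G)⁻¹ (show Commute (c : G) z from hcz).inv_left.eq _ hm
          rwa [show (c : G)⁻¹ * ((c : G) * x * (c : G)⁻¹) * (c : G)⁻¹⁻¹ = x by group] at this
      · obtain ⟨⟨x1, -, -⟩, hx⟩ := x.2
        have h1 : Commute ((c : G) * x * (c : G)⁻¹) ((c : G) * F.a a * (c : G)⁻¹) :=
          (SemiconjBy.conj_iff).2 hx
        have h2 : Commute ((c : G) * x * (c : G)⁻¹) z :=
          ((show Commute (c : G) z from hcz).mul_left x1).mul_left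
            (show Commute (c : G) z from hcz).inv_left
        rcases he with e | e <;> rw [e]
        · exact h1.eq
        · exact (h1.mul_right h2).eq
    exact le_antisymm (hle j k) (hle k j)
  rw [Finset.sum_congr rfl fun j _ => hall j i, Finset.sum_const, Finset.card_univ,
    Fintype.card_fin, smul_eq_mul] at hsum
  show Nat.card (J i) = 24
  omega

/-- The local data exists. -/
theorem exists_loc (f : Fin 5) {s : G} (hs : s * z = z * s) (hs3 : orderOf s = 3)
    (hsu : s * F.a f = F.a f * s) : ∃ L : Loc z Q, L.F = F ∧ L.f = f ∧ L.s = s := by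
  classical
  haveI := Fintype.ofFinite G
  haveI := Fact.mk Nat.prime_three
  obtain ⟨t₀, ht₀, ht₀2, ht₀Q⟩ := h.exists_outside
  obtain ⟨u, hu⟩ : ∃ u, u = F.a f := ⟨_, rfl⟩
  rw [← hu] at hsu
  have huQ : u ∈ Q := hu ▸ F.mem f
  have huu : u * u = 1 := hu ▸ F.sq f
  have huz : u * z = z * u := h.hQC u huQ
  have hu1 : u ≠ 1 := hu ▸ F.ne_one f
  have hunz : u ≠ z := hu ▸ F.ne_z f
  let E : Subgroup G :=
    { carrier := {1, z, u, u * z}
      one_mem' := Or.inl rfl
      mul_mem' := by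
        have hzu : ∀ x : G, z * (u * x) = u * (z * x) := fun x => by
          rw [← mul_assoc, ← huz, mul_assoc]
        rintro a b (rfl | rfl | rfl | rfl) (rfl | rfl | rfl | rfl) <;>
          simp [Set.mem_insert_iff, mul_assoc, h.zz, huu, hzu, ← huz] <;>
          simp [← mul_assoc, huu]
      inv_mem' := by
        rintro a (rfl | rfl | rfl | rfl) <;>
          simp [Set.mem_insert_iff, inv_eq_of_mul_eq_one_left h.zz, inv_eq_of_mul_eq_one_left huu,
            ← huz] }
  have hzE : z ∈ E := Or.inr (Or.inl rfl)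
  have huE : u ∈ E := Or.inr (Or.inr (Or.inl rfl))
  have hEcard : Nat.card E ≤ 4 := by
    show Nat.card ({1, z, u, u * z} : Set G) ≤ 4
    rw [Nat.card_coe_set_eq]
    calc ({1, z, u, u * z} : Set G).ncard ≤ ({z, u, u * z} : Set G).ncard + 1 :=
          Set.ncard_insert_le _ _
      _ ≤ ({u, u * z} : Set G).ncard + 1 + 1 := by gcongr; exact Set.ncard_insert_le _ _
      _ ≤ ({u * z} : Set G).ncard + 1 + 1 + 1 := by gcongr; exact Set.ncard_insert_le _ _
      _ = 4 := by rw [Set.ncard_singleton]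
  set N := Subgroup.normalizer (E : Set G) with hNdef
  let ψ : N →* Equiv.Perm E := (MulAut.toPerm E).comp (Subgroup.normalizerMonoidHom E)
  have hψ : ∀ (g : N) (e : E), ((ψ g e : E) : G) = (g : G) * e * (g : G)⁻¹ := fun g e => rfl
  have hker : ∀ g : N, ψ g = 1 ↔ ((g : G) * z = z * g ∧ (g : G) * u = u * g) := by
    intro g
    constructor
    · intro e
      refine ⟨mul_inv_eq_iff_eq_mul.1 ?_, mul_inv_eq_iff_eq_mul.1 ?_⟩
      · rw [← hψ g ⟨z, hzE⟩, e]; rfl
      · rw [← hψ g ⟨u, huE⟩, e]; rfl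
    · rintro ⟨e1, e2⟩
      refine Equiv.ext fun x => Subtype.ext ?_
      rw [hψ]
      show (g : G) * x * (g : G)⁻¹ = (x : G)
      rw [mul_inv_eq_iff_eq_mul]
      obtain ⟨x, hx | hx | hx | hx⟩ := x <;> subst hx
      · simp
      · exact e1
      · exact e2
      · exact ((show Commute (g : G) u from e2).mul_right e1).eq
  have hmemN : ∀ g : G, g * z * g⁻¹ ∈ E → g * u * g⁻¹ ∈ E → g ∈ N := by
    intro g h1 h2
    have hsub : ∀ x ∈ E, g * x * g⁻¹ ∈ E := by
      rintro x (rfl | rfl | rfl | rfl)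
      · simpa using E.one_mem
      · exact h1
      · exact h2
      · rw [show g * (u * z) * g⁻¹ = g * u * g⁻¹ * (g * z * g⁻¹) by group]
        exact E.mul_mem h2 h1
    rw [hNdef, Subgroup.mem_normalizer_iff]
    refine fun x => ⟨hsub x, fun hx => ?_⟩
    obtain ⟨⟨w, hw⟩, hwx⟩ := Finite.surjective_of_injective
      (f := fun w : E => (⟨g * w * g⁻¹, hsub w w.2⟩ : E))
      (fun a b e => Subtype.ext (mul_left_cancel (mul_right_cancel (congrArg Subtype.val e))))
      ⟨_, hx⟩
    have e : g * w * g⁻¹ = g * x * g⁻¹ := congrArg Subtype.val hwx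
    rw [← mul_left_cancel (mul_right_cancel e)]
    exact hw
  -- divisibility
  have hsN : s ∈ N := hmemN s (by rw [hs, mul_inv_cancel_right]; exact hzE)
    (by rw [hsu, mul_inv_cancel_right]; exact huE)
  have hk9 : ¬ 9 ∣ Nat.card ψ.ker := by
    intro h9
    have hd : Nat.card ψ.ker ∣ Nat.card (Subgroup.centralizer ({z} : Set G)) := by
      rw [Nat.card_congr (Subgroup.equivMapOfInjective ψ.ker N.subtype N.subtype_injective).toEquiv]
      refine Subgroup.card_dvd_of_le ?_
      rintro _ ⟨g, hg, rfl⟩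
      exact Subgroup.mem_centralizer_singleton_iff.2 ((hker g).1 hg).1
    rw [h.card_centralizer] at hd
    exact absurd (h9.trans hd) (by norm_num)
  have hk3 : 3 ∣ Nat.card ψ.ker := by
    have : (⟨s, hsN⟩ : N) ∈ ψ.ker := (hker _).2 ⟨hs, hsu⟩
    have e := Subgroup.orderOf_dvd_natCard _ this
    rwa [Subgroup.orderOf_mk, hs3] at e
  obtain ⟨k, hkz, hku⟩ := h.exists_swap huQ (hu ▸ h.conj_a F f) hunz
  obtain ⟨q, hqQ, hqu⟩ : ∃ q ∈ Q, q * u * q⁻¹ = u * z := by
    obtain ⟨j, hj⟩ := exists_ne f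
    refine ⟨F.a j, F.mem j, ?_⟩
    rw [hu, inv_eq_of_mul_eq_one_left (F.sq j), F.nc j f hj, mul_assoc (F.a f * F.a j) z,
      ← h.hQC _ (F.mem j), ← mul_assoc, mul_assoc (F.a f), F.sq j, mul_one]
  obtain ⟨m, hm⟩ : ∃ m, m = k * q := ⟨_, rfl⟩
  have hmz : m * z * m⁻¹ = u * z := by
    rw [hm, show k * q * z * (k * q)⁻¹ = k * (q * z * q⁻¹) * k⁻¹ by group, h.hQC q hqQ,
      mul_inv_cancel_right, hkz, huz]
  have hmu : m * u * m⁻¹ = z := by
    rw [hm, show k * q * u * (k * q)⁻¹ = k * (q * u * q⁻¹) * k⁻¹ by group, hqu,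
      show k * (u * z) * k⁻¹ = k * u * k⁻¹ * (k * z * k⁻¹) by group, hku, hkz, ← huz, ← mul_assoc,
      huu, one_mul]
  have hmN : m ∈ N := hmemN m (by rw [hmz]; exact Or.inr (Or.inr (Or.inr rfl)))
    (by rw [hmu]; exact hzE)
  have hr3' : 3 ∣ Nat.card ψ.range := by
    have hm3 : orderOf (ψ ⟨m, hmN⟩) = 3 := by
      refine orderOf_eq_prime ?_ fun e => ?_
      · refine Equiv.ext fun x => Subtype.ext ?_
        rw [pow_succ, pow_two, Equiv.Perm.mul_apply, Equiv.Perm.mul_apply, hψ, hψ, hψ]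
        show m * (m * (m * (x : G) * m⁻¹) * m⁻¹) * m⁻¹ = (x : G)
        have huzm : m * (u * z) * m⁻¹ = u := by
          rw [show m * (u * z) * m⁻¹ = m * u * m⁻¹ * (m * z * m⁻¹) by group, hmu, hmz, huz,
            ← mul_assoc, h.zz, one_mul]
        obtain ⟨x, hx | hx | hx | hx⟩ := x <;> subst hx
        · group
        · rw [hmz, huzm, hmu]
        · rw [hmu, hmz, huzm]
        · rw [huzm, hmu, hmz]
      · have := congrArg (fun p : Equiv.Perm E => ((p ⟨u, huE⟩ : E) : G)) e
        simp only [hψ, Equiv.Perm.coe_one, id_eq] at this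
        rw [hmu] at this
        exact hunz this.symm
    have := Subgroup.orderOf_dvd_natCard ψ.range (MonoidHom.mem_range.2 ⟨⟨m, hmN⟩, rfl⟩)
    rwa [hm3] at this
  have hr9 : ¬ 9 ∣ Nat.card ψ.range := by
    intro h9
    have hd : Nat.card ψ.range ∣ Nat.factorial (Nat.card E) :=
      Nat.card_perm (α := E) ▸ Subgroup.card_subgroup_dvd_card ψ.range
    exact absurd (h9.trans (hd.trans (Nat.factorial_dvd_factorial hEcard))) (by decide)
  have hN : Nat.card N = Nat.card ψ.ker * Nat.card ψ.range := by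
    rw [← Subgroup.index_ker, Subgroup.card_mul_index]
  have hs' : IsPGroup 3 (Subgroup.zpowers (⟨s, hsN⟩ : N)) := IsPGroup.of_card (n := 1) (by
    rw [Nat.card_zpowers, Subgroup.orderOf_mk, hs3, pow_one])
  obtain ⟨P, hP⟩ := hs'.exists_le_sylow
  have hPcard : Nat.card P = 9 := by
    obtain ⟨n, hn⟩ := P.2.exists_card_eq
    have hidx : ¬ 3 ∣ (P : Subgroup N).index := P.not_dvd_index
    have hmul := Subgroup.card_mul_index (P : Subgroup N)
    rw [hn, hN] at hmul
    obtain ⟨a, ha⟩ := hk3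
    obtain ⟨b, hb⟩ := hr3'
    rw [ha, hb] at hmul
    have ha3 : ¬ 3 ∣ a := fun e => hk9 (ha ▸ by obtain ⟨c, rfl⟩ := e; exact ⟨c, by ring⟩)
    have hb3 : ¬ 3 ∣ b := fun e => hr9 (hb ▸ by obtain ⟨c, rfl⟩ := e; exact ⟨c, by ring⟩)
    have hn2 : n = 2 := by
      rcases lt_trichotomy n 2 with hlt | rfl | hgt
      · exfalso
        apply hidx
        interval_cases n
        · exact ⟨3 * (a * b), by rw [pow_zero, one_mul] at hmul; rw [hmul]; ring⟩
        · exact ⟨a * b, by rw [pow_one] at hmul; linarith⟩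
      · rfl
      · exfalso
        obtain ⟨d, rfl⟩ : ∃ d, n = 3 + d := ⟨n - 3, by omega⟩
        have : 3 ∣ a * b := ⟨3 ^ d * (P : Subgroup N).index, by rw [pow_add] at hmul; linarith⟩
        rcases Nat.prime_three.dvd_mul.1 this with e | e
        exacts [ha3 e, hb3 e]
    rw [hn2] at hn
    exact hn
  have hPcomm : ∀ a b : P, a * b = b * a := fun a b =>
    IsPGroup.commutative_of_card_eq_prime_sq (p := 3) hPcard a b
  let J := {x : G // (x * z = z * x ∧ x * x = 1 ∧ x ∉ Q) ∧ x * F.a f = F.a f * x}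
  have hconjJ : ∀ (g : N) (x : J), ((g : G) * x * (g : G)⁻¹ * z = z * ((g : G) * x * (g : G)⁻¹) ∧
      (g : G) * x * (g : G)⁻¹ * ((g : G) * x * (g : G)⁻¹) = 1 ∧ (g : G) * x * (g : G)⁻¹ ∉ Q) ∧
      (g : G) * x * (g : G)⁻¹ * F.a f = F.a f * ((g : G) * x * (g : G)⁻¹) := by
    intro g x
    obtain ⟨⟨x1, x2, x3⟩, x4'⟩ := x.2
    have x4 : (x : G) * u = u * x := by rw [hu]; exact x4'
    have hcE : ∀ e ∈ E, Commute (x : G) e := by
      rintro e (rfl | rfl | rfl | rfl)
      exacts [Commute.one_right _, x1, x4, (show Commute (x : G) u from x4).mul_right x1]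
    have hcc : ∀ e ∈ E, Commute ((g : G) * x * (g : G)⁻¹) e := by
      intro e he
      have he' : (g : G)⁻¹ * e * (g : G)⁻¹⁻¹ ∈ E :=
        (Subgroup.mem_normalizer_iff.1 (N.inv_mem g.2) e).1 he
      have := (SemiconjBy.conj_iff (b := (g : G))).2 (hcE _ he')
      rwa [show (g : G) * ((g : G)⁻¹ * e * (g : G)⁻¹⁻¹) * (g : G)⁻¹ = e by group] at this
    have hx2' : (g : G) * x * (g : G)⁻¹ * ((g : G) * x * (g : G)⁻¹) = 1 := by
      rw [show (g : G) * x * (g : G)⁻¹ * ((g : G) * x * (g : G)⁻¹) =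
        (g : G) * ((x : G) * x) * (g : G)⁻¹ by group, x2, mul_one, mul_inv_cancel]
    refine ⟨⟨(hcc z hzE).eq, hx2', fun hm' => ?_⟩, (hcc (F.a f) (hu ▸ huE)).eq⟩
    have hx2o : orderOf ((g : G) * x * (g : G)⁻¹) = 2 := by
      rw [CfsgLib.Small.orderOf_conj_eq]
      exact CfsgLib.Small.orderOf_eq_two_iff_sq.2 ⟨fun e => x3 (by rw [e]; exact Q.one_mem), x2⟩
    exact h.not_isConj_outside x1 x2 x3 ((h.isConj_of_mem hm' hx2o).trans
      (isConj_iff.2 ⟨(g : G), rfl⟩).symm)
  letI : MulAction P J :=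
    { smul := fun p x => ⟨(((p : N) : G)) * x * ((p : N) : G)⁻¹, hconjJ p x⟩
      one_smul := fun x => Subtype.ext (by
        show (((1 : P) : N) : G) * x * (((1 : P) : N) : G)⁻¹ = x
        simp)
      mul_smul := fun a b x => Subtype.ext (by
        show (((a * b : P) : N) : G) * x * (((a * b : P) : N) : G)⁻¹ =
          ((a : N) : G) * (((b : N) : G) * x * ((b : N) : G)⁻¹) * ((a : N) : G)⁻¹
        simp only [Subgroup.coe_mul]
        group) }
  obtain ⟨x, hx⟩ : ∃ x : J, MulAction.stabilizer P x ≠ ⊥ := by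
    by_contra! hh
    have horb : ∀ x : J, Nat.card (MulAction.orbit P x) = 9 := fun x => by
      rw [← hPcard, Nat.card_congr (MulAction.orbitEquivQuotientStabilizer P x), hh x]
      exact Nat.card_congr (QuotientGroup.quotientBot).toEquiv
    have hd : 9 ∣ Nat.card J := by
      rw [Nat.card_congr (MulAction.selfEquivSigmaOrbits P J), Nat.card_sigma]
      refine Finset.dvd_sum fun o _ => ?_
      rw [horb]
    rw [F.card_J h ht₀ ht₀2 ht₀Q f] at hd
    norm_num at hd
  obtain ⟨⟨x1, x2, x3⟩, x4⟩ := x.2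
  obtain ⟨⟨p, hp⟩, hp3⟩ : ∃ p : MulAction.stabilizer P x, orderOf p = 3 := by
    refine exists_prime_orderOf_dvd_card' 3 ?_
    have hd : Nat.card (MulAction.stabilizer P x) ∣ 3 ^ 2 := by
      have hd' := Subgroup.card_subgroup_dvd_card (MulAction.stabilizer P x)
      rwa [hPcard] at hd'
    obtain ⟨j, hj, hcj⟩ := (Nat.dvd_prime_pow Nat.prime_three).1 hd
    rcases j with _ | j
    · exact absurd (Subgroup.eq_bot_of_card_eq _ hcj) hx
    · exact hcj ▸ dvd_pow_self 3 (Nat.succ_ne_zero j)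
  have hp3' : orderOf ((p : N) : G) = 3 := by
    rw [Subgroup.orderOf_coe, Subgroup.orderOf_coe]
    exact (Subgroup.orderOf_coe (⟨p, hp⟩ : MulAction.stabilizer P x)).trans hp3
  have hpx : ((p : N) : G) * x = x * ((p : N) : G) :=
    mul_inv_eq_iff_eq_mul.1 (congrArg (fun y : J => (y : G)) (MulAction.mem_stabilizer_iff.1 hp))
  have hxo : orderOf (x : G) = 2 :=
    CfsgLib.Small.orderOf_eq_two_iff_sq.2 ⟨fun e => x3 (by rw [e]; exact Q.one_mem), x2⟩
  have hnofix : ∀ g : G, orderOf g = 3 → g * (x : G) = x * g → ∀ e : G, IsConj z e →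
      (x : G) * e = e * x → g * e ≠ e * g := by
    intro g hg hgx e he hxe hc
    have hgg := (h.pair_cent he hxo (h.not_isConj_outside x1 x2 x3) hxe).2 g hc hgx
    have := orderOf_dvd_of_pow_eq_one (x := g) (n := 2) (by rw [pow_two]; exact hgg)
    rw [hg] at this
    norm_num at this
  have hps : ((p : N) : G) * s = s * ((p : N) : G) := by
    have hsP : (⟨s, hsN⟩ : N) ∈ (P : Subgroup N) := hP (Subgroup.mem_zpowers _)
    exact congrArg (fun y : P => ((y : N) : G)) (hPcomm p ⟨_, hsP⟩)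
  have hpE : ∀ e ∈ E, ((p : N) : G) * e * ((p : N) : G)⁻¹ ∈ E := fun e he =>
    (Subgroup.mem_normalizer_iff.1 (p : N).2 e).1 he
  have hz1 := h.z_ne_one
  have huz1 : u * z ≠ 1 := fun e => hunz (by
    calc u = u * (z * z) := by rw [h.zz, mul_one]
      _ = z := by rw [← mul_assoc, e, one_mul])
  have hcz : IsConj z z := IsConj.refl z
  have hcu : IsConj z u := hu ▸ h.conj_a F f
  have hcuz : IsConj z (u * z) := hcu.trans (isConj_iff.2 ⟨q, hqu⟩)
  have x4' : (x : G) * u = u * x := by rw [hu]; exact x4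
  have xuz : (x : G) * (u * z) = u * z * x := ((show Commute (x : G) u from x4').mul_right x1).eq
  obtain ⟨g, hg⟩ : ∃ g, g = ((p : N) : G) := ⟨_, rfl⟩
  rw [← hg] at hp3' hpx hps hpE
  have hgz : g * z * g⁻¹ = u ∨ g * z * g⁻¹ = u * z := by
    rcases hpE z hzE with e | e | e | e
    · exact absurd (conj_eq_one_iff.1 e) hz1
    · exact absurd (mul_inv_eq_iff_eq_mul.1 e) (hnofix g hp3' hpx z hcz x1)
    · exact Or.inl e
    · exact Or.inr e
  rcases hgz with e1 | e1
  · have e2 : g * u * g⁻¹ = u * z := by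
      rcases hpE u huE with e | e | e | e
      · exact absurd (conj_eq_one_iff.1 e) hu1
      · exfalso
        refine hnofix g hp3' hpx (u * z) hcuz xuz (mul_inv_eq_iff_eq_mul.1 ?_)
        rw [show g * (u * z) * g⁻¹ = g * u * g⁻¹ * (g * z * g⁻¹) by group, e, e1, huz]
      · exact absurd (mul_left_cancel (mul_right_cancel (e.trans e1.symm))) hunz
      · exact e
    exact ⟨⟨F, f, s, x, g, hs, hs3, hu ▸ hsu, x1, x2, x3, x4, hp3', hps, hpx, hu ▸ e1,
      hu ▸ e2⟩, rfl, rfl, rfl⟩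
  · have e2 : g * u * g⁻¹ = z := by
      rcases hpE u huE with e | e | e | e
      · exact absurd (conj_eq_one_iff.1 e) hu1
      · exact e
      · exact absurd (mul_inv_eq_iff_eq_mul.1 e) (hnofix g hp3' hpx u hcu x4')
      · exact absurd (mul_left_cancel (mul_right_cancel (e.trans e1.symm))) hunz
    have e3 : g * (u * z) * g⁻¹ = u := by
      rw [show g * (u * z) * g⁻¹ = g * u * g⁻¹ * (g * z * g⁻¹) by group, e2, e1, huz, ← mul_assoc,
        h.zz, one_mul]
    have hg3 : orderOf (g * g) = 3 := by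
      rw [← pow_two, Nat.Coprime.orderOf_pow (by rw [hp3']; norm_num), hp3']
    refine ⟨⟨F, f, s, x, g * g, hs, hs3, hu ▸ hsu, x1, x2, x3, x4, hg3,
      ((show Commute g s from hps).mul_left hps).eq, ((show Commute g x from hpx).mul_left hpx).eq,
      ?_, ?_⟩, rfl, rfl, rfl⟩
    · rw [← hu, show g * g * z * (g * g)⁻¹ = g * (g * z * g⁻¹) * g⁻¹ by group, e1, e3]
    · rw [← hu, show g * g * u * (g * g)⁻¹ = g * (g * u * g⁻¹) * g⁻¹ by group, e2, e1]

end Frame

end CfsgLib.HallJanko
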