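import Cfsg.Agent.HallJanko.Sigma
import Cfsg.Agent.Components.FStar
import Cfsg.Agent.ExtraspecialBasic.Order
import Cfsg.Agent.Forms.SmallOrth
import Mathlib.GroupTheory.SpecificGroups.Alternating.Centralizer
import Cfsg.Prelude.Def_Classical

/-!
# From the frozen hypotheses to the frame
-/

set_option autoImplicit false
set_option linter.style.haveILetI false

namespace CfsgLib.HallJanko

/-- `Ω⁻₄(2) ≅ A₅`. -/
theorem omega_equiv : Nonempty (↥(Cfsg.Omega (ZMod 2) (Cfsg.quadFormMinus 1 (ZMod 2) 1 1)) ≃*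
    alternatingGroup (Fin 5)) := by
  obtain ⟨e⟩ := CfsgLib.Forms.o_minus_four_two
  refine ⟨(e.subgroupMap _).trans (MulEquiv.subgroupCongr ?_)⟩
  rw [Cfsg.Omega, commutator_def, Subgroup.map_commutator,
    Subgroup.map_top_of_surjective _ e.surjective, ← commutator_def]
  exact alternatingGroup.commutator_perm_eq (by simp)

theorem pre_of_hyp {G : Type*} [Group G] [Finite G] (z : G) (hz : orderOf z = 2)
    (Q : Subgroup (Subgroup.centralizer ({z} : Set G))) [Q.Normal]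
    (hcent : ∀ c : (Subgroup.centralizer ({z} : Set G)), (∀ q ∈ Q, q * c = c * q) → c ∈ Q)
    (hQ : Cfsg.IsExtraspecial 2 Q) (hcard : Nat.card Q = 2 ^ 5)
    (e : (Subgroup.centralizer ({z} : Set G)) ⧸ Q ≃* alternatingGroup (Fin 5)) :
    PreCore z (Q.map (Subgroup.centralizer ({z} : Set G)).subtype) := by
  classical
  haveI := Fact.mk Nat.prime_two
  have hmem : ∀ {g : G}, g ∈ (Subgroup.centralizer ({z} : Set G)) ↔ g * z = z * g := Subgroup.mem_centralizer_singleton_iff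
  have hzQ : (⟨z, hmem.2 rfl⟩ : (Subgroup.centralizer ({z} : Set G))) ∈ Q :=
    hcent _ fun q _ => Subtype.ext (hmem.1 q.2)
  have hz1 : (⟨z, hmem.2 rfl⟩ : (Subgroup.centralizer ({z} : Set G))) ≠ 1 := fun e' =>
    CfsgLib.Small.ne_one_of_orderOf_two hz (congrArg Subtype.val e')
  have hcen : ∀ q : Q, q ∈ Subgroup.center Q → ((q : (Subgroup.centralizer ({z} : Set G))) : G) = 1 ∨ ((q : (Subgroup.centralizer ({z} : Set G))) : G) = z := by
    intro q hq
    have hzc : (⟨_, hzQ⟩ : Q) ∈ Subgroup.center Q :=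
      Subgroup.mem_center_iff.2 fun p => Subtype.ext (Subtype.ext (hmem.1 (p : (Subgroup.centralizer ({z} : Set G))).2))
    obtain ⟨w, -, huniq⟩ := (Nat.card_eq_two_iff' (1 : Subgroup.center Q)).1 hQ.2
    by_cases h1 : (⟨q, hq⟩ : Subgroup.center Q) = 1
    · exact Or.inl (congrArg (fun t : Subgroup.center Q => (((t : Q) : (Subgroup.centralizer ({z} : Set G))) : G)) h1)
    · exact Or.inr (congrArg (fun t : Subgroup.center Q => (((t : Q) : (Subgroup.centralizer ({z} : Set G))) : G))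
        ((huniq _ h1).trans (huniq ⟨_, hzc⟩ fun e' => hz1
          (congrArg (fun t : Subgroup.center Q => ((t : Q) : (Subgroup.centralizer ({z} : Set G)))) e')).symm))
  have hmap : ∀ {g : G}, g ∈ Q.map (Subgroup.centralizer ({z} : Set G)).subtype ↔ ∃ hg : g ∈ (Subgroup.centralizer ({z} : Set G)), (⟨g, hg⟩ : (Subgroup.centralizer ({z} : Set G))) ∈ Q := by
    intro g
    constructor
    · rintro ⟨q, hq, rfl⟩; exact ⟨q.2, hq⟩
    · rintro ⟨hg, hq⟩; exact ⟨_, hq, rfl⟩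
  refine
    { hz := hz
      hQC := ?_, hn := ?_, hcard := ?_, hzQ := hmap.2 ⟨_, hzQ⟩, hcenter := ?_, hcomm := ?_
      hsq := ?_, hCQ := ?_, hquot := ?_ }
  · intro q hq; exact hmem.1 (hmap.1 hq).1
  · intro c hc q hq
    obtain ⟨hq', hqQ⟩ := hmap.1 hq
    exact ⟨⟨c, hmem.2 hc⟩ * ⟨q, hq'⟩ * ⟨c, hmem.2 hc⟩⁻¹,
      (inferInstance : Q.Normal).conj_mem _ hqQ _, rfl⟩
  · rw [Subgroup.card_map_of_injective (Subgroup.centralizer ({z} : Set G)).subtype_injective, hcard]; rfl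
  · intro q hq hcq
    obtain ⟨hq', hqQ⟩ := hmap.1 hq
    exact hcen ⟨_, hqQ⟩ (Subgroup.mem_center_iff.2 fun p => Subtype.ext (Subtype.ext
      (hcq _ (hmap.2 ⟨(p : (Subgroup.centralizer ({z} : Set G))).2, p.2⟩)).symm))
  · intro a ha b hb
    obtain ⟨ha', haQ⟩ := hmap.1 ha
    obtain ⟨hb', hbQ⟩ := hmap.1 hb
    have hc := hcen _ (CfsgLib.ExtraspecialBasic.commutator_mem_center hQ (⟨_, haQ⟩ : Q) ⟨_, hbQ⟩)
    simp only [commutatorElement_def, Subgroup.coe_mul, Subgroup.coe_inv] at hc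
    have ee : a * b = a * b * a⁻¹ * b⁻¹ * (b * a) := by group
    rcases hc with hc | hc
    · left; rw [ee, hc, one_mul]
    · right; rw [ee, hc, hmem.1 ((Subgroup.centralizer ({z} : Set G)).mul_mem hb' ha')]
  · intro q hq
    obtain ⟨hq', hqQ⟩ := hmap.1 hq
    have hc := hcen _ (CfsgLib.ExtraspecialBasic.pow_mem_center (p := 2) hQ (⟨_, hqQ⟩ : Q))
    simpa [pow_two] using hc
  · intro c hc hcq
    exact hmap.2 ⟨hmem.2 hc, hcent _ fun q hq =>
      Subtype.ext (hcq _ (hmap.2 ⟨q.2, hq⟩)).symm⟩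
  · refine ⟨e.toMonoidHom.comp (QuotientGroup.mk' Q),
      e.surjective.comp (QuotientGroup.mk'_surjective Q), fun c => ?_⟩
    rw [MonoidHom.comp_apply]
    show e (QuotientGroup.mk' Q c) = 1 ↔ _
    rw [MulEquiv.map_eq_one_iff, QuotientGroup.mk'_apply, QuotientGroup.eq_one_iff, hmap]
    exact ⟨fun hq => ⟨c.2, hq⟩, fun ⟨_, hq⟩ => hq⟩

theorem core_of_hyp {G : Type*} [Group G] [Finite G] (z : G) (hz : orderOf z = 2)
    (Q : Subgroup (Subgroup.centralizer ({z} : Set G))) [Q.Normal]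
    (hF : Cfsg.generalizedFittingSubgroup (Subgroup.centralizer ({z} : Set G)) = Q)
    (hQ : Cfsg.IsExtraspecial 2 Q) (hcard : Nat.card Q = 2 ^ 5)
    (e : (Subgroup.centralizer ({z} : Set G)) ⧸ Q ≃*
      Cfsg.Omega (ZMod 2) (Cfsg.quadFormMinus 1 (ZMod 2) 1 1))
    (hnwc : ∃ g : G, (∃ hq : g * z * g⁻¹ ∈ Subgroup.centralizer ({z} : Set G),
      (⟨g * z * g⁻¹, hq⟩ : Subgroup.centralizer ({z} : Set G)) ∈ Q) ∧ g * z * g⁻¹ ≠ z)
    (hcl : ∃ x y : G, orderOf x = 2 ∧ orderOf y = 2 ∧ ¬ IsConj x y) :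
    Core z (Q.map (Subgroup.centralizer ({z} : Set G)).subtype) := by
  classical
  obtain ⟨eA⟩ := omega_equiv
  have hcent : ∀ c : (Subgroup.centralizer ({z} : Set G)), (∀ q ∈ Q, q * c = c * q) → c ∈ Q := by
    intro c hc
    have hm : c ∈ Subgroup.centralizer (Cfsg.generalizedFittingSubgroup (Subgroup.centralizer ({z} : Set G)) : Set (Subgroup.centralizer ({z} : Set G))) := by
      rw [hF, Subgroup.mem_centralizer_iff]
      exact hc
    have := CfsgLib.Components.centralizer_generalizedFitting_le_self hm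
    rwa [hF] at this
  refine { toPreCore := pre_of_hyp z hz Q hcent hQ hcard (e.trans eA), hnwc := ?_, hcl := hcl }
  obtain ⟨g, ⟨hq, hgQ⟩, hne⟩ := hnwc
  exact ⟨_, ⟨⟨_, hq⟩, hgQ, rfl⟩, hne, isConj_iff.2 ⟨g, rfl⟩⟩

end CfsgLib.HallJanko
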