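import Cfsg.Agent.HallJanko.ThreeMain
import Mathlib.GroupTheory.SpecificGroups.Cyclic

/-!
# The Sylow 7-normaliser
-/

set_option autoImplicit false
set_option linter.style.haveILetI false

namespace CfsgLib.HallJanko

variable {G : Type*} [Group G] [Finite G] {z : G} {Q : Subgroup G}

namespace Loc

variable (h : Core z Q) (L : Loc z Q) {X0 : Subgroup G} (c : Comp h L X0)
include h c

theorem seven_main (D : Sylow 7 G) :
    Subgroup.centralizer ((D : Subgroup G) : Set G) = D ∧
      Nat.card (Subgroup.normalizer ((D : Subgroup G) : Set G)) = 42 ∧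
      ¬ IsMulCommutative (Subgroup.normalizer ((D : Subgroup G) : Set G)) := by
  classical
  haveI : Fact (Nat.Prime 7) := ⟨by norm_num⟩
  obtain ⟨hG, -, -⟩ := L.main h c
  have hD7 : Nat.card (D : Subgroup G) = 7 := by
    obtain ⟨n, hn⟩ := D.2.exists_card_eq
    have hidx : ¬ 7 ∣ (D : Subgroup G).index := D.not_dvd_index
    have hmul := Subgroup.card_mul_index (D : Subgroup G)
    rw [hn, hG] at hmul
    rw [hn]
    rcases n with _ | _ | n
    · exact absurd ⟨86400, by omega⟩ hidx
    · rfl
    · exact absurd ((pow_dvd_pow 7 (show 2 ≤ n + 2 by omega)).trans (Dvd.intro _ hmul))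
        (by norm_num)
  haveI : IsCyclic (D : Subgroup G) := isCyclic_of_prime_card hD7
  obtain ⟨⟨d, hd⟩, hd7⟩ := exists_prime_orderOf_dvd_card' (G := (D : Subgroup G)) 7
    (by rw [hD7])
  rw [Subgroup.orderOf_mk] at hd7
  have hzp : Subgroup.zpowers d = (D : Subgroup G) :=
    Subgroup.eq_of_le_of_card_ge (Subgroup.zpowers_le.2 hd) (by rw [hD7, Nat.card_zpowers, hd7])
  -- no element of prime order other than 7 commutes with `d`
  have hcomm : ∀ q : ℕ, q.Prime → q ∣ Nat.card (Subgroup.centralizer ({d} : Set G)) → q = 7 := by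
    intro q hq hqd
    haveI := Fact.mk hq
    obtain ⟨⟨x, hx⟩, hxo⟩ := exists_prime_orderOf_dvd_card' q hqd
    rw [Subgroup.orderOf_mk] at hxo
    have hxd : x * d = d * x := Subgroup.mem_centralizer_singleton_iff.1 hx
    have hdx : d ∈ Subgroup.centralizer ({x} : Set G) :=
      Subgroup.mem_centralizer_singleton_iff.2 hxd.symm
    have h7 : 7 ∣ Nat.card (Subgroup.centralizer ({x} : Set G)) :=
      hd7 ▸ Subgroup.orderOf_dvd_natCard _ hdx
    have hq' : q ∣ 604800 := hG ▸ hxo ▸ orderOf_dvd_natCard x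
    have hcases : q = 2 ∨ q = 3 ∨ q = 5 ∨ q = 7 := by
      rw [show (604800 : ℕ) = 2 ^ 7 * (3 ^ 3 * (5 ^ 2 * 7)) by norm_num] at hq'
      rcases (Nat.Prime.dvd_mul hq).1 hq' with e | e
      · exact Or.inl ((Nat.prime_dvd_prime_iff_eq hq Nat.prime_two).1 (hq.dvd_of_dvd_pow e))
      rcases (Nat.Prime.dvd_mul hq).1 e with e | e
      · exact Or.inr (Or.inl ((Nat.prime_dvd_prime_iff_eq hq Nat.prime_three).1 (hq.dvd_of_dvd_pow e)))
      rcases (Nat.Prime.dvd_mul hq).1 e with e | e
      · exact Or.inr (Or.inr (Or.inl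
          ((Nat.prime_dvd_prime_iff_eq hq (by norm_num)).1 (hq.dvd_of_dvd_pow e))))
      · exact Or.inr (Or.inr (Or.inr ((Nat.prime_dvd_prime_iff_eq hq (by norm_num)).1 e)))
    rcases hcases with rfl | rfl | rfl | rfl
    · exfalso
      have key : ∀ u : G, IsConj u x → Nat.card (Subgroup.centralizer ({x} : Set G)) =
          Nat.card (Subgroup.centralizer ({u} : Set G)) := by
        intro u hu
        obtain ⟨a, rfl⟩ := isConj_iff.1 hu
        refine (Nat.card_congr ((MulAut.conj a).toEquiv.subtypeEquiv fun y => ?_)).symm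
        rw [Subgroup.mem_centralizer_singleton_iff, Subgroup.mem_centralizer_singleton_iff]
        show y * u = u * y ↔ a * y * a⁻¹ * (a * u * a⁻¹) = a * u * a⁻¹ * (a * y * a⁻¹)
        exact (SemiconjBy.conj_iff (b := a)).symm
      rcases h.classes L.ht L.ht2 L.htQ hxo with e | e
      · rw [key z e, h.card_centralizer] at h7
        norm_num at h7
      · rw [key L.t e, L.card_X h c, L.card_X0 h c] at h7
        norm_num at h7
    · exfalso
      rcases (L.three_main h c).2 x hxo with e | e <;> rw [e] at h7 <;> norm_num at h7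
    · exact absurd hd7 ((L.five_main h c).2.2 x d hxo hxd.symm)
    · rfl
  have hC7 : Nat.card (Subgroup.centralizer ({d} : Set G)) = 7 := by
    obtain ⟨n, hn⟩ : ∃ n, n = Nat.card (Subgroup.centralizer ({d} : Set G)) := ⟨_, rfl⟩
    have hn0 : n ≠ 0 := hn ▸ Nat.card_pos.ne'
    have e := Nat.eq_prime_pow_of_unique_prime_dvd hn0 (p := 7)
      fun {q} hq hqd => hcomm q hq (hn ▸ hqd)
    have hdvd : n ∣ 604800 := hn ▸ hG ▸ Subgroup.card_subgroup_dvd_card _
    have h7 : 7 ∣ n := hn ▸ hd7 ▸ Subgroup.orderOf_dvd_natCard _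
      (Subgroup.mem_centralizer_singleton_iff.2 rfl)
    rw [← hn]
    obtain ⟨k, hk⟩ : ∃ k, k = n.primeFactorsList.length := ⟨_, rfl⟩
    rw [← hk] at e
    rw [e] at hdvd h7 ⊢
    rcases k with _ | _ | k
    · norm_num at h7
    · norm_num
    · exact absurd ((pow_dvd_pow 7 (show 2 ≤ k + 2 by omega)).trans hdvd) (by norm_num)
  have hC : Subgroup.centralizer ((D : Subgroup G) : Set G) = D := by
    have hle : (D : Subgroup G) ≤ Subgroup.centralizer ({d} : Set G) := by
      rw [← hzp, Subgroup.zpowers_le]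
      exact Subgroup.mem_centralizer_singleton_iff.2 rfl
    have heq := Subgroup.eq_of_le_of_card_ge hle (by rw [hC7, hD7])
    refine le_antisymm (fun g hg => ?_) fun g hg q hq => ?_
    · rw [heq]
      exact Subgroup.mem_centralizer_singleton_iff.2 (Subgroup.mem_centralizer_iff.1 hg d hd).symm
    · exact setLike_mul_comm hq hg
  set N := Subgroup.normalizer ((D : Subgroup G) : Set G) with hN
  have hle : (D : Subgroup G) ≤ N := Subgroup.le_normalizer
  have hm : Nat.card N ∣ 42 := by
    have hker : Nat.card (Subgroup.normalizerMonoidHom (D : Subgroup G)).ker = 7 := by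
      rw [Subgroup.normalizerMonoidHom_ker, hC,
        Nat.card_congr (Subgroup.subgroupOfEquivOfLe hle).toEquiv, hD7]
    have hr := Subgroup.card_subgroup_dvd_card
      (Subgroup.normalizerMonoidHom (D : Subgroup G)).range
    rw [IsCyclic.card_mulAut, hD7, Nat.totient_prime (by norm_num)] at hr
    have hmul := Subgroup.card_mul_index (Subgroup.normalizerMonoidHom (D : Subgroup G)).ker
    rw [hker, Subgroup.index_ker] at hmul
    rw [hN, ← hmul]
    exact mul_dvd_mul_left 7 hr
  have hN42 : Nat.card N = 42 := by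
    have e1 := Subgroup.card_mul_index N
    rw [show N.index = Nat.card (Sylow 7 G) from (Sylow.card_eq_index_normalizer D).symm, hG] at e1
    have hmod := card_sylow_modEq_one 7 G
    unfold Nat.ModEq at hmod
    have h7 : 7 ∣ Nat.card N := hD7 ▸ Subgroup.card_dvd_of_le hle
    obtain ⟨k, hk⟩ := h7
    rw [hk] at hm e1 ⊢
    obtain ⟨n, hn⟩ : ∃ n, n = Nat.card (Sylow 7 G) := ⟨_, rfl⟩
    rw [← hn] at e1 hmod
    have hk6 : k ≤ 6 := Nat.le_of_mul_le_mul_left (Nat.le_of_dvd (by norm_num) hm) (by norm_num)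
    interval_cases k <;> omega
  refine ⟨hC, hN42, fun hcN => ?_⟩
  have hsub : N ≤ Subgroup.centralizer ((D : Subgroup G) : Set G) := fun g hg q hq =>
    congrArg Subtype.val (hcN.is_comm.comm ⟨q, hle hq⟩ ⟨g, hg⟩)
  rw [hC] at hsub
  have := Subgroup.card_dvd_of_le hsub
  rw [hN42, hD7] at this
  norm_num at this

end Loc

end CfsgLib.HallJanko
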