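import Cfsg.Agent.HallJanko.Order
import Cfsg.Agent.Inv54.DihedralEight
import Cfsg.Agent.S0497

/-!
# The centraliser of an element of order 3 centralising `z`, and the order of `G`
-/

set_option autoImplicit false
set_option linter.style.haveILetI false

namespace CfsgLib.HallJanko

variable {G : Type*} [Group G] [Finite G] {z : G} {Q : Subgroup G}

namespace Frame

variable (h : PreCore z Q) (F : Frame z Q)
include h F

omit [Finite G] in
theorem comm_of_fix {s : G} (hs : s * z = z * s) (h3 : s * s * s = 1) {i : Fin 5}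
    (hi : (F.p hs : Equiv.Perm (Fin 5)) i = i) : s * F.a i = F.a i * s := by
  have e := F.act ⟨s, Subgroup.mem_centralizer_singleton_iff.2 hs⟩ i
  rw [hi] at e
  rcases e with e | e
  · calc s * F.a i = s * F.a i * s⁻¹ * s := by group
      _ = F.a i * s := by rw [e]
  · exfalso
    have hzs : Commute z s⁻¹ := (show Commute z s from hs.symm).inv_right
    have e2 : s * (s * F.a i * s⁻¹) * s⁻¹ = F.a i := by
      rw [e, show s * (F.a i * z) * s⁻¹ = s * F.a i * (z * s⁻¹) by group,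
        hzs.eq, ← mul_assoc, e, mul_assoc, h.zz, mul_one]
    have e3 : s * (s * (s * F.a i * s⁻¹) * s⁻¹) * s⁻¹ = F.a i * z := by rw [e2, e]
    rw [show s * (s * (s * F.a i * s⁻¹) * s⁻¹) * s⁻¹ = (s * s * s) * F.a i * (s * s * s)⁻¹ by group,
      h3, one_mul, inv_one, mul_one] at e3
    exact h.z_ne_one (mul_eq_left.1 e3.symm)

end Frame

/-- The centraliser of `s` is `3.A₆`. -/
structure Sig (z : G) (s : G) : Prop where
  card : Nat.card (Subgroup.centralizer ({s} : Set G)) = 1080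
  hom : ∃ φ : Subgroup.centralizer ({s} : Set G) →* alternatingGroup (Fin 6),
    Function.Surjective φ ∧ ∀ k, φ k = 1 ↔ (k : G) ∈ Subgroup.zpowers s
  invol : ∀ y : G, y * s = s * y → orderOf y = 2 → ∃ g : G, g * s = s * g ∧ g * y * g⁻¹ = z

namespace Loc

variable (h : PreCore z Q) (L : Loc z Q)
include h

omit [Finite G] in
theorem s_pow_eq_one {i : ℤ} (hi : L.s ^ i * L.s ^ i = 1) : L.s ^ i = 1 := by
  have h3 : L.s ^ i * L.s ^ i * L.s ^ i = 1 := by
    rw [← zpow_add, ← zpow_add, show i + i + i = 3 * i by ring, zpow_mul,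
      show L.s ^ (3 : ℤ) = L.s * L.s * L.s by rw [show (3 : ℤ) = 1 + 1 + 1 by norm_num, zpow_add, zpow_add, zpow_one], L.s_cube, one_zpow]
  rwa [hi, one_mul] at h3

theorem exists_j : ∃ j, j ≠ L.f ∧ L.s * L.F.a j = L.F.a j * L.s ∧
    ∀ q ∈ Q, q * L.s = L.s * q → Eqz z q 1 ∨ Eqz z q (L.F.a L.f) ∨ Eqz z q (L.F.a j) ∨
      Eqz z q (L.F.a L.f * L.F.a j) := by
  have hr1 : L.F.p L.hs ≠ 1 := fun e => h.not_mem_of_three L.hs3 ((L.F.ker_p h L.hs).1 e)
  have hr3 : L.F.p L.hs * L.F.p L.hs * L.F.p L.hs = 1 := by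
    rw [← map_mul, ← map_mul, ← map_one L.F.π]
    exact congrArg L.F.π (Subtype.ext L.s_cube)
  obtain ⟨j, hjf, hj, huniq⟩ :=
    Alt.three_fixed _ hr1 hr3 L.f (L.F.fix_of_commute h L.hs L.hsu)
  refine ⟨j, hjf, L.F.comm_of_fix h L.hs L.s_cube hj, fun q hq hqs => ?_⟩
  obtain ⟨T, hT⟩ : ∃ T : Equiv.Perm (Fin 5), T = (L.F.p L.hs : Equiv.Perm (Fin 5)) := ⟨_, rfl⟩
  rw [← hT] at huniq
  have hfix : L.s * q * L.s⁻¹ = q := by rw [← hqs, mul_inv_cancel_right]
  rcases L.F.cover q hq with e | ⟨i, e⟩ | ⟨i, k, hik, e⟩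
  · exact Or.inl e
  · have e2 := h.eqz_trans (h.eqz_conj (g := L.s) L.hs e)
      (L.F.act ⟨L.s, Subgroup.mem_centralizer_singleton_iff.2 L.hs⟩ i)
    rw [hfix] at e2
    have hi : T i = i := hT ▸ L.F.dist _ _ (h.eqz_trans (h.eqz_symm e2) e)
    rcases huniq i hi with rfl | rfl
    · exact Or.inr (Or.inl e)
    · exact Or.inr (Or.inr (Or.inl e))
  · have e2 := h.eqz_trans (h.eqz_conj (g := L.s) L.hs e) (L.F.act_mul h L.hs i k)
    rw [hfix, ← hT] at e2
    rcases L.F.pair _ _ _ _ hik (fun e' => hik (T.injective e'))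
      (h.eqz_trans (h.eqz_symm e) e2) with ⟨e3, e4⟩ | ⟨e3, e4⟩
    · rcases huniq i e3.symm with rfl | rfl <;> rcases huniq k e4.symm with rfl | rfl
      · exact absurd rfl hik
      · exact Or.inr (Or.inr (Or.inr e))
      · refine Or.inr (Or.inr (Or.inr (h.eqz_trans e (Or.inr ?_))))
        exact L.F.nc _ _ hik
      · exact absurd rfl hik
    · exfalso
      -- an element of order 3 cannot interchange two points
      have h3 : T (T (T i)) = i := by
        have := congrArg (fun g : alternatingGroup (Fin 5) => (g : Equiv.Perm (Fin 5)) i) hr3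
        rw [hT]
        exact this
      rw [← e4, ← e3] at h3
      exact hik (h3.symm.trans e4.symm)

theorem cent_zs {g : G} (hgz : g * z = z * g) (hgs : g * L.s = L.s * g) :
    ∃ i : ℕ, ∃ q ∈ Q, q * L.s = L.s * q ∧ g = L.s ^ i * q := by
  have hr1 : L.F.p L.hs ≠ 1 := fun e => h.not_mem_of_three L.hs3 ((L.F.ker_p h L.hs).1 e)
  have hr3 : L.F.p L.hs * L.F.p L.hs * L.F.p L.hs = 1 := by
    rw [← map_mul, ← map_mul, ← map_one L.F.π]
    exact congrArg L.F.π (Subtype.ext L.s_cube)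
  have hc : L.F.p hgz * L.F.p L.hs = L.F.p L.hs * L.F.p hgz := by
    rw [← map_mul, ← map_mul]; exact congrArg L.F.π (Subtype.ext hgs)
  have key : ∀ i : ℕ, L.F.p hgz = L.F.p L.hs ^ i →
      ∃ i : ℕ, ∃ q ∈ Q, q * L.s = L.s * q ∧ g = L.s ^ i * q := by
    intro i e
    have hm : (L.s ^ i)⁻¹ * g ∈ Q := by
      refine (L.F.ker ⟨_, (Subgroup.centralizer ({z} : Set G)).mul_mem
        ((Subgroup.centralizer ({z} : Set G)).inv_mem ((Subgroup.centralizer ({z} : Set G)).pow_mem
          (Subgroup.mem_centralizer_singleton_iff.2 L.hs) i))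
        (Subgroup.mem_centralizer_singleton_iff.2 hgz)⟩).1 ?_
      calc L.F.π _ = (L.F.p L.hs ^ i)⁻¹ * L.F.p hgz := by
            rw [← map_pow, ← map_inv, ← map_mul]
            exact congrArg L.F.π (Subtype.ext rfl)
        _ = 1 := by rw [e, inv_mul_cancel]
    exact ⟨i, _, hm, (((Commute.refl L.s).pow_left i).inv_left.mul_left hgs).eq,
      by rw [mul_inv_cancel_left]⟩
  rcases Alt.three_centralizer _ hr1 hr3 _ hc with e | e | e
  · exact key 0 (by rw [e, pow_zero])
  · exact key 1 (by rw [e, pow_one])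
  · exact key 2 (by rw [e, pow_two])

theorem sigma_cases_of (hpair : ∀ i, L.s * L.F.a i = L.F.a i * L.s →
    ∀ w, Eqz z w (L.F.a i) → ∃ k : G, k * L.s = L.s * k ∧ k * z * k⁻¹ = w) :
    Nat.card (Subgroup.centralizer ({L.s} : Set G)) = 504 ∨ Sig z L.s := by
  classical
  set K := Subgroup.centralizer ({L.s} : Set G) with hKdef
  have hK : ∀ {g : G}, g ∈ K ↔ g * L.s = L.s * g := Subgroup.mem_centralizer_singleton_iff
  obtain ⟨j, hjf, hjs, hcov⟩ := L.exists_j h
  let s' : K := ⟨L.s, hK.2 rfl⟩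
  let z' : K := ⟨z, hK.2 L.hs.symm⟩
  haveI hN : (Subgroup.zpowers s').Normal := ⟨fun a ha g => by
    obtain ⟨i, rfl⟩ := Subgroup.mem_zpowers_iff.1 ha
    have hc : Commute g s' := Subtype.ext (hK.1 g.2)
    rw [(hc.zpow_right i).eq, mul_inv_cancel_right]
    exact Subgroup.zpow_mem_zpowers _ _⟩
  let φ : K →* K ⧸ Subgroup.zpowers s' := QuotientGroup.mk' _
  have hφ : ∀ k, φ k = 1 ↔ k ∈ Subgroup.zpowers s' := fun k => QuotientGroup.eq_one_iff k
  have hφN : ∀ k : K, φ k = 1 → ∃ i : ℤ, L.s ^ i = (k : G) := by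
    intro k hk
    obtain ⟨i, rfl⟩ := Subgroup.mem_zpowers_iff.1 ((hφ k).1 hk)
    exact ⟨i, (SubgroupClass.coe_zpow s' i).symm⟩
  have hφQ : ∀ k : K, φ k = 1 → (k : G) ∈ Q → (k : G) = 1 := by
    intro k hk hkQ
    obtain ⟨i, hi⟩ := hφN k hk
    refine h.Q_three hkQ ?_
    rw [← hi, ← zpow_add, ← zpow_add, show i + i + i = 3 * i by ring, zpow_mul,
      show L.s ^ (3 : ℤ) = L.s * L.s * L.s by rw [show (3 : ℤ) = 1 + 1 + 1 by norm_num, zpow_add, zpow_add, zpow_one], L.s_cube, one_zpow]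
  have hz' : orderOf z' = 2 := by rw [Subgroup.orderOf_mk, h.hz]
  obtain ⟨zb, hzb⟩ : ∃ zb, zb = φ z' := ⟨_, rfl⟩
  have hzbo : orderOf zb = 2 := by
    refine CfsgLib.Small.orderOf_eq_two_iff_sq.2 ⟨fun e => h.z_ne_one ?_, ?_⟩
    · exact hφQ z' (hzb ▸ e) h.hzQ
    · rw [hzb, ← map_mul, CfsgLib.Small.mul_self_of_orderOf_two hz', map_one]
  have hcentK : ∀ g : K, φ g * zb = zb * φ g → (g : G) * z = z * g := by
    intro g hg
    have e : φ (g * z' * g⁻¹ * z'⁻¹) = 1 := by
      rw [map_mul, map_mul, map_mul, map_inv, map_inv, ← hzb, hg]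
      group
    obtain ⟨i, hi⟩ := hφN _ e
    have e1 : (g : G) * z * (g : G)⁻¹ = L.s ^ i * z := by
      rw [hi]
      show (g : G) * z * (g : G)⁻¹ = (g : G) * z * (g : G)⁻¹ * z⁻¹ * z
      group
    have hzs : Commute z (L.s ^ i) := (show Commute z L.s from L.hs.symm).zpow_right i
    have e2 := congrArg (fun x => x * x) e1
    rw [show (g : G) * z * (g : G)⁻¹ * ((g : G) * z * (g : G)⁻¹) = (g : G) * (z * z) * (g : G)⁻¹ by
      group, h.zz, mul_one, mul_inv_cancel, hzs.mul_mul_mul_comm, h.zz, mul_one] at e2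
    rw [L.s_pow_eq_one h e2.symm, one_mul] at e1
    exact mul_inv_eq_iff_eq_mul.1 e1
  have hmemC : ∀ x, x ∈ Subgroup.centralizer ({zb} : Set (K ⧸ Subgroup.zpowers s')) →
      ∃ q : K, (q : G) ∈ Q ∧ φ q = x := by
    intro x hx
    obtain ⟨g, rfl⟩ := QuotientGroup.mk'_surjective _ x
    obtain ⟨i, q, hq, hqs, hg⟩ := L.cent_zs h
      (hcentK g (Subgroup.mem_centralizer_singleton_iff.1 hx)) (hK.1 g.2)
    refine ⟨⟨q, hK.2 hqs⟩, hq, ?_⟩
    have e : g = s' ^ i * ⟨q, hK.2 hqs⟩ := Subtype.ext (by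
      rw [Subgroup.coe_mul, Subgroup.coe_pow]; exact hg)
    rw [e, map_mul, map_pow, (hφ s').2 (Subgroup.mem_zpowers _), one_pow, one_mul]
  -- the dihedral group
  let af : K := ⟨L.F.a L.f, hK.2 L.hsu.symm⟩
  let aj : K := ⟨L.F.a j, hK.2 hjs.symm⟩
  have haf : orderOf af = 2 :=
    CfsgLib.Small.orderOf_eq_two_iff_sq.2 ⟨fun e => L.F.ne_one _ (congrArg Subtype.val e),
      Subtype.ext (L.F.sq _)⟩
  have haj : orderOf aj = 2 :=
    CfsgLib.Small.orderOf_eq_two_iff_sq.2 ⟨fun e => L.F.ne_one _ (congrArg Subtype.val e),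
      Subtype.ext (L.F.sq _)⟩
  have hsq : af * aj * (af * aj) = z' := Subtype.ext (L.F.sq4 h L.f j hjf.symm)
  have hord : orderOf (af * aj) = 4 := by
    refine orderOf_eq_prime_pow (p := 2) (n := 1) ?_ ?_
    · rw [pow_one, pow_two, hsq]
      exact CfsgLib.Small.ne_one_of_orderOf_two hz'
    · rw [show (2 : ℕ) ^ (1 + 1) = 2 * 2 from rfl, pow_mul, pow_two (af * aj), hsq, pow_two,
        CfsgLib.Small.mul_self_of_orderOf_two hz']
  have hne : af ≠ aj := fun e => hjf.symm (L.F.dist _ _ (Or.inl (congrArg Subtype.val e)))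
  have e0 := CfsgLib.Small.closurePairEquivDihedral haf haj hne
  rw [hord] at e0
  set D := Subgroup.closure ({af, aj} : Set K) with hD
  have hDQ : ∀ d ∈ D, (d : G) ∈ Q := by
    intro d hd
    have hle : D ≤ Q.comap K.subtype := by
      rw [hD, Subgroup.closure_le]
      rintro x (rfl | rfl)
      exacts [L.F.mem _, L.F.mem _]
    exact hle hd
  let g0 : D →* Subgroup.centralizer ({zb} : Set (K ⧸ Subgroup.zpowers s')) :=
    (φ.comp D.subtype).codRestrict _ fun d => Subgroup.mem_centralizer_singleton_iff.2 (by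
      show φ (d : K) * zb = zb * φ (d : K)
      rw [hzb, ← map_mul, ← map_mul]
      exact congrArg φ (Subtype.ext (h.hQC _ (hDQ d d.2))))
  have hzD : z' ∈ D := hsq ▸ D.mul_mem
    (D.mul_mem (Subgroup.subset_closure (Or.inl rfl)) (Subgroup.subset_closure (Or.inr rfl)))
    (D.mul_mem (Subgroup.subset_closure (Or.inl rfl)) (Subgroup.subset_closure (Or.inr rfl)))
  have hQD : ∀ q : K, (q : G) ∈ Q → q ∈ D := by
    intro q hq
    have key : ∀ b : K, b ∈ D → Eqz z (q : G) b → q ∈ D := by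
      intro b hb e
      rcases e with e | e
      · rwa [Subtype.ext e]
      · rw [show q = b * z' from Subtype.ext e]; exact D.mul_mem hb hzD
    rcases hcov q hq (hK.1 q.2) with e | e | e | e
    · exact key 1 D.one_mem e
    · exact key af (Subgroup.subset_closure (Or.inl rfl)) e
    · exact key aj (Subgroup.subset_closure (Or.inr rfl)) e
    · exact key (af * aj)
        (D.mul_mem (Subgroup.subset_closure (Or.inl rfl)) (Subgroup.subset_closure (Or.inr rfl))) e
  have hg0 : Function.Bijective g0 := by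
    refine ⟨(injective_iff_map_eq_one g0).2 fun d hd => ?_, fun x => ?_⟩
    · exact Subtype.ext (Subtype.ext (hφQ d (congrArg Subtype.val hd) (hDQ d d.2)))
    · obtain ⟨q, hq, hqx⟩ := hmemC x x.2
      exact ⟨⟨q, hQD q hq⟩, Subtype.ext hqx⟩
  obtain ⟨rr, ss, hgens⟩ := CfsgLib.Inv54.DihedralEight.exists_gens zb hzbo
    ⟨(MulEquiv.ofBijective g0 hg0).symm.trans e0⟩
  have hconjC : ∀ x : K ⧸ Subgroup.zpowers s', orderOf x = 2 → x * zb = zb * x → IsConj zb x := by
    intro x hx hxz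
    obtain ⟨q, hq, rfl⟩ := hmemC x (Subgroup.mem_centralizer_singleton_iff.2 hxz)
    obtain ⟨hx1, hx2⟩ := CfsgLib.Small.orderOf_eq_two_iff_sq.1 hx
    have hqq : (q : G) * q = 1 := hφQ (q * q) (by rw [map_mul, hx2]) (Q.mul_mem hq hq)
    have key : ∀ i, L.s * L.F.a i = L.F.a i * L.s → Eqz z (q : G) (L.F.a i) → IsConj zb (φ q) := by
      intro i hi e
      obtain ⟨k, hk, hkz⟩ := hpair i hi _ e
      refine isConj_iff.2 ⟨φ ⟨k, hK.2 hk⟩, ?_⟩
      rw [hzb, ← map_inv, ← map_mul, ← map_mul]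
      exact congrArg φ (Subtype.ext hkz)
    rcases hcov q hq (hK.1 q.2) with e | e | e | e
    · rcases e with e | e
      · exact absurd (by rw [show q = 1 from Subtype.ext e, map_one]) hx1
      · rw [hzb, show q = z' from Subtype.ext (e.trans (one_mul z))]
    · exact key _ L.hsu e
    · exact key _ hjs e
    · have := h.eqz_sq (Q.mul_mem (L.F.mem _) (L.F.mem _)) e
      rw [hqq, L.F.sq4 h _ _ hjf.symm] at this
      exact absurd this.symm h.z_ne_one
  have hs2 : orderOf ss = 2 := CfsgLib.Small.orderOf_eq_two_iff_sq.2 ⟨hgens.hs1, hgens.hs⟩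
  have hsr2 : orderOf (ss * rr) = 2 := by
    refine CfsgLib.Small.orderOf_eq_two_iff_sq.2 ⟨fun e => ?_, ?_⟩
    · have h1 := eq_inv_of_mul_eq_one_right e
      rw [inv_eq_of_mul_eq_one_left hgens.hs] at h1
      exact hgens.hsr.1 h1.symm
    · rw [← mul_assoc, hgens.hsrs, inv_mul_cancel]
  have hc1 : IsConj zb ss := hconjC ss hs2 hgens.hsC
  have hc2 : IsConj zb (ss * rr) :=
    hconjC _ hsr2 ((show Commute ss zb from hgens.hsC).mul_left hgens.hrC).eq
  obtain ⟨hsimp, hcard⟩ := hgens.one_class hc1 hc2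
  haveI := hsimp
  have hKcard : Nat.card K = 3 * Nat.card (K ⧸ Subgroup.zpowers s') := by
    rw [Subgroup.card_eq_card_quotient_mul_card_subgroup (Subgroup.zpowers s'), Nat.card_zpowers,
      Subgroup.orderOf_mk, L.hs3, mul_comm]
  rcases hcard with h168 | h360
  · exact Or.inl (by rw [hKcard, h168])
  right
  obtain ⟨e6⟩ := Cfsg.Agent.S0497.result h360
  refine ⟨by rw [← hKdef, hKcard, h360],
    ⟨e6.toMonoidHom.comp φ, e6.surjective.comp (QuotientGroup.mk'_surjective _), fun k => ?_⟩, ?_⟩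
  · rw [MonoidHom.comp_apply]
    show e6 (φ k) = 1 ↔ _
    rw [e6.map_eq_one_iff, hφ, Subgroup.mem_zpowers_iff, Subgroup.mem_zpowers_iff]
    exact exists_congr fun i => ⟨fun e => by rw [← e]; simp [s'], fun e => Subtype.ext (by
      rw [← e]; simp [s'])⟩
  · intro y hys hy
    obtain ⟨hy1, hy2⟩ := CfsgLib.Small.orderOf_eq_two_iff_sq.1 hy
    have hyo : orderOf (φ ⟨y, hK.2 hys⟩) = 2 := by
      refine CfsgLib.Small.orderOf_eq_two_iff_sq.2 ⟨fun e => ?_, ?_⟩
      · obtain ⟨i, hi⟩ := hφN _ e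
        have hi' : L.s ^ i = y := hi
        exact hy1 (hi'.symm.trans (L.s_pow_eq_one h (by rw [hi']; exact hy2)))
      · rw [← map_mul]
        exact (congrArg φ (Subtype.ext hy2)).trans (map_one φ)
    have hconj : IsConj (φ ⟨y, hK.2 hys⟩) zb := by
      rcases hgens.exists_conj_five hyo with e | e | e
      exacts [e.symm, (hc1.trans e).symm, (hc2.trans e).symm]
    obtain ⟨c, hc⟩ := isConj_iff.1 hconj
    obtain ⟨g, rfl⟩ := QuotientGroup.mk'_surjective _ c
    refine ⟨(g : G), hK.1 g.2, ?_⟩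
    have e : φ (g * ⟨y, hK.2 hys⟩ * g⁻¹ * z'⁻¹) = 1 := by
      rw [map_mul, map_mul, map_mul, map_inv, map_inv, ← hzb]
      exact mul_inv_eq_one.2 hc
    obtain ⟨i, hi⟩ := hφN _ e
    have e1 : (g : G) * y * (g : G)⁻¹ = L.s ^ i * z := by
      rw [hi]
      show (g : G) * y * (g : G)⁻¹ = (g : G) * y * (g : G)⁻¹ * z⁻¹ * z
      group
    have hzs : Commute z (L.s ^ i) := (show Commute z L.s from L.hs.symm).zpow_right i
    have e2 := congrArg (fun x => x * x) e1
    rw [show (g : G) * y * (g : G)⁻¹ * ((g : G) * y * (g : G)⁻¹) = (g : G) * (y * y) * (g : G)⁻¹ by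
      group, hy2, mul_one, mul_inv_cancel, hzs.mul_mul_mul_comm, h.zz, mul_one] at e2
    rwa [L.s_pow_eq_one h e2.symm, one_mul] at e1

omit h in
theorem pair_conj (h : Core z Q) (L : Loc z Q) {i : Fin 5} (hi : L.s * L.F.a i = L.F.a i * L.s) {w : G}
    (hw : Eqz z w (L.F.a i)) : ∃ k : G, k * L.s = L.s * k ∧ k * z * k⁻¹ = w := by
  obtain ⟨L', hF, hf, hs⟩ := L.F.exists_loc h i L.hs L.hs3 hi
  have hrs : Commute L'.r L.s := hs ▸ L'.hrs
  have hrz : L'.r * z * L'.r⁻¹ = L.F.a i := by rw [L'.hrz, hF, hf]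
  have hru : L'.r * L.F.a i * L'.r⁻¹ = L.F.a i * z := by
    have := L'.hru
    rwa [hF, hf] at this
  rcases hw with e | e
  · exact ⟨L'.r, hrs.eq, hrz.trans e.symm⟩
  · refine ⟨L'.r * L'.r, (hrs.mul_left hrs).eq, ?_⟩
    rw [e, show L'.r * L'.r * z * (L'.r * L'.r)⁻¹ = L'.r * (L'.r * z * L'.r⁻¹) * L'.r⁻¹ by group,
      hrz, hru]

omit h in
theorem sigma_cases (h : Core z Q) (L : Loc z Q) :
    Nat.card (Subgroup.centralizer ({L.s} : Set G)) = 504 ∨ Sig z L.s :=
  L.sigma_cases_of h.toPreCore fun _ hi _ hw => L.pair_conj h hi hw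

end Loc

namespace Core

variable (h : Core z Q)
include h

theorem cent_five {g c : G} (hg : g * z = z * g) (h5 : orderOf g = 5) (hc : c * z = z * c)
    (hcg : c * g = g * c) : ∃ i : ℕ, c = g ^ i ∨ c = g ^ i * z := by
  obtain ⟨F⟩ := h.exists_frame
  have hg5 : g * g * g * g * g = 1 := by
    have := pow_orderOf_eq_one g
    rwa [h5, pow_succ, pow_succ, pow_succ, pow_two] at this
  have ha1 : F.p hg ≠ 1 := fun e => by
    have := h.hcard ▸ Subgroup.orderOf_dvd_natCard Q ((F.ker_p h hg).1 e)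
    rw [h5] at this
    norm_num at this
  have ha5 : F.p hg * F.p hg * F.p hg * F.p hg * F.p hg = 1 := by
    simp only [← map_mul]
    rw [← map_one F.π]
    exact congrArg F.π (Subtype.ext hg5)
  have hcc : F.p hc * F.p hg = F.p hg * F.p hc := by
    rw [← map_mul, ← map_mul]; exact congrArg F.π (Subtype.ext hcg)
  obtain ⟨i, hi⟩ : ∃ i : ℕ, F.p hc = F.p hg ^ i := by
    rcases Alt.five_centralizer _ ha1 ha5 _ hcc with e | e | e | e | e
    · exact ⟨0, by rw [e, pow_zero]⟩
    · exact ⟨1, by rw [e, pow_one]⟩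
    · exact ⟨2, by rw [e, pow_two]⟩
    · exact ⟨3, by rw [e, pow_succ, pow_two]⟩
    · exact ⟨4, by rw [e, pow_succ, pow_succ, pow_two]⟩
  set C := Subgroup.centralizer ({z} : Set G)
  have hm : (g ^ i)⁻¹ * c ∈ Q := by
    refine (F.ker ⟨_, C.mul_mem (C.inv_mem (C.pow_mem
      (Subgroup.mem_centralizer_singleton_iff.2 hg) i))
      (Subgroup.mem_centralizer_singleton_iff.2 hc)⟩).1 ?_
    calc F.π _ = (F.p hg ^ i)⁻¹ * F.p hc := by
          rw [← map_pow, ← map_inv, ← map_mul]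
          exact congrArg F.π (Subtype.ext rfl)
      _ = 1 := by rw [hi, inv_mul_cancel]
  have hfix : g * ((g ^ i)⁻¹ * c) * g⁻¹ = (g ^ i)⁻¹ * c := by
    rw [((Commute.refl g).pow_right i).inv_right.mul_right (show Commute g c from hcg.symm) |>.eq,
      mul_inv_cancel_right]
  refine ⟨i, ?_⟩
  rcases h.fixed_five hg h5 hm hfix with e | e
  · exact Or.inl (inv_mul_eq_one.1 e).symm
  · exact Or.inr (by rw [← e, mul_inv_cancel_left])

/-- No involution conjugate to `z` inverts an element of order 5 that is centralised by one. -/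
theorem not_inverted {f y x : G} (hf : orderOf f = 5) (hy : IsConj z y) (hx : IsConj z x)
    (hxf : x * f = f * x) (hyf : y * f * y⁻¹ = f⁻¹) : False := by
  classical
  haveI := Fintype.ofFinite G
  haveI := Fact.mk Nat.prime_two
  have hy2 := h.orderOf_two hy
  have hyy := CfsgLib.Small.mul_self_of_orderOf_two hy2
  have hyi : y⁻¹ = y := CfsgLib.Small.inv_eq_self_of_orderOf_two hy2
  -- first: no such element commutes with such an involution commuting with `f`
  have key : ∀ w, IsConj z w → w * f = f * w → y * w ≠ w * y := by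
    intro w hw hwf hyw
    obtain ⟨g, rfl⟩ := isConj_iff.1 hw
    have hf' : g⁻¹ * f * g * z = z * (g⁻¹ * f * g) := by
      calc g⁻¹ * f * g * z = g⁻¹ * (f * (g * z * g⁻¹)) * g := by group
        _ = z * (g⁻¹ * f * g) := by rw [← hwf]; group
    have hy' : g⁻¹ * y * g * z = z * (g⁻¹ * y * g) := by
      calc g⁻¹ * y * g * z = g⁻¹ * (y * (g * z * g⁻¹)) * g := by group
        _ = z * (g⁻¹ * y * g) := by rw [hyw]; group
    have hyQ : g⁻¹ * y * g ∈ Q :=
      h.mem_of_isConj hy' (hy.trans (isConj_iff.2 ⟨g⁻¹, by group⟩))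
    have hyf2 : g⁻¹ * f * g * (g⁻¹ * y * g) * (g⁻¹ * f * g)⁻¹ ∈ Q := h.hn _ hf' _ hyQ
    have hprod := Q.mul_mem (Q.inv_mem hyQ) hyf2
    have e : (g⁻¹ * y * g)⁻¹ * (g⁻¹ * f * g * (g⁻¹ * y * g) * (g⁻¹ * f * g)⁻¹) =
        g⁻¹ * (y * f * y⁻¹) * f⁻¹ * g := by
      rw [mul_inv_rev, mul_inv_rev, inv_inv, hyi]
      group
    rw [e, hyf, mul_assoc g⁻¹ f⁻¹, ← pow_two] at hprod
    have hd := h.hcard ▸ Subgroup.orderOf_dvd_natCard Q hprod
    rw [show g⁻¹ * f⁻¹ ^ 2 * g = g⁻¹ * f⁻¹ ^ 2 * g⁻¹⁻¹ by rw [inv_inv],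
      CfsgLib.Small.orderOf_conj_eq, inv_pow, orderOf_inv,
      Nat.Coprime.orderOf_pow (by rw [hf]; norm_num), hf] at hd
    norm_num at hd
  set D := Subgroup.centralizer ({f} : Set G) with hDdef
  have hD : ∀ {g : G}, g ∈ D ↔ g * f = f * g := Subgroup.mem_centralizer_singleton_iff
  let x' : D := ⟨x, hD.2 hxf⟩
  have hx2 := h.orderOf_two hx
  obtain ⟨R, hR⟩ := (IsPGroup.of_card (p := 2) (n := 1)
    (show Nat.card (Subgroup.zpowers x') = 2 ^ 1 by
      rw [Nat.card_zpowers, Subgroup.orderOf_mk, hx2, pow_one])).exists_le_sylow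
  -- centraliser of `x` in `D`
  have hsmall : ∀ d : D, (d : G) * x = x * d → IsPGroup 2 (Subgroup.zpowers d) →
      d = 1 ∨ d = x' := by
    intro d hdx hd
    obtain ⟨g, hg⟩ := isConj_iff.1 hx
    subst hg
    obtain ⟨i, e⟩ := h.cent_five (g := g⁻¹ * f * g) (c := g⁻¹ * (d : G) * g)
      (by
        calc g⁻¹ * f * g * z = g⁻¹ * (f * (g * z * g⁻¹)) * g := by group
          _ = z * (g⁻¹ * f * g) := by rw [← hxf]; group)
      (by rw [show g⁻¹ * f * g = g⁻¹ * f * g⁻¹⁻¹ by group, CfsgLib.Small.orderOf_conj_eq, hf])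
      (by
        calc g⁻¹ * (d : G) * g * z = g⁻¹ * ((d : G) * (g * z * g⁻¹)) * g := by group
          _ = z * (g⁻¹ * (d : G) * g) := by rw [hdx]; group)
      (by
        calc g⁻¹ * (d : G) * g * (g⁻¹ * f * g) = g⁻¹ * ((d : G) * f) * g := by group
          _ = g⁻¹ * f * g * (g⁻¹ * (d : G) * g) := by rw [hD.1 d.2]; group)
    obtain ⟨n, hn⟩ := hd.exists_card_eq
    rw [Nat.card_zpowers, ← Subgroup.orderOf_coe] at hn
    have hfi : f ^ i = 1 := by
      rw [show (g⁻¹ * f * g) ^ i = g⁻¹ * f ^ i * g by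
        rw [show g⁻¹ * f * g = g⁻¹ * f * g⁻¹⁻¹ by group, conj_pow, inv_inv]] at e
      have hfi5 : (f ^ i) ^ 5 = 1 := by rw [← pow_mul, mul_comm, pow_mul, ← hf, pow_orderOf_eq_one, one_pow]
      have hd2 : (d : G) ^ (2 ^ n) = 1 := by rw [← hn, pow_orderOf_eq_one]
      have hfi2 : (f ^ i) ^ (2 ^ (n + 1)) = 1 := by
        rcases e with e | e
        · have e' : (d : G) = f ^ i := mul_left_cancel (mul_right_cancel e)
          rw [← e', pow_succ 2 n, pow_mul, hd2, one_pow]
        · have e' : (d : G) = f ^ i * (g * z * g⁻¹) := by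
            calc (d : G) = g * (g⁻¹ * (d : G) * g) * g⁻¹ := by group
              _ = f ^ i * (g * z * g⁻¹) := by rw [e]; group
          have hcom : Commute (f ^ i) (g * z * g⁻¹) := (show Commute f (g * z * g⁻¹) from hxf.symm).pow_left i
          have : f ^ i = (d : G) * (g * z * g⁻¹) := by
            rw [e', mul_assoc, CfsgLib.Small.mul_self_of_orderOf_two hx2, mul_one]
          rw [this, (show Commute (d : G) (g * z * g⁻¹) from hdx).mul_pow, pow_succ 2 n, pow_mul,
            hd2, one_pow, one_mul, mul_comm, pow_mul, pow_two,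
            CfsgLib.Small.mul_self_of_orderOf_two hx2, one_pow]
      exact orderOf_eq_one_iff.1 (Nat.eq_one_of_dvd_coprimes
        (Nat.Coprime.pow_left (n + 1) (by norm_num : Nat.Coprime 2 5))
        (orderOf_dvd_of_pow_eq_one hfi2) (orderOf_dvd_of_pow_eq_one hfi5))
    rw [show (g⁻¹ * f * g) ^ i = g⁻¹ * f ^ i * g by
      rw [show g⁻¹ * f * g = g⁻¹ * f * g⁻¹⁻¹ by group, conj_pow, inv_inv], hfi] at e
    rcases e with e | e
    · refine Or.inl (Subtype.ext ?_)
      calc (d : G) = g * (g⁻¹ * (d : G) * g) * g⁻¹ := by group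
        _ = 1 := by rw [e]; group
    · refine Or.inr (Subtype.ext ?_)
      calc (d : G) = g * (g⁻¹ * (d : G) * g) * g⁻¹ := by group
        _ = g * z * g⁻¹ := by rw [e]; group
  have hR2 : (R : Subgroup D) = Subgroup.zpowers x' := by
    refine le_antisymm ?_ hR
    have hxR : x' ∈ (R : Subgroup D) := hR (Subgroup.mem_zpowers _)
    have hp : ∀ d ∈ (R : Subgroup D), IsPGroup 2 (Subgroup.zpowers d) := fun d hd =>
      R.2.to_le (by rw [Subgroup.zpowers_le]; exact hd)
    haveI : Nontrivial (R : Subgroup D) := ⟨⟨⟨x', hxR⟩, 1, fun e =>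
      CfsgLib.Small.ne_one_of_orderOf_two hx2
        (congrArg (fun w : (R : Subgroup D) => ((w : D) : G)) e)⟩⟩
    haveI := R.2.center_nontrivial
    obtain ⟨⟨w, hw⟩, hw1⟩ := exists_ne (1 : Subgroup.center (R : Subgroup D))
    have hwx : (w : D) = x' := (hsmall (w : D)
      (congrArg (fun v : (R : Subgroup D) => ((v : D) : G))
        (Subgroup.mem_center_iff.1 hw ⟨x', hxR⟩)).symm (hp _ w.2)).resolve_left
          fun e => hw1 (Subtype.ext (Subtype.ext e))
    intro d hd
    have hdx : (d : G) * x = x * d := by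
      have := congrArg (fun v : (R : Subgroup D) => ((v : D) : G))
        (Subgroup.mem_center_iff.1 hw ⟨d, hd⟩)
      simp only [Subgroup.coe_mul] at this
      rwa [hwx] at this
    rcases hsmall d hdx (hp d hd) with rfl | rfl
    · exact Subgroup.one_mem _
    · exact Subgroup.mem_zpowers _
  let W := {w : G // w * f = f * w ∧ orderOf w = 2}
  have hRcard : Nat.card (R : Subgroup D) = 2 := by
    rw [hR2, Nat.card_zpowers, Subgroup.orderOf_mk, hx2]
  have hcardS : ∀ S : Sylow 2 D, Nat.card (S : Subgroup D) = 2 := fun S => by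
    rw [Nat.card_congr (Sylow.equiv S R).toEquiv, hRcard]
  have hinvS : ∀ w : W, ∃ S : Sylow 2 D, (⟨w.1, hD.2 w.2.1⟩ : D) ∈ (S : Subgroup D) := by
    intro w
    obtain ⟨S, hS⟩ := (IsPGroup.of_card (p := 2) (n := 1)
      (show Nat.card (Subgroup.zpowers (⟨w.1, hD.2 w.2.1⟩ : D)) = 2 ^ 1 by
        rw [Nat.card_zpowers, Subgroup.orderOf_mk, w.2.2, pow_one])).exists_le_sylow
    exact ⟨S, hS (Subgroup.mem_zpowers _)⟩
  choose toS htoS using hinvS
  have hW : ∀ w : W, IsConj z w.1 := by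
    intro w
    obtain ⟨g, hg⟩ := MulAction.exists_smul_eq D (toS w) R
    have hmem : g * ⟨w.1, hD.2 w.2.1⟩ * g⁻¹ ∈ (R : Subgroup D) := by
      rw [← hg, Sylow.coe_subgroup_smul]
      exact ⟨_, htoS w, rfl⟩
    rw [hR2] at hmem
    obtain ⟨m, hm⟩ := Subgroup.mem_zpowers_iff.1 hmem
    have hm' : g * ⟨w.1, hD.2 w.2.1⟩ * g⁻¹ = x' := by
      rw [← zpow_mod_orderOf, show orderOf x' = 2 from by rw [Subgroup.orderOf_mk, hx2]] at hm
      rcases Int.emod_two_eq_zero_or_one m with e | e <;> simp only [Nat.cast_ofNat, e] at hm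
      · rw [zpow_zero] at hm
        exact absurd (congrArg Subtype.val (conj_eq_one_iff.1 hm.symm))
          (CfsgLib.Small.ne_one_of_orderOf_two w.2.2)
      · rw [zpow_one] at hm; exact hm.symm
    exact hx.trans (isConj_iff.2 ⟨(g : G), congrArg Subtype.val hm'⟩).symm
  have hWodd : Nat.card W % 2 = 1 := by
    have hbij : Function.Bijective toS := by
      constructor
      · intro a b e
        have hb := htoS b
        rw [← e] at hb
        obtain ⟨w0, -, huniq⟩ := (Nat.card_eq_two_iff' (1 : (toS a : Subgroup D))).1 (hcardS (toS a))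
        have hne : ∀ (c : W) (hc : (⟨c.1, hD.2 c.2.1⟩ : D) ∈ (toS a : Subgroup D)),
            (⟨_, hc⟩ : (toS a : Subgroup D)) ≠ 1 := fun c hc e' =>
          CfsgLib.Small.ne_one_of_orderOf_two c.2.2
            (congrArg (fun v : (toS a : Subgroup D) => ((v : D) : G)) e')
        exact Subtype.ext (congrArg (fun v : (toS a : Subgroup D) => ((v : D) : G))
          ((huniq _ (hne a (htoS a))).trans (huniq _ (hne b hb)).symm))
      · intro S
        haveI : Nontrivial (S : Subgroup D) := Finite.one_lt_card_iff_nontrivial.1 (by rw [hcardS S]; norm_num)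
        obtain ⟨d, hd⟩ := exists_ne (1 : (S : Subgroup D))
        have hd2 : orderOf ((d : D) : G) = 2 := by
          rw [Subgroup.orderOf_coe, Subgroup.orderOf_coe]
          have := orderOf_dvd_natCard d
          rw [hcardS S] at this
          exact ((Nat.dvd_prime Nat.prime_two).1 this).resolve_left
            fun e => hd (orderOf_eq_one_iff.1 e)
        let w : W := ⟨((d : D) : G), hD.1 (d : D).2, hd2⟩
        refine ⟨w, ?_⟩
        obtain ⟨w0, -, huniq⟩ := (Nat.card_eq_two_iff' (1 : (toS w : Subgroup D))).1 (hcardS (toS w))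
        refine Sylow.ext (le_antisymm (fun v hv => ?_) (fun v hv => ?_))
        · by_cases hv1 : v = 1
          · rw [hv1]; exact (S : Subgroup D).one_mem
          · have e1 := huniq ⟨v, hv⟩ fun e => hv1 (congrArg Subtype.val e)
            have e2 := huniq ⟨(d : D), htoS w⟩ fun e => hd (Subtype.ext (Subtype.ext
              (congrArg (fun u : (toS w : Subgroup D) => ((u : D) : G)) e)))
            rw [show v = (d : D) from congrArg Subtype.val (e1.trans e2.symm)]
            exact d.2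
        · obtain ⟨w1, -, huniq'⟩ := (Nat.card_eq_two_iff' (1 : (S : Subgroup D))).1 (hcardS S)
          by_cases hv1 : v = 1
          · rw [hv1]; exact (toS w : Subgroup D).one_mem
          · have e1 := huniq' ⟨v, hv⟩ fun e => hv1 (congrArg Subtype.val e)
            have e2 := huniq' d hd
            rw [show v = (d : D) from congrArg Subtype.val (e1.trans e2.symm)]
            exact htoS w
    rw [Nat.card_eq_of_bijective toS hbij]
    exact card_sylow_modEq_one 2 D
  let θ : W → W := fun w => ⟨y * w.1 * y⁻¹, by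
    refine ⟨?_, by rw [CfsgLib.Small.orderOf_conj_eq, w.2.2]⟩
    have hf' : y⁻¹ * f * y = f⁻¹ := by rw [hyi]; rwa [hyi] at hyf
    calc y * w.1 * y⁻¹ * f = y * (w.1 * (y⁻¹ * f * y)) * y⁻¹ := by group
      _ = y * ((y⁻¹ * f * y) * w.1) * y⁻¹ := by
        rw [hf', ((show Commute w.1 f from w.2.1).inv_right).eq]
      _ = f * (y * w.1 * y⁻¹) := by group⟩
  have hmod := Equiv.Perm.card_fixedPoints_modEq (p := 2) (n := 1) (f := θ) (by
    funext w
    apply Subtype.ext
    show y * (y * w.1 * y⁻¹) * y⁻¹ = w.1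
    calc y * (y * w.1 * y⁻¹) * y⁻¹ = y * y * w.1 * (y * y)⁻¹ := by group
      _ = w.1 := by rw [hyy, one_mul, inv_one, mul_one])
  have hpos : 0 < Fintype.card (Function.fixedPoints θ) := by
    by_contra h0
    rw [show Fintype.card (Function.fixedPoints θ) = 0 by omega, ← Nat.card_eq_fintype_card] at hmod
    unfold Nat.ModEq at hmod
    omega
  obtain ⟨⟨w, hw⟩⟩ := Fintype.card_pos_iff.1 hpos
  have e : y * w.1 * y⁻¹ = w.1 := congrArg Subtype.val hw
  exact key w.1 (hW w) w.2.1 (mul_inv_eq_iff_eq_mul.1 e)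

end Core

namespace Loc

variable (h : Core z Q) (L : Loc z Q) {X0 : Subgroup G} (c : Comp h L X0)
include h c

theorem main :
    Nat.card G = 604800 ∧ Nonempty (X0 ≃* alternatingGroup (Fin 5)) ∧ Sig z L.s := by
  rcases L.order_cases h c with ⟨-, hG⟩ | ⟨hA, hG⟩
  · exfalso
    rcases L.sigma_cases h with h504 | hsig
    · have := Subgroup.card_subgroup_dvd_card (Subgroup.centralizer ({L.s} : Set G))
      rw [h504, hG] at this
      norm_num at this
    · haveI : Fact (Nat.Prime 5) := ⟨by norm_num⟩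
      obtain ⟨φ, hφ, hφk⟩ := hsig.hom
      obtain ⟨a, y, ha1, ha5, hy1, hy2, hya⟩ := Alt.six_real
      obtain ⟨A, hA'⟩ := hφ a
      obtain ⟨Y, hY'⟩ := hφ y
      have hs3 : ∀ k, φ k = 1 → (k : G) ^ 3 = 1 := by
        intro k hk
        obtain ⟨i, hi⟩ := Subgroup.mem_zpowers_iff.1 ((hφk k).1 hk)
        rw [← hi, ← zpow_natCast, ← zpow_mul, mul_comm, zpow_mul,
          show L.s ^ ((3 : ℕ) : ℤ) = L.s * L.s * L.s by
            rw [zpow_natCast, pow_succ, pow_two], L.s_cube, one_zpow]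
      obtain ⟨A6, hA6def⟩ : ∃ A6, A6 = A ^ 6 := ⟨_, rfl⟩
      obtain ⟨Y3, hY3def⟩ : ∃ Y3, Y3 = Y ^ 3 := ⟨_, rfl⟩
      have ha6 : φ A6 = a := by
        rw [hA6def, map_pow, hA', show a ^ 6 = a * a * a * a * a * a by
          simp only [pow_succ, pow_zero, one_mul], ha5, one_mul]
      have hy3 : φ Y3 = y := by
        rw [hY3def, map_pow, hY', pow_succ, pow_two, hy2, one_mul]
      have hA65 : (A6 : G) ^ 5 = 1 := by
        have := hs3 ((A ^ 5) * (A ^ 5)) (by
          rw [map_mul, map_pow, hA', show a ^ 5 = a * a * a * a * a by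
            simp only [pow_succ, pow_zero, one_mul], ha5, one_mul])
        rw [Subgroup.coe_mul, Subgroup.coe_pow, ← pow_add, ← pow_mul] at this
        rw [hA6def, Subgroup.coe_pow, ← pow_mul]
        exact this
      have hAo : orderOf (A6 : G) = 5 := orderOf_eq_prime hA65 fun e => ha1 (by
        rw [← ha6, show A6 = 1 from Subtype.ext e, map_one])
      have hY2 : (Y3 : G) * Y3 = 1 := by
        have := hs3 (Y * Y) (by rw [map_mul, hY', hy2])
        rw [Subgroup.coe_mul, ← pow_two, ← pow_mul] at this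
        rw [hY3def, Subgroup.coe_pow, ← pow_add]
        exact this
      have hYo : orderOf (Y3 : G) = 2 := CfsgLib.Small.orderOf_eq_two_iff_sq.2 ⟨fun e => hy1 (by
        rw [← hy3, show Y3 = 1 from Subtype.ext e, map_one]), hY2⟩
      have hinv : (Y3 : G) * A6 * (Y3 : G)⁻¹ = (A6 : G)⁻¹ := by
        have hk := hs3 (Y3 * A6 * Y3⁻¹ * A6) (by
          rw [map_mul, map_mul, map_mul, map_inv, hy3, ha6, hya, inv_mul_cancel])
        simp only [Subgroup.coe_mul, Subgroup.coe_inv] at hk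
        obtain ⟨i, hi⟩ := Subgroup.mem_zpowers_iff.1 ((hφk (Y3 * A6 * Y3⁻¹ * A6)).1 (by
          rw [map_mul, map_mul, map_mul, map_inv, hy3, ha6, hya, inv_mul_cancel]))
        simp only [Subgroup.coe_mul, Subgroup.coe_inv] at hi
        have hc : Commute (L.s ^ i) (A6 : G)⁻¹ := ((show Commute L.s (A6 : G) from
          (Subgroup.mem_centralizer_singleton_iff.1 A6.2).symm).zpow_left i).inv_right
        have e1 : (Y3 : G) * A6 * (Y3 : G)⁻¹ = L.s ^ i * (A6 : G)⁻¹ := by
          rw [hi, mul_inv_cancel_right]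
        have e5 : ((Y3 : G) * A6 * (Y3 : G)⁻¹) ^ 5 = 1 := by
          rw [conj_pow, hA65, mul_one, mul_inv_cancel]
        rw [e1, hc.mul_pow, inv_pow, hA65, inv_one, mul_one] at e5
        rw [← hi] at hk
        have : L.s ^ i = 1 := by
          have h1 : orderOf (L.s ^ i) = 1 := Nat.eq_one_of_dvd_coprimes
            (by norm_num : Nat.Coprime 5 3) (orderOf_dvd_of_pow_eq_one e5)
            (orderOf_dvd_of_pow_eq_one hk)
          exact orderOf_eq_one_iff.1 h1
        rw [e1, this, one_mul]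
      obtain ⟨g, -, hg⟩ := hsig.invol _ (Subgroup.mem_centralizer_singleton_iff.1 Y3.2) hYo
      have hYz : IsConj z (Y3 : G) := (isConj_iff.2 ⟨g, hg⟩).symm
      obtain ⟨f0, hf0z, hf05⟩ := h.exists_five
      have h5 : ∀ P : Sylow 5 G, Nat.card (P : Subgroup G) = 5 := fun P => by
        obtain ⟨n, hn⟩ := P.2.exists_card_eq
        have hd := Subgroup.card_subgroup_dvd_card (P : Subgroup G)
        have hidx : ¬ 5 ∣ (P : Subgroup G).index := P.not_dvd_index
        have hmul := Subgroup.card_mul_index (P : Subgroup G)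
        rw [hn, hG] at hd hmul
        rw [hn]
        rcases n with _ | _ | n
        · exact absurd ⟨10368, by omega⟩ hidx
        · rfl
        · exact absurd ((pow_dvd_pow 5 (show 2 ≤ n + 2 by omega)).trans hd) (by norm_num)
      have hsyl : ∀ w : G, orderOf w = 5 → ∃ P : Sylow 5 G, (P : Subgroup G) = Subgroup.zpowers w := by
        intro w hw
        obtain ⟨P, hP⟩ := (IsPGroup.of_card (p := 5) (n := 1)
          (show Nat.card (Subgroup.zpowers w) = 5 ^ 1 by rw [Nat.card_zpowers, hw, pow_one])).exists_le_sylow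
        exact ⟨P, (Subgroup.eq_of_le_of_card_ge hP (by rw [h5, Nat.card_zpowers, hw])).symm⟩
      obtain ⟨P, hP⟩ := hsyl (A6 : G) hAo
      obtain ⟨R, hR⟩ := hsyl f0 hf05
      obtain ⟨d, hd⟩ := MulAction.exists_smul_eq G R P
      have hm : d * f0 * d⁻¹ ∈ Subgroup.zpowers (A6 : G) := by
        rw [← hP, ← hd, Sylow.coe_subgroup_smul]
        exact ⟨f0, by show f0 ∈ (R : Subgroup G); rw [hR]; exact Subgroup.mem_zpowers _, rfl⟩
      have hle : Subgroup.zpowers (d * f0 * d⁻¹) = Subgroup.zpowers (A6 : G) :=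
        Subgroup.eq_of_le_of_card_ge (Subgroup.zpowers_le.2 hm) (by
          rw [Nat.card_zpowers, Nat.card_zpowers, CfsgLib.Small.orderOf_conj_eq, hAo, hf05])
      obtain ⟨i, hi⟩ := Subgroup.mem_zpowers_iff.1 (hle ▸ Subgroup.mem_zpowers (A6 : G))
      have hcomm : Commute (d * z * d⁻¹) (A6 : G) := by
        rw [← hi]
        exact ((SemiconjBy.conj_iff (b := d)).2 (show Commute z f0 from hf0z.symm)).zpow_right i
      exact h.not_inverted hAo hYz (isConj_iff.2 ⟨d, rfl⟩) hcomm.eq hinv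
  · refine ⟨hG, hA, (L.sigma_cases h).resolve_left fun h504 => ?_⟩
    obtain ⟨e⟩ := hA
    have hle : X0 ≤ Subgroup.centralizer ({L.s} : Set G) := fun y hy =>
      Subgroup.mem_centralizer_singleton_iff.2 (c.scomm ⟨e⟩ y hy).symm
    have := Subgroup.card_dvd_of_le hle
    rw [h504, Nat.card_congr e.toEquiv, nat_card_alternatingGroup, Nat.card_fin] at this
    norm_num [Nat.factorial] at this

end Loc

end CfsgLib.HallJanko
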