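import Cfsg.Agent.HallJanko.Setup
import Cfsg.Agent.HallJanko.NotWeak

/-!
# The frame of a simple group with two classes of involutions
-/

set_option autoImplicit false
set_option linter.style.haveILetI false

namespace CfsgLib.HallJanko

theorem core_of_simple {G : Type*} [Group G] [Finite G] [IsSimpleGroup G] (z : G)
    (hz : orderOf z = 2) (Q : Subgroup (Subgroup.centralizer ({z} : Set G))) [Q.Normal]
    (hQ : Cfsg.IsExtraspecial 2 Q) (hcard : Nat.card Q = 32)
    (hcent : Subgroup.centralizer (Q : Set (Subgroup.centralizer ({z} : Set G))) ≤ Q)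
    (e : (Subgroup.centralizer ({z} : Set G)) ⧸ Q ≃* alternatingGroup (Fin 5))
    (hcl : ∃ x y : G, orderOf x = 2 ∧ orderOf y = 2 ∧ ¬ IsConj x y) :
    Core z (Q.map (Subgroup.centralizer ({z} : Set G)).subtype) :=
  have h := pre_of_hyp z hz Q (fun _ hc => hcent (Subgroup.mem_centralizer_iff.2 hc)) hQ hcard e
  { toPreCore := h, hnwc := h.exists_conj_mem, hcl := hcl }

end CfsgLib.HallJanko
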