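import Cfsg.Agent.HallJanko.FiveMain
import Cfsg.Agent.FusionEssential.OrderCube
import Cfsg.Agent.Classification.SimpleThreeSixty.Model

/-!
# The Sylow 3-subgroups
-/

set_option autoImplicit false
set_option linter.style.haveILetI false

namespace CfsgLib.HallJanko

open scoped commutatorElement

variable {G : Type*} [Group G] [Finite G] {z : G} {Q : Subgroup G}

/-- The two non-trivial powers of an element of order 3. -/
theorem zpow_three_cases {H : Type*} [Group H] {s : H} (hs : s * s * s = 1) (i : ℤ) :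
    s ^ i = 1 ∨ s ^ i = s ∨ s ^ i = s⁻¹ := by
  have h3 : s ^ (3 : ℤ) = 1 := by
    rw [show (3 : ℤ) = 1 + 1 + 1 by norm_num, zpow_add, zpow_add, zpow_one, hs]
  rw [← Int.emod_add_mul_ediv i 3, zpow_add, zpow_mul, h3, one_zpow, mul_one]
  have h01 : i % 3 = 0 ∨ i % 3 = 1 ∨ i % 3 = 2 := by omega
  rcases h01 with e | e | e <;> rw [e]
  · exact Or.inl (zpow_zero s)
  · exact Or.inr (Or.inl (zpow_one s))
  · exact Or.inr (Or.inr (eq_inv_of_mul_eq_one_left (by rw [← zpow_add_one]; exact h3)))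

theorem card_sylow_three (hG : Nat.card G = 604800) [Fact (Nat.Prime 3)] (P : Sylow 3 G) :
    Nat.card (P : Subgroup G) = 27 := by
  obtain ⟨n, hn⟩ := P.2.exists_card_eq
  have hidx : ¬ 3 ∣ (P : Subgroup G).index := P.not_dvd_index
  have hmul := Subgroup.card_mul_index (P : Subgroup G)
  rw [hn, hG] at hmul
  rw [hn]
  rcases n with _ | _ | _ | _ | n
  · exact absurd ⟨201600, by omega⟩ hidx
  · exact absurd ⟨67200, by omega⟩ hidx
  · exact absurd ⟨22400, by omega⟩ hidx
  · rfl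
  · exact absurd ((pow_dvd_pow 3 (show 4 ≤ n + 4 by omega)).trans (Dvd.intro _ hmul))
      (by norm_num)

namespace Loc

variable (h : Core z Q) (L : Loc z Q) {X0 : Subgroup G} (c : Comp h L X0)
include h c

theorem three_in_cent_t {g : G} (hg : orderOf g = 3) (hgt : g * L.t = L.t * g) :
    IsConj g L.r := by
  obtain ⟨e⟩ := L.equiv_A5 h c
  have hg3 : g * g * g = 1 := by
    have := pow_orderOf_eq_one g
    rwa [hg, pow_succ, pow_two] at this
  obtain ⟨v, hv, hy⟩ := c.decomp g hgt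
  obtain ⟨y, hy'⟩ : ∃ y, y = v⁻¹ * g := ⟨_, rfl⟩
  rw [← hy'] at hy
  obtain rfl : g = v * y := by rw [hy', mul_inv_cancel_left]
  have hvy : Commute v y := c.vcomm v hv y hy
  have hvv := (L.V_comm h hv).2.2.2.2
  have e1 : v * y * (v * y) * (v * y) = v * (y * y * y) := by
    rw [hvy.symm.mul_mul_mul_comm, hvv, one_mul]
    calc y * y * (v * y) = (y * y * v) * y := by group
      _ = v * (y * y * y) := by rw [← (hvy.mul_right hvy).eq]; group
  rw [e1] at hg3
  have hv1 : v = 1 := c.inter v hv (by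
    rw [eq_inv_of_mul_eq_one_left hg3]
    exact X0.inv_mem (X0.mul_mem (X0.mul_mem hy hy) hy))
  rw [hv1, one_mul] at hg hg3 ⊢
  obtain ⟨g', hg'⟩ := Alt.three_conj (e ⟨y, hy⟩) (e ⟨L.r, c.memr⟩)
    (fun e' => by
      rw [show y = 1 from congrArg Subtype.val (e.map_eq_one_iff.1 e'), orderOf_one] at hg
      norm_num at hg)
    (by rw [← map_mul, ← map_mul, e.map_eq_one_iff]; exact Subtype.ext hg3)
    (fun e' => by
      have := L.hr3
      rw [show L.r = 1 from congrArg Subtype.val (e.map_eq_one_iff.1 e'), orderOf_one] at this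
      norm_num at this)
    (by rw [← map_mul, ← map_mul, e.map_eq_one_iff]; exact Subtype.ext L.r_cube)
  obtain ⟨x, rfl⟩ := e.surjective g'
  rw [← map_inv, ← map_mul, ← map_mul] at hg'
  exact isConj_iff.2 ⟨x, congrArg Subtype.val (e.injective hg')⟩

theorem card_cent_r : Nat.card (Subgroup.centralizer ({L.r} : Set G)) = 36 ∧
    ∀ g : G, ¬ IsConj g L.r ∨ g * z ≠ z * g ∨ (g ≠ L.s ∧ g ≠ L.s⁻¹) := by
  classical
  haveI : Fact (Nat.Prime 5) := ⟨by norm_num⟩
  obtain ⟨e⟩ := L.equiv_A5 h c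
  have hodd : Odd (orderOf L.r) := by rw [L.hr3]; decide
  have hr1 : L.r ≠ 1 := fun e' => by have := L.hr3; rw [e', orderOf_one] at this; norm_num at this
  have he1 : e ⟨L.r, c.memr⟩ ≠ 1 := fun e' => hr1 (congrArg Subtype.val (e.map_eq_one_iff.1 e'))
  have he3 : e ⟨L.r, c.memr⟩ * e ⟨L.r, c.memr⟩ * e ⟨L.r, c.memr⟩ = 1 := by
    rw [← map_mul, ← map_mul, e.map_eq_one_iff]; exact Subtype.ext L.r_cube
  have hK : CentK L.t L.r := L.centK h c c.memr hodd hr1 fun x hx hxr => by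
    rcases Alt.three_centralizer _ he1 he3 (e ⟨x, hx⟩) (by
      rw [← map_mul, ← map_mul]; exact congrArg e (Subtype.ext hxr)) with h' | h' | h'
    · rw [show x = 1 from congrArg Subtype.val (e.map_eq_one_iff.1 h')]
      exact Subgroup.one_mem _
    · rw [show x = L.r from congrArg Subtype.val (e.injective h')]
      exact Subgroup.mem_zpowers _
    · rw [← map_mul] at h'
      rw [show x = L.r * L.r from congrArg Subtype.val (e.injective h')]
      exact Subgroup.mul_mem _ (Subgroup.mem_zpowers _) (Subgroup.mem_zpowers _)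
  have hno : ∀ x : G, IsConj z x → x * L.r ≠ L.r * x := fun x hx hc => by
    obtain ⟨d, -, hd⟩ := hK.invol x hc (h.orderOf_two hx)
    exact L.nz h (hx.trans (isConj_iff.2 ⟨d, hd⟩))
  have hmove : ∀ g : G, IsConj g L.r → g * z = z * g → False := by
    intro g hg hgz
    obtain ⟨x, hx⟩ := isConj_iff.1 hg
    refine hno (x * z * x⁻¹) (isConj_iff.2 ⟨x, rfl⟩) ?_
    rw [← hx]
    exact ((SemiconjBy.conj_iff (b := x)).2 (show Commute z g from hgz.symm) : _)
  refine ⟨?_, fun g => ?_⟩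
  · rcases hK.cases with e' | ⟨h180, -⟩
    · rw [e', L.hr3]
    · exfalso
      rw [L.hr3] at h180
      obtain ⟨⟨u, hu⟩, hu5⟩ := exists_prime_orderOf_dvd_card'
        (G := Subgroup.centralizer ({L.r} : Set G)) 5 (by rw [h180]; norm_num)
      rw [Subgroup.orderOf_mk] at hu5
      obtain ⟨x, hx⟩ := (L.five_main h c).2.1 u L.r hu5 L.hr3
        (Subgroup.mem_centralizer_singleton_iff.1 hu).symm
      rcases hx with e' | e'
      · exact hmove L.s (isConj_iff.2 ⟨x, e'.symm⟩) L.hs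
      · exact hmove L.s⁻¹ (isConj_iff.2 ⟨x, e'.symm⟩)
          ((show Commute L.s z from L.hs).inv_left).eq
  · by_cases h1 : IsConj g L.r
    · exact Or.inr (Or.inl fun h2 => hmove g h1 h2)
    · exact Or.inl h1

theorem not_conj_sr : ¬ IsConj L.s L.r := fun e => by
  rcases (L.card_cent_r h c).2 L.s with h1 | h1 | h1
  · exact h1 e
  · exact h1 L.hs
  · exact h1.1 rfl

/-- `s` is real. -/
theorem s_real : ∃ g : G, g * L.s * g⁻¹ = L.s⁻¹ := by
  obtain ⟨P, f, w, y, F⟩ := L.exists_fivePt h c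
  obtain ⟨φ, hφ, hφk⟩ := F.homf
  let D := Subgroup.centralizer ({f} : Set G)
  let s' : D := ⟨L.s, Subgroup.mem_centralizer_singleton_iff.2 (L.scomm h c f F.fX)⟩
  have hs1 : φ s' ≠ 1 := fun e => by
    have := orderOf_dvd_of_mem_zpowers ((hφk _).1 e)
    rw [F.fo, show ((s' : D) : G) = L.s from rfl, L.hs3] at this
    norm_num at this
  have hs3 : φ s' * φ s' * φ s' = 1 := by
    rw [← map_mul, ← map_mul, ← map_one φ]; exact congrArg φ (Subtype.ext L.s_cube)
  obtain ⟨y0, -, -, hy⟩ := Alt.three_real _ hs1 hs3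
  obtain ⟨Y, rfl⟩ := hφ y0
  rw [← map_inv, ← map_inv, ← map_mul, ← map_mul] at hy
  have hk : φ (Y * s' * Y⁻¹ * s') = 1 := by rw [map_mul, hy, map_inv, inv_mul_cancel]
  obtain ⟨i, hi⟩ := Subgroup.mem_zpowers_iff.1 ((hφk _).1 hk)
  have hi' : f ^ i = (Y : G) * L.s * (Y : G)⁻¹ * L.s := hi
  have hc : Commute (f ^ i) L.s := (show Commute L.s f from L.scomm h c f F.fX).symm.zpow_left i
  refine ⟨Y, ?_⟩
  have e1 : (Y : G) * L.s * (Y : G)⁻¹ = f ^ i * L.s⁻¹ := by rw [hi', mul_inv_cancel_right]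
  have e3 : ((Y : G) * L.s * (Y : G)⁻¹) ^ 3 = 1 := by
    rw [conj_pow, ← L.hs3, pow_orderOf_eq_one, mul_one, mul_inv_cancel]
  rw [e1, (hc.inv_right).mul_pow, inv_pow, ← L.hs3, pow_orderOf_eq_one, inv_one, mul_one,
    L.hs3] at e3
  have hf1 : f ^ i = 1 := orderOf_eq_one_iff.1 (Nat.eq_one_of_dvd_coprimes
    (by norm_num : Nat.Coprime 3 5) (orderOf_dvd_of_pow_eq_one e3)
    (orderOf_dvd_of_pow_eq_one (by
      rw [← zpow_natCast, ← zpow_mul, mul_comm, zpow_mul, zpow_natCast, ← F.fo,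
        pow_orderOf_eq_one, one_zpow])))
  rw [e1, hf1, one_mul]

/-- A Sylow 3-subgroup of `G` inside `C(s)` containing `r`. -/
theorem exists_sylow_three : ∃ R : Sylow 3 G, L.r ∈ (R : Subgroup G) ∧ L.s ∈ (R : Subgroup G) ∧
    (∀ x ∈ (R : Subgroup G), x * L.s = L.s * x) ∧
    ¬ IsMulCommutative (R : Subgroup G) ∧
    (∀ x ∈ (R : Subgroup G), (∀ y ∈ (R : Subgroup G), x * y = y * x) →
      x ∈ Subgroup.zpowers L.s) ∧
    ∀ x ∈ (R : Subgroup G), ∀ y ∈ (R : Subgroup G), x * y * x⁻¹ * y⁻¹ ∈ Subgroup.zpowers L.s := by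
  classical
  haveI : Fact (Nat.Prime 3) := ⟨Nat.prime_three⟩
  obtain ⟨hG, -, hsig⟩ := L.main h c
  set K := Subgroup.centralizer ({L.s} : Set G) with hK
  have hKm : ∀ {g : G}, g ∈ K ↔ g * L.s = L.s * g := Subgroup.mem_centralizer_singleton_iff
  let r' : K := ⟨L.r, hKm.2 L.hrs⟩
  let s' : K := ⟨L.s, hKm.2 rfl⟩
  obtain ⟨R0, hR0⟩ := (IsPGroup.of_card (p := 3) (n := 1)
    (show Nat.card (Subgroup.zpowers r') = 3 ^ 1 by
      rw [Nat.card_zpowers, Subgroup.orderOf_mk, L.hr3, pow_one])).exists_le_sylow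
  haveI hN : (Subgroup.zpowers s').Normal := ⟨fun a ha g => by
    obtain ⟨i, rfl⟩ := Subgroup.mem_zpowers_iff.1 ha
    have hc : Commute g s' := Subtype.ext (hKm.1 g.2)
    rw [(hc.zpow_right i).eq, mul_inv_cancel_right]
    exact Subgroup.zpow_mem_zpowers _ _⟩
  have hs0 : s' ∈ (R0 : Subgroup K) :=
    (IsPGroup.of_card (p := 3) (n := 1) (show Nat.card (Subgroup.zpowers s') = 3 ^ 1 by
      rw [Nat.card_zpowers, Subgroup.orderOf_mk, L.hs3, pow_one])).le_sylow_of_normal R0
      (Subgroup.mem_zpowers s')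
  have h0 : Nat.card (R0 : Subgroup K) = 27 := by
    obtain ⟨n, hn⟩ := R0.2.exists_card_eq
    have hidx : ¬ 3 ∣ (R0 : Subgroup K).index := R0.not_dvd_index
    have hmul := Subgroup.card_mul_index (R0 : Subgroup K)
    rw [hn, hsig.card] at hmul
    rw [hn]
    rcases n with _ | _ | _ | _ | n
    · exact absurd ⟨360, by omega⟩ hidx
    · exact absurd ⟨120, by omega⟩ hidx
    · exact absurd ⟨40, by omega⟩ hidx
    · rfl
    · exact absurd ((pow_dvd_pow 3 (show 4 ≤ n + 4 by omega)).trans (Dvd.intro _ hmul))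
        (by norm_num)
  obtain ⟨R, hR⟩ := (R0.2.map K.subtype).exists_le_sylow
  have hRe : (R : Subgroup G) = (R0 : Subgroup K).map K.subtype :=
    (Subgroup.eq_of_le_of_card_ge hR (by
      rw [card_sylow_three hG R, ← Nat.card_congr
        ((R0 : Subgroup K).equivMapOfInjective _ K.subtype_injective).toEquiv, h0])).symm
  have hcs : ∀ x ∈ (R : Subgroup G), x * L.s = L.s * x := by
    intro x hx
    rw [hRe] at hx
    obtain ⟨k, -, rfl⟩ := hx
    exact hKm.1 k.2
  have hrR : L.r ∈ (R : Subgroup G) := by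
    rw [hRe]; exact ⟨r', hR0 (Subgroup.mem_zpowers r'), rfl⟩
  have hsR : L.s ∈ (R : Subgroup G) := by rw [hRe]; exact ⟨s', hs0, rfl⟩
  have hna : ¬ IsMulCommutative (R : Subgroup G) := by
    intro hc
    have hle : (R : Subgroup G) ≤ Subgroup.centralizer ({L.r} : Set G) := fun x hx =>
      Subgroup.mem_centralizer_singleton_iff.2
        (congrArg Subtype.val (hc.is_comm.comm ⟨x, hx⟩ ⟨L.r, hrR⟩))
    have := Subgroup.card_dvd_of_le hle
    rw [card_sylow_three hG R, (L.card_cent_r h c).1] at this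
    norm_num at this
  obtain ⟨hZ, hcom, -, -⟩ := CfsgLib.FusionEssential.center_of_card_cube
    (G := (R : Subgroup G)) (p := 3) (by rw [card_sylow_three hG R]; norm_num) hna
  have hzs : Subgroup.zpowers (⟨L.s, hsR⟩ : (R : Subgroup G)) =
      Subgroup.center (R : Subgroup G) :=
    Subgroup.eq_of_le_of_card_ge
      (Subgroup.zpowers_le.2 (Subgroup.mem_center_iff.2 fun x => Subtype.ext (hcs x x.2)))
      (by rw [hZ, Nat.card_zpowers, Subgroup.orderOf_mk, L.hs3])
  have hmem : ∀ x : (R : Subgroup G), x ∈ Subgroup.center (R : Subgroup G) →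
      (x : G) ∈ Subgroup.zpowers L.s := by
    intro x hx
    rw [← hzs] at hx
    obtain ⟨i, rfl⟩ := Subgroup.mem_zpowers_iff.1 hx
    simp
  refine ⟨R, hrR, hsR, hcs, hna, fun x hx hall => hmem ⟨x, hx⟩
    (Subgroup.mem_center_iff.2 fun y => Subtype.ext (hall y y.2).symm), fun x hx y hy => ?_⟩
  have := hmem ⁅(⟨x, hx⟩ : (R : Subgroup G)), ⟨y, hy⟩⁆ (hcom ▸ by
    rw [commutator_def]
    exact Subgroup.commutator_mem_commutator (Subgroup.mem_top _) (Subgroup.mem_top _))
  rwa [commutatorElement_def] at this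

/-- The elements `r s^i` and `r⁻¹ s^i` are conjugate to `r`. -/
theorem r_class (i : ℤ) : IsConj (L.r * L.s ^ i) L.r ∧ IsConj (L.r⁻¹ * L.s ^ i) L.r := by
  have hcr : Commute L.r L.s := L.hrs
  have main : ∀ i : ℤ, IsConj (L.r * L.s ^ i) L.r := by
    obtain ⟨R, hrR, -, hcs, hna, hcen, hcomm⟩ := L.exists_sylow_three h c
    obtain ⟨x, hx, hxr⟩ : ∃ x ∈ (R : Subgroup G), x * L.r ≠ L.r * x := by
      by_contra hcon
      push Not at hcon
      obtain ⟨j, hj⟩ := Subgroup.mem_zpowers_iff.1 (hcen L.r hrR fun y hy => (hcon y hy).symm)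
      refine ((L.card_cent_r h c).2 L.r).elim (fun e => e (IsConj.refl _)) fun e => e.elim ?_ ?_
      · intro e'
        exact e' (hj ▸ (show Commute L.s z from L.hs).zpow_left j).eq
      · rintro ⟨e1, e2⟩
        rcases zpow_three_cases L.s_cube j with e | e | e <;> rw [hj] at e
        · have := L.hr3
          rw [e, orderOf_one] at this
          norm_num at this
        · exact e1 e
        · exact e2 e
    obtain ⟨a, ha⟩ := Subgroup.mem_zpowers_iff.1 (hcomm x hx L.r hrR)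
    have e1 : x * L.r * x⁻¹ = L.r * L.s ^ a := by
      rw [(hcr.zpow_right a).eq, ha]
      group
    have hxs : Commute x (L.s ^ a) := (show Commute x L.s from hcs x hx).zpow_right a
    have e2 : x * x * L.r * (x * x)⁻¹ = L.r * L.s ^ (2 * a) := by
      calc x * x * L.r * (x * x)⁻¹ = x * (x * L.r * x⁻¹) * x⁻¹ := by group
        _ = x * (L.r * L.s ^ a) * x⁻¹ := by rw [e1]
        _ = x * L.r * x⁻¹ * (x * L.s ^ a * x⁻¹) := by group
        _ = L.r * L.s ^ (2 * a) := by
          rw [e1, hxs.eq, mul_inv_cancel_right, mul_assoc, ← zpow_add, two_mul]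
    intro i
    have hcases : L.s ^ i = 1 ∨ L.s ^ i = L.s ^ a ∨ L.s ^ i = L.s ^ (2 * a) := by
      have h2 : L.s ^ (2 * a) = L.s ^ a * L.s ^ a := by rw [two_mul, zpow_add]
      have hss : L.s * L.s = L.s⁻¹ := eq_inv_of_mul_eq_one_left L.s_cube
      have hii : L.s⁻¹ * L.s⁻¹ = L.s := by
        rw [← mul_inv_rev, hss, inv_inv]
      rcases zpow_three_cases L.s_cube i with e | e | e
      · exact Or.inl e
      all_goals
        rcases zpow_three_cases L.s_cube a with e' | e' | e'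
        · exfalso
          rw [e', mul_one] at e1
          exact hxr (mul_inv_eq_iff_eq_mul.1 e1)
        · first
            | exact Or.inr (Or.inl (e.trans e'.symm))
            | exact Or.inr (Or.inr (by rw [e, h2, e', hss]))
        · first
            | exact Or.inr (Or.inl (e.trans e'.symm))
            | exact Or.inr (Or.inr (by rw [e, h2, e', hii]))
    rcases hcases with e | e | e <;> rw [e]
    · rw [mul_one]
    · exact (isConj_iff.2 ⟨x, e1⟩).symm
    · exact (isConj_iff.2 ⟨x * x, e2⟩).symm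
  refine ⟨main i, ?_⟩
  have hri : IsConj L.r⁻¹ L.r :=
    L.three_in_cent_t h c (by rw [orderOf_inv, L.hr3]) ((show Commute L.r L.t from L.hrt).inv_left).eq
  obtain ⟨g, hg⟩ := isConj_iff.1 (main (-i))
  refine IsConj.trans (isConj_iff.2 ⟨g, ?_⟩) hri
  calc g * (L.r⁻¹ * L.s ^ i) * g⁻¹ = g * (L.s ^ i * L.r⁻¹) * g⁻¹ := by
        rw [((hcr.zpow_right i).inv_left).eq]
    _ = (g * (L.r * L.s ^ (-i)) * g⁻¹)⁻¹ := by group
    _ = L.r⁻¹ := by rw [hg]

end Loc

end CfsgLib.HallJanko
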